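import Mathlib
import Cfsg.Agent.Lib.Std.Alt1

/-! A double cover `L` of an alternating group which is normal in the centraliser of its central
involution `z`; pairs of commuting conjugates of `z`. -/

set_option autoImplicit false
set_option linter.style.haveILetI false

namespace H10.Std

open Subgroup Equiv Equiv.Perm

variable {G : Type*} [Group G] {Ω : Type*} [DecidableEq Ω] [Fintype Ω]

structure AS (z : G) (L : Subgroup G) (R : G → Perm Ω) : Prop where
  z2 : z * z = 1
  z1 : z ≠ 1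
  zL : z ∈ L
  le : ∀ l ∈ L, Commute l z
  nrm : ∀ c, Commute c z → ∀ l ∈ L, c * l * c⁻¹ ∈ L
  mul : ∀ {a b}, Commute a z → Commute b z → R (a * b) = R a * R b
  surj : ∀ σ, sign σ = 1 → ∃ l ∈ L, R l = σ
  even : ∀ l ∈ L, sign (R l) = 1
  ker : ∀ {c}, Commute c z → (R c = 1 ↔ c ∈ centralizer (L : Set G))
  cen : ∀ l ∈ L, l ∈ centralizer (L : Set G) → l = 1 ∨ l = z
  sq : ∀ l ∈ L, T22 (R l) → l * l = z

/-- a three-cycle of pairs -/
def X3 : Perm (Fin 3 × Bool) := Equiv.prodCongr (finRotate 3) (Equiv.refl _)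

namespace AS

variable {z : G} {L : Subgroup G} {R : G → Perm Ω}

theorem one (h : AS z L R) : R 1 = 1 := by
  simpa using h.mul (Commute.one_left z) (Commute.one_left z)

theorem inv (h : AS z L R) {a : G} (ha : Commute a z) : R a⁻¹ = (R a)⁻¹ :=
  eq_inv_of_mul_eq_one_left (by rw [← h.mul ha.inv_left ha, inv_mul_cancel, h.one])

theorem pow (h : AS z L R) {a : G} (ha : Commute a z) (n : ℕ) : R (a ^ n) = R a ^ n := by
  induction n with
  | zero => simpa using h.one
  | succ n ih => rw [pow_succ, h.mul (ha.pow_left n) ha, ih, pow_succ]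

theorem conj (h : AS z L R) {a b : G} (ha : Commute a z) (hb : Commute b z) :
    R (a * b * a⁻¹) = R a * R b * (R a)⁻¹ := by
  rw [h.mul (ha.mul_left hb) ha.inv_left, h.mul ha hb, h.inv ha]

theorem comm (h : AS z L R) {a b : G} (ha : Commute a z) (hb : Commute b z) (c : Commute a b) :
    Commute (R a) (R b) := by
  rw [Commute, SemiconjBy, ← h.mul ha hb, ← h.mul hb ha, c.eq]

theorem zK (h : AS z L R) : z ∈ centralizer (L : Set G) := mem_centralizer_iff.2 h.le

theorem Rz (h : AS z L R) : R z = 1 := (h.ker (.refl z)).2 h.zK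

theorem Kz (h : AS z L R) {k : G} (hk : k ∈ centralizer (L : Set G)) : Commute k z :=
  (mem_centralizer_iff.1 hk z h.zL).symm

theorem Rmz (h : AS z L R) {a : G} (ha : Commute a z) : R (a * z) = R a := by
  rw [h.mul ha (.refl z), h.Rz, mul_one]

theorem zinv (h : AS z L R) : z⁻¹ = z := inv_eq_of_mul_eq_one_left h.z2

theorem eq_or (h : AS z L R) {l l' : G} (hl : l ∈ L) (hl' : l' ∈ L) (e : R l = R l') :
    l = l' ∨ l = l' * z := by
  have m := mul_mem (inv_mem hl') hl
  rcases h.cen _ m ((h.ker (h.le _ m)).1 (by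
    rw [h.mul (h.le _ hl').inv_left (h.le _ hl), h.inv (h.le _ hl'), e, inv_mul_cancel])) with c | c
  · exact Or.inl (inv_mul_eq_one.1 c).symm
  · exact Or.inr (inv_mul_eq_iff_eq_mul.1 c)

theorem odd_z (h : AS z L R) {m : ℕ} (hm : Odd m) : z ^ m = z := by
  obtain ⟨k, rfl⟩ := hm
  rw [pow_succ, pow_mul, pow_two, h.z2, one_pow, one_mul]

theorem lp (h : AS z L R) {x c : G} (hx : x ∈ L) {m : ℕ} (hm : Odd m) (e : x ^ m = 1) (hc : Commute c z)
    (hR : Commute (R c) (R x)) : Commute c x := by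
  rcases h.eq_or (h.nrm c hc x hx) hx (by rw [h.conj hc (h.le x hx), hR.eq, mul_inv_cancel_right])
    with a | a
  · exact mul_inv_eq_iff_eq_mul.1 a
  · have := congrArg (· ^ m) a
    simp only [conj_pow, (h.le x hx).mul_pow, e, h.odd_z hm, mul_one, mul_inv_cancel, one_mul] at this
    exact absurd this.symm h.z1

theorem odd_lift (h : AS z L R) {σ : Perm Ω} {m : ℕ} (hm : Odd m) (e : σ ^ m = 1) :
    ∃ x ∈ L, R x = σ ∧ x ^ m = 1 := by
  obtain ⟨l, hl, rfl⟩ := h.surj σ (by
    have := congrArg sign e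
    rw [map_pow, map_one] at this
    rcases Int.units_eq_one_or (sign σ) with c | c
    · exact c
    · rw [c, hm.neg_one_pow] at this
      exact absurd this (by decide))
  rcases h.eq_or (pow_mem hl m) (one_mem L) (by rw [h.pow (h.le l hl), e, h.one]) with a | a
  · exact ⟨l, hl, rfl, a⟩
  · exact ⟨l * z, mul_mem hl h.zL, h.Rmz (h.le l hl), by
      rw [(h.le l hl).mul_pow, a, h.odd_z hm, one_mul, h.z2]⟩

theorem tr_of (h : AS z L R) {X A : Perm Ω} (hX : X ^ 3 = 1) (hA : T22 A)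
    (rel : A * (X * A * X⁻¹) = X * (X * A * X⁻¹) * X⁻¹) : ∃ x ∈ L, ∃ a ∈ L, R x = X ∧ R a = A ∧ Tr z x a ∧
      ∀ c, Commute c z → Commute (R c) X → Commute (R c) A → Commute c x ∧ Commute c a := by
  obtain ⟨x, hx, rfl, x3⟩ := h.odd_lift (by decide) hX
  have xz := h.le x hx
  obtain ⟨a, ha, rfl, T⟩ : ∃ a ∈ L, R a = A ∧ Tr z x a := by
    obtain ⟨a, ha, rfl⟩ := h.surj A hA.sign
    have az := h.le a ha
    have hb := h.nrm x xz a ha
    rcases h.eq_or (mul_mem ha hb) (h.nrm x xz _ hb) (by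
      rw [h.mul az (h.le _ hb), h.conj xz (h.le _ hb), h.conj xz az, rel]) with e | e
    · exact ⟨a, ha, rfl, x3, h.sq a ha hA, h.z2, xz, e⟩
    · refine ⟨a * z, mul_mem ha h.zL, h.Rmz az, x3, h.sq _ (mul_mem ha h.zL) (by rwa [h.Rmz az]), h.z2,
        xz, ?_⟩
      have e1 : ∀ b, x * (b * z) * x⁻¹ = x * b * x⁻¹ * z := fun b => by
        rw [mul_assoc (x * b), xz.inv_left.eq]; group
      rw [e1, e1, ← e, mul_assoc a z, ← mul_assoc z, ← (h.le _ hb).eq, mul_assoc _ z z, h.z2, mul_one]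
  refine ⟨x, hx, a, ha, rfl, rfl, T, fun c hc c1 c2 => ?_⟩
  have k1 := h.lp hx (by decide) x3 hc c1
  have k2 := h.lp (mul_mem (inv_mem hx) ha) (by decide) T.y3 hc (by
    rw [h.mul xz.inv_left (h.le a ha), h.inv xz]; exact c1.inv_right.mul_right c2)
  exact ⟨k1, by simpa using k1.mul_right k2⟩

theorem tr_ex (h : AS z L R) {ι : Type*} [DecidableEq ι] [Finite ι] (e : ι ↪ Ω) (X : Perm ι) {i j k l : ι}
    (hn : [i, j, k, l].Nodup) (hX : X ^ 3 = 1) (rel : swap i j * swap k l * (X * (swap i j * swap k l) * X⁻¹) =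
      X * (X * (swap i j * swap k l) * X⁻¹) * X⁻¹) : ∃ x ∈ L, ∃ a ∈ L, R x = ex e X ∧
      R a = ex e (swap i j * swap k l) ∧ Tr z x a ∧ ∀ c, Commute c z → ∀ τ : Perm ι,
      (∀ i, R c (e i) = e (τ i)) → Commute τ X → Commute τ (swap i j * swap k l) →
      Commute c x ∧ Commute c a := by
  obtain ⟨x, hx, a, ha, e1, e2, T, H⟩ := h.tr_of (X := ex e X) (by rw [← map_pow, hX, map_one]) (t22_ex e hn)
    (by simp only [← map_mul, ← map_inv, rel])
  exact ⟨x, hx, a, ha, e1, e2, T, fun c hc τ hτ c1 c2 => H c hc (ex_comm e hτ c1) (ex_comm e hτ c2)⟩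

theorem tr_pairs (h : AS z L R) (e : Fin 3 × Bool ↪ Ω) : ∃ x ∈ L, ∃ a ∈ L,
      R a = swap (e (0, false)) (e (0, true)) * swap (e (1, false)) (e (1, true)) ∧ Tr z x a ∧
      (∀ c, Commute c z → (∀ i, R c (e i) = e i) → Commute c x ∧ Commute c a) ∧
      ∀ c, Commute c z → (∀ i, R c (e i) = e (fl _ i)) → Commute c x ∧ Commute c a := by
  obtain ⟨x, hx, a, ha, -, e2, T, H⟩ := h.tr_ex e X3 (i := (0, false)) (j := (0, true)) (k := (1, false))
    (l := (1, true)) (by decide) (by decide) (by decide)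
  exact ⟨x, hx, a, ha, by rw [e2, map_mul, ex_swap, ex_swap], T,
    fun c hc hτ => H c hc 1 hτ (.one_left _) (.one_left _),
    fun c hc hτ => H c hc _ hτ (by unfold Commute SemiconjBy; decide) (by unfold Commute SemiconjBy; decide)⟩

theorem tr_fix (h : AS z L R) (e : Fin 4 ↪ Ω) : ∃ x ∈ L, ∃ a ∈ L,
      (∀ p, (∀ i, e i ≠ p) → R x p = p ∧ R a p = p) ∧ Tr z x a ∧
      ∀ c, Commute c z → (∀ i, R c (e i) = e i) → Commute c x ∧ Commute c a := by
  obtain ⟨x, hx, a, ha, e1, e2, T, H⟩ := h.tr_ex e (swap 0 1 * swap 1 2) (i := 0) (j := 1) (k := 2)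
    (l := 3) (by decide) (by decide) (by decide)
  exact ⟨x, hx, a, ha, fun p hp => by rw [e1, e2]; exact ⟨ex_out e _ hp, ex_out e _ hp⟩, T,
    fun c hc hτ => H c hc 1 hτ (.one_left _) (.one_left _)⟩

theorem sq1 (h : AS z L R) {t : G} (tz : Commute t z) (t2 : t * t = 1) : R t * R t = 1 := by
  rw [← h.mul tz tz, t2, h.one]

theorem exists_tr (h : AS z L R) (h8 : 8 ≤ Fintype.card Ω) {t : G} (tz : Commute t z) (t2 : t * t = 1) :
    ∃ x ∈ L, ∃ a ∈ L, Tr z x a ∧ Commute t x ∧ Commute t a := by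
  have := two_dvd_card_support ((pow_two _).trans (h.sq1 tz t2))
  by_cases c : 6 ≤ (R t).support.card
  · obtain ⟨e, he⟩ := exists_pairs (ι := Fin 3) (h.sq1 tz t2) (by simpa using c)
    obtain ⟨x, hx, a, ha, -, T, -, H⟩ := h.tr_pairs e
    exact ⟨x, hx, a, ha, T, H t tz he⟩
  · obtain ⟨e, he⟩ := exists_fixed (ι := Fin 4) (τ := R t) (by rw [Fintype.card_fin]; omega)
    obtain ⟨x, hx, a, ha, -, T, H⟩ := h.tr_fix e
    exact ⟨x, hx, a, ha, T, H t tz he⟩

theorem map_tr (h : AS z L R) {s x a : G} (T : Tr s x a) (xz : Commute x z) (az : Commute a z) :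
    Tr (R s) (R x) (R a) := by
  have sz : Commute s z := T.a2 ▸ az.mul_left az
  have bz := (xz.mul_left az).mul_left xz.inv_left
  refine ⟨by rw [← h.pow xz, T.x3, h.one], by rw [← h.mul az az, T.a2], by rw [← h.mul sz sz, T.s2, h.one],
    h.comm xz sz T.xs, ?_⟩
  rw [← h.conj xz az, ← h.conj xz bz, ← h.mul az bz, T.rel]

/-- involutions of type `2⁴` -/
theorem exists_u (h : AS z L R) {t : G} (tz : Commute t z) (t2 : t * t = 1) (h8 : (R t).support.card = 8) :
    ∃ u ∈ L, u * t * u⁻¹ = t * z ∧ (∀ c, Commute c z → (∀ p, R t p ≠ p → R c p = p) → Commute c u) ∧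
      ∃ l ∈ L, R l = R t ∧ l * l = 1 := by
  obtain ⟨e, he⟩ := exists_pairs (ι := Fin 4) (h.sq1 tz t2) (by simp [h8])
  have e0 := eq_ex e he (by decide) (by simp [h8])
  obtain ⟨x, hx, u, hu, e1, e2, T, H⟩ := h.tr_ex e (swap (0, true) (1, true) * swap (1, true) (1, false))
    (i := (0, false)) (j := (1, false)) (k := (0, true)) (l := (1, true)) (by decide) (by decide) (by decide)
  obtain ⟨y, hy, a, ha, -, e4, T', H'⟩ := h.tr_ex e (swap (2, true) (3, true) * swap (3, true) (3, false))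
    (i := (2, false)) (j := (2, true)) (k := (3, false)) (l := (3, true)) (by decide) (by decide) (by decide)
  have xz := h.le x hx
  have uz := h.le u hu
  have hb := h.nrm x xz u hu
  have xa := (H' x xz _ (fun i => by rw [e1, ex_apply]) (by unfold Commute SemiconjBy; decide)
    (by unfold Commute SemiconjBy; decide)).2
  have ua := (H' u uz _ (fun i => by rw [e2, ex_apply]) (by unfold Commute SemiconjBy; decide)
    (by unfold Commute SemiconjBy; decide)).2
  have ba := (xa.mul_left ua).mul_left xa.inv_left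
  have hl := mul_mem hb ha
  have e5 : R (x * u * x⁻¹ * a) = R t := by
    rw [h.mul (h.le _ hb) (h.le a ha), h.conj xz uz, e1, e2, e4, e0]
    rw [← map_inv, ← map_mul, ← map_mul, ← map_mul]
    exact congrArg (ex e) (by decide)
  have hk : t * (x * u * x⁻¹ * a)⁻¹ ∈ centralizer (L : Set G) := by
    rw [← h.ker (tz.mul_left (h.le _ hl).inv_left), h.mul tz (h.le _ hl).inv_left, h.inv (h.le _ hl), e5,
      mul_inv_cancel]
  refine ⟨u, hu, ?_, fun c hc hp => (H c hc 1 (fun i => hp _ ?_) (.one_left _) (.one_left _)).2, _, hl, e5, ?_⟩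
  · have e6 := mem_centralizer_iff.1 hk u hu
    have e7 := T.ba
    have e8 := (h.le a ha).eq
    have e9 := ua.eq
    generalize x * u * x⁻¹ = b at e6 e7
    have e10 : u * b = b * u * z := by rw [e7, mul_assoc _ z, h.z2, mul_one]
    calc _ = u * (t * (b * a)⁻¹) * b * a * u⁻¹ := by group
      _ = t * (b * a)⁻¹ * (u * b) * a * u⁻¹ := by rw [e6]; group
      _ = t * (b * a)⁻¹ * b * (u * (z * a)) * u⁻¹ := by rw [e10]; group
      _ = t * (b * a)⁻¹ * b * a * (u * z) * u⁻¹ := by rw [← e8, ← mul_assoc u, e9]; group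
      _ = _ := by rw [uz.eq]; group
  · rw [he]
    exact e.injective.ne (by revert i; decide)
  · rw [← pow_two, ba.mul_pow, pow_two, pow_two, T.b2, T'.a2, h.z2]

end AS

structure Pr (z t : G) (L L' : Subgroup G) (R R' : G → Perm Ω) : Prop where
  h : AS z L R
  h' : AS t L' R'
  ne : z ≠ t
  tz : Commute t z
  ti : ∀ k ∈ centralizer (L : Set G), k ∈ centralizer (L' : Set G) → k * k = 1 → k = 1
  link : ∀ c, c * z * c⁻¹ = t → ∀ k, k ∈ centralizer (L : Set G) ↔ c * k * c⁻¹ ∈ centralizer (L' : Set G)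

namespace Pr

variable {z t : G} {L L' : Subgroup G} {R R' : G → Perm Ω}

theorem symm (p : Pr z t L L' R R') : Pr t z L' L R' R :=
  ⟨p.h', p.h, p.ne.symm, p.tz.symm, fun k a b => p.ti k b a, fun c hc k => by
    rw [p.link c⁻¹ (by rw [← hc]; group)]
    simp [mul_assoc]⟩

theorem s_ne (p : Pr z t L L' R R') : R' z ≠ 1 := fun e =>
  p.h.z1 (p.ti z p.h.zK ((p.h'.ker p.tz.symm).1 e) p.h.z2)

theorem eight (p : Pr z t L L' R R') (h8 : 8 ≤ Fintype.card Ω) :
    8 ≤ (R' z).support.card ∧ 4 ∣ (R' z).support.card := by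
  obtain ⟨x, -, a, -, T, tx, ta⟩ := p.h.exists_tr h8 p.tz p.h'.z2
  have T' := p.h'.map_tr T tx.symm ta.symm
  refine ⟨T'.eight p.s_ne, four_dvd T'.s2 ?_⟩
  rw [← T'.a2, map_mul, Int.units_mul_self]

theorem not_fix (p : Pr z t L L' R R') {a : G} (ta : Commute a t) (e : a * a = z)
    (hf : ∀ q, R' z q ≠ q → R' a q = q) : False := p.s_ne (Equiv.ext fun q => by
  by_contra c
  have := hf q c
  exact c (by rw [← e, p.h'.mul ta ta, mul_apply, this, this, one_apply]))

theorem small (p : Pr z t L L' R R') (h8 : 8 ≤ Fintype.card Ω)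
    (hle : (R' z).support.card ≤ (R t).support.card) : Fintype.card Ω ≤ 11 := by
  have h := p.h
  have h' := p.h'
  have t2 := h.sq1 p.tz h'.z2
  obtain ⟨a8, a4⟩ := p.symm.eight h8
  by_cases c : (R t).support.card = 8
  · by_contra c'
    obtain ⟨e, he⟩ := exists_pairs (ι := Fin 3) t2 (by simp [c])
    obtain ⟨x, -, a, -, -, T, H, H'⟩ := h.tr_pairs e
    obtain ⟨tx, ta⟩ := H' t p.tz he
    obtain ⟨e', he'⟩ := exists_fixed (ι := Fin 4) (τ := R t) (by rw [Fintype.card_fin]; omega)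
    obtain ⟨x', hx', a', ha', F, T2, H2⟩ := h.tr_fix e'
    obtain ⟨tx', ta'⟩ := H2 t p.tz he'
    have d : ∀ i j, e' j ≠ e i := fun i j c => by
      have := he' j
      rw [c, he] at this
      exact (show ∀ i, fl (Fin 3) i ≠ i by decide) i (e.injective this)
    obtain ⟨c1, c2⟩ := H x' (h.le _ hx') fun i => (F _ (d i)).1
    obtain ⟨c3, c4⟩ := H a' (h.le _ ha') fun i => (F _ (d i)).2
    have T' := h'.map_tr T tx.symm ta.symm
    have k : ∀ v, v ^ 3 = 1 → Commute v t → Commute v x → Commute v a → ∀ q, R' z q ≠ q → R' v q = q :=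
      fun v v3 vt vx va q hq => T'.fix_of_prime Nat.prime_three (by decide) (by rw [← h'.pow vt, v3, h'.one])
        (h'.comm vt tx.symm vx) (h'.comm vt ta.symm va) (by omega) hq
    have ty := tx'.symm.inv_left.mul_left ta'.symm
    refine p.not_fix ta'.symm T2.a2 fun q hq => ?_
    rw [← mul_inv_cancel_left x' a', h'.mul tx'.symm ty, mul_apply,
      k _ T2.y3 ty (c1.inv_left.mul_left c3) (c2.inv_left.mul_left c4) q hq, k _ T2.x3 tx'.symm c1 c2 q hq]
  exfalso
  obtain ⟨q, hq, q1, q2⟩ := Nat.exists_prime_lt_and_le_two_mul (max 2 ((R t).support.card / 8)) (by omega)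
  have q3 : q ≠ 4 := by rintro rfl; exact absurd hq (by decide)
  haveI : NeZero q := ⟨hq.ne_zero⟩
  obtain ⟨e, he⟩ := exists_pairs (ι := Fin 3 ⊕ ZMod q) t2 (by simp; omega)
  let e1 : Fin 3 × Bool ↪ Ω := (Function.Embedding.prodMap .inl (.refl _)).trans e
  let e2 : ZMod q × Bool ↪ Ω := (Function.Embedding.prodMap .inr (.refl _)).trans e
  let j : Fin 3 ↪ ZMod q := ⟨fun i => (i : ℕ), fun i j c => by
    have := congrArg ZMod.val c
    rw [ZMod.val_cast_of_lt (by omega), ZMod.val_cast_of_lt (by omega)] at this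
    exact Fin.ext this⟩
  let e3 : Fin 3 × Bool ↪ Ω := (Function.Embedding.prodMap j (.refl _)).trans e2
  obtain ⟨x, -, a, -, -, T, H, H'⟩ := h.tr_pairs e1
  obtain ⟨tx, ta⟩ := H' t p.tz fun i => he _
  obtain ⟨x', -, a', ha', e4, -, -, H2⟩ := h.tr_pairs e3
  obtain ⟨-, ta'⟩ := H2 t p.tz fun i => he _
  let V : Perm (ZMod q × Bool) := Equiv.prodCongr (Equiv.addRight 1) (Equiv.refl _)
  have V1 : ∀ n : ℕ, ∀ i, (V ^ n) i = (i.1 + n, i.2) := fun n i => by
    induction n with
    | zero => simp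
    | succ n ih => rw [pow_succ', mul_apply, ih]; simp [V, add_assoc]
  have ho : Odd q := hq.odd_of_ne_two (by omega)
  obtain ⟨v, hv, e5, vq⟩ := h.odd_lift (σ := ex e2 V) ho (by
    rw [← map_pow, show V ^ q = 1 from Equiv.ext fun i => by simp [V1], map_one])
  have vz := h.le v hv
  have tv : Commute t v := h.lp hv ho vq p.tz (e5 ▸ ex_comm e2 (τ0 := fl _) (fun i => he _) rfl)
  obtain ⟨c1, c2⟩ := H v vz fun i => by
    rw [e5]
    exact ex_out _ _ fun k c => by simpa using congrArg Prod.fst (e.injective c)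
  have T' := h'.map_tr T tx.symm ta.symm
  have k : ∀ r, R' z r ≠ r → R' v r = r := fun r hr =>
    T'.fix_of_prime hq (by omega) (by rw [← h'.pow tv.symm, vq, h'.one])
      (h'.comm tv.symm tx.symm c1) (h'.comm tv.symm ta.symm c2) (by omega) hr
  have az := h.le a' ha'
  have m := mul_mem ha' (h.nrm v vz _ (inv_mem ha'))
  have at' := ta'.symm
  have wt := (tv.symm.mul_left at'.inv_left).mul_left tv.symm.inv_left
  refine p.not_fix (at'.mul_left wt) (h.sq _ m ?_) fun r hr => ?_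
  · have s : ∀ b, ex e2 V (e3 (0, b)) = e3 (1, b) ∧ ex e2 V (e3 (1, b)) = e3 (2, b) := fun b => by
      constructor <;> refine (ex_apply e2 V _).trans (congrArg e2 (Prod.ext ?_ rfl))
      · exact (Nat.cast_succ 0).symm
      · exact (Nat.cast_succ 1).symm
    rw [h.mul az (h.le _ (h.nrm v vz _ (inv_mem ha'))), h.conj vz az.inv_left, h.inv az, e4, e5,
      inv_eq_of_mul_eq_one_left (t22_swap (by
        exact (show [((0 : Fin 3), false), (0, true), (1, false), (1, true)].Nodup by decide).map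
          e3.injective)).1, ← conj_mul, ← swap_apply_apply, ← swap_apply_apply, (s _).1, (s _).1, (s _).2,
      (s _).2, mul_assoc, swap_mul_self_mul]
    exact t22_swap ((show [((0 : Fin 3), false), (0, true), (2, false), (2, true)].Nodup by decide).map
      e3.injective)
  · have := k _ (Tr.mv (h'.comm p.tz.symm at'.inv_left az.symm.inv_right) hr)
    rw [h'.mul at' wt, h'.conj tv.symm at'.inv_left, mul_apply, mul_apply, mul_apply,
      show (R' v)⁻¹ r = r from inv_eq_iff_eq.2 (k r hr).symm, this, h'.inv at']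
    simp

theorem le11 (p : Pr z t L L' R R') (h8 : 8 ≤ Fintype.card Ω) : Fintype.card Ω ≤ 11 :=
  (le_total _ _).elim (p.small h8) (p.symm.small h8)

theorem supp (p : Pr z t L L' R R') (h8 : 8 ≤ Fintype.card Ω) : (R' z).support.card = 8 := by
  have := p.eight h8
  have := p.le11 h8
  have := Finset.card_le_univ (R' z).support
  omega

theorem dec (p : Pr z t L L' R R') (h8 : 8 ≤ Fintype.card Ω) {k : G} (hk : k ∈ centralizer (L : Set G))
    (kt : Commute k t) : k ∈ centralizer (L' : Set G) ∨ k * z ∈ centralizer (L' : Set G) := by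
  obtain ⟨x, hx, a, ha, T, tx, ta⟩ := p.h.exists_tr h8 p.tz p.h'.z2
  obtain ⟨u, hu, e, -⟩ := p.h.exists_u p.tz p.h'.z2 (p.symm.supp h8)
  obtain ⟨u', -, e', H, -⟩ := p.h'.exists_u p.tz.symm p.h.z2 (p.supp h8)
  have key : ∀ k ∈ centralizer (L : Set G), Commute k t → (∀ q, R' z q ≠ q → R' k q = q) →
      k ∈ centralizer (L' : Set G) := fun k hk kt hf => by
    have c : Commute (u⁻¹ * u') k :=
      (Commute.inv_left (mem_centralizer_iff.1 hk u hu)).mul_left (H k kt hf).symm
    have := (p.link (u⁻¹ * u') (by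
      calc _ = u⁻¹ * (u' * z * u'⁻¹) * u := by group
        _ = _ := by rw [e', ← p.tz.eq, ← e]; group) k).1 hk
    rwa [c.eq, mul_inv_cancel_right] at this
  refine ((p.h'.map_tr T tx.symm ta.symm).cent (p.supp h8)
    (p.h'.comm kt tx.symm (mem_centralizer_iff.1 hk x hx).symm)
    (p.h'.comm kt ta.symm (mem_centralizer_iff.1 hk a ha).symm)).imp (key k hk kt) fun c => ?_
  exact key _ (mul_mem hk p.h.zK) (kt.mul_left p.tz.symm) (by rwa [p.h'.mul kt p.tz.symm])

theorem mem (p : Pr z t L L' R R') (h8 : 8 ≤ Fintype.card Ω) : t ∈ L := by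
  have h := p.h
  obtain ⟨-, -, -, -, l, hl, e, l2⟩ := h.exists_u p.tz p.h'.z2 (p.symm.supp h8)
  have lz := h.le l hl
  have hk : t * l⁻¹ ∈ centralizer (L : Set G) := by
    rw [← h.ker (p.tz.mul_left lz.inv_left), h.mul p.tz lz.inv_left, h.inv lz, e, mul_inv_cancel]
  have c : Commute l t := by
    simpa using Commute.mul_right (mem_centralizer_iff.1 hk l hl) (Commute.refl l)
  have k2 : t * l⁻¹ * (t * l⁻¹) = 1 := by
    rw [mul_assoc, ← mul_assoc l⁻¹, c.inv_left.eq, mul_assoc, ← mul_inv_rev, l2, inv_one, mul_one, p.h'.z2]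
  rcases p.dec h8 hk ((Commute.refl t).mul_left c.inv_left) with a | a
  · rwa [mul_inv_eq_one.1 (p.ti _ hk a k2)]
  · have := p.ti _ (mul_mem hk h.zK) a (by
      rw [mul_assoc, ← mul_assoc z, ← (h.Kz hk).eq, mul_assoc _ z z, h.z2, mul_one, k2])
    rw [mul_assoc, mul_eq_one_iff_eq_inv] at this
    rw [this]
    exact inv_mem (mul_mem (inv_mem hl) h.zL)

end Pr

end H10.Std
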