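import Mathlib
import Cfsg.Agent.S1754
import Cfsg.Agent.Lib.ZStar.Main

/-!
Intrinsic standard subgroups: `f : L →* G` embeds a group `L` with centre `{1, z0}`, the
centraliser of `f z0` normalises the image, and 2-subgroups centralising the image are cyclic.
-/

set_option autoImplicit false
set_option linter.style.haveILetI false

namespace H10.Std

open Cfsg Subgroup
open scoped commutatorElement

variable {L G : Type*} [Group L] [Group G]

/-- the centraliser of the image -/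
def KK (f : L →* G) : Subgroup G := centralizer (f.range : Set G)

theorem mem_KK {f : L →* G} {k : G} : k ∈ KK f ↔ ∀ a, f a * k = k * f a := by
  rw [KK, mem_centralizer_iff]
  exact ⟨fun h a => h _ ⟨a, rfl⟩, fun h _ ⟨a, e⟩ => e ▸ h a⟩

theorem KK.comm {f : L →* G} {k : G} (h : k ∈ KK f) (a : L) : f a * k = k * f a := mem_KK.1 h a

theorem KK.mul_mul {f : L →* G} {k k' : G} (h' : k' ∈ KK f) (a a' : L) :
    k * f a * (k' * f a') = k * k' * f (a * a') := by
  rw [map_mul, mul_assoc k, ← mul_assoc (f a), KK.comm h' a]; group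

theorem KK.pow {f : L →* G} {k : G} (h : k ∈ KK f) (a : L) (n : ℕ) :
    (k * f a) ^ n = k ^ n * f (a ^ n) := by
  rw [map_pow]; exact Commute.mul_pow (KK.comm h a).symm n

theorem KK.conj {f : L →* G} {k : G} (h : k ∈ KK f) (a b : L) :
    k * f a * f b * (k * f a)⁻¹ = f (a * b * a⁻¹) := by
  have := KK.comm h (a * b * a⁻¹)
  rw [mul_inv_rev, ← map_inv, mul_assoc k, mul_assoc k, ← mul_assoc (f a * f b), ← map_mul, ← map_mul,
    ← mul_assoc, ← this]
  group

structure Intr (f : L →* G) (z0 : L) : Prop where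
  inj : Function.Injective f
  cen : ∀ a : L, a ∈ center L ↔ a = 1 ∨ a = z0
  ord : orderOf z0 = 2
  nrm : ∀ g : G, g * f z0 = f z0 * g → ∀ a, ∃ b, g * f a * g⁻¹ = f b
  cyc : ∀ P : Subgroup G, P ≤ KK f → IsPGroup 2 P → IsCyclic P

theorem intr_of_standard [Finite G] {A : Subgroup G} (hA : IsStandardSubgroup A) (e : L ≃* A) {z0 : L}
    (cen : ∀ a : L, a ∈ center L ↔ a = 1 ∨ a = z0) (ord : orderOf z0 = 2)
    (hR : ∀ R : Sylow 2 ↥(centralizer (A : Set G)), IsCyclic (R : Subgroup ↥(centralizer (A : Set G)))) :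
    (A.subtype.comp e.toMonoidHom).range = A ∧ Intr (A.subtype.comp e.toMonoidHom) z0 := by
  have hr : (A.subtype.comp e.toMonoidHom).range = A := by
    ext x
    exact ⟨fun ⟨a, h⟩ => h ▸ (e a).2, fun h => ⟨e.symm ⟨x, h⟩, by simp⟩⟩
  have inj : Function.Injective (A.subtype.comp e.toMonoidHom) :=
    A.subtype_injective.comp e.injective
  refine ⟨hr, inj, cen, ord, fun g hg a => ?_, fun P hP hp => ?_⟩
  · have hz : (A.subtype.comp e.toMonoidHom) z0 ∈ centralizer (A : Set G) := by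
      have : (A.subtype.comp e.toMonoidHom) z0 ∈ KK (A.subtype.comp e.toMonoidHom) :=
        mem_KK.2 fun a => by rw [← map_mul, ← map_mul, mem_center_iff.1 ((cen z0).2 (Or.inr rfl)) a]
      rwa [KK, hr] at this
    have h1 := (Cfsg.Agent.S1754.result A hA _ ((orderOf_injective _ inj z0).trans ord) hz).1
      (mem_centralizer_singleton_iff.2 hg)
    have h2 := (mem_normalizer_iff.1 h1 _).1 (e a).2
    obtain ⟨b, hb⟩ := hr.ge h2
    exact ⟨b, hb.symm⟩
  · rw [KK, hr] at hP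
    haveI := Fact.mk Nat.prime_two
    obtain ⟨R, hR'⟩ := (hp.comap_subtype (K := centralizer (A : Set G))).exists_le_sylow
    haveI := hR R
    haveI : IsCyclic (P.subgroupOf (centralizer (A : Set G))) :=
      isCyclic_of_injective (inclusion hR') (inclusion_injective hR')
    exact isCyclic_of_surjective _ (subgroupOfEquivOfLe hP).surjective

namespace Intr

variable {f : L →* G} {z0 : L}

theorem z0_comm (h : Intr f z0) (a : L) : a * z0 = z0 * a :=
  mem_center_iff.1 ((h.cen z0).2 (Or.inr rfl)) a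

theorem z0_sq (h : Intr f z0) : z0 * z0 = 1 := by rw [← pow_two, ← h.ord, pow_orderOf_eq_one]

theorem z0_ne (h : Intr f z0) : z0 ≠ 1 := fun e => by
  have := h.ord; rw [e, orderOf_one] at this; omega

theorem ordz (h : Intr f z0) : orderOf (f z0) = 2 := (orderOf_injective f h.inj z0).trans h.ord

theorem z_sq (h : Intr f z0) : f z0 * f z0 = 1 := by rw [← map_mul, h.z0_sq, map_one]

theorem z_ne (h : Intr f z0) : f z0 ≠ 1 := fun e => h.z0_ne (h.inj (e.trans (map_one f).symm))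

theorem z_inv (h : Intr f z0) : (f z0)⁻¹ = f z0 := inv_eq_of_mul_eq_one_right h.z_sq

theorem f_mem_K (h : Intr f z0) {a : L} : f a ∈ KK f ↔ a = 1 ∨ a = z0 := by
  rw [← h.cen, mem_KK, mem_center_iff]
  exact forall_congr' fun b => by rw [← map_mul, ← map_mul, h.inj.eq_iff]

theorem z_mem_K (h : Intr f z0) : f z0 ∈ KK f := h.f_mem_K.2 (Or.inr rfl)

theorem f_comm_z (h : Intr f z0) (a : L) : f a * f z0 = f z0 * f a := KK.comm h.z_mem_K a

theorem K_comm_z (_h : Intr f z0) {k : G} (hk : k ∈ KK f) : k * f z0 = f z0 * k := (KK.comm hk z0).symm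

theorem dec_comm_z (h : Intr f z0) {k : G} (hk : k ∈ KK f) (a : L) :
    k * f a * f z0 = f z0 * (k * f a) := by
  rw [mul_assoc, h.f_comm_z, ← mul_assoc, h.K_comm_z hk, mul_assoc]

/-- `z` is the only involution centralising the image -/
theorem inv_eq [Finite G] (h : Intr f z0) {k : G} (hk : k ∈ KK f) (h2 : k * k = 1) :
    k = 1 ∨ k = f z0 := by
  by_contra hn
  rw [not_or] at hn
  have c : Commute k (f z0) := h.K_comm_z hk
  have hle : closure {k, f z0} ≤ KK f := by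
    rw [closure_le]; rintro _ (rfl | rfl); exacts [hk, h.z_mem_K]
  have sq : ∀ x ∈ closure ({k, f z0} : Set G), (x * x = 1 ∧ Commute x k) ∧ Commute x (f z0) := by
    intro x hx
    induction hx using closure_induction with
    | mem x hx => rcases hx with rfl | rfl; exacts [⟨⟨h2, rfl⟩, c⟩, ⟨⟨h.z_sq, c.symm⟩, rfl⟩]
    | one => simp
    | mul x y hx hy ihx ihy =>
      refine ⟨⟨?_, ihx.1.2.mul_left ihy.1.2⟩, ihx.2.mul_left ihy.2⟩
      have : Commute y x := by
        clear ihx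
        induction hx using closure_induction with
        | mem x hx => rcases hx with rfl | rfl; exacts [ihy.1.2, ihy.2]
        | one => simp
        | mul a b _ _ iha ihb => exact iha.mul_right ihb
        | inv a _ iha => exact iha.inv_right
      rw [mul_assoc, ← mul_assoc y, this.eq, mul_assoc, ihy.1.1, mul_one, ihx.1.1]
    | inv x _ ihx =>
      exact ⟨⟨by rw [← mul_inv_rev, ihx.1.1, inv_one], ihx.1.2.inv_left⟩, ihx.2.inv_left⟩
  have hp : IsPGroup 2 (closure ({k, f z0} : Set G)) := fun x =>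
    ⟨1, Subtype.ext (by simpa [pow_two] using (sq x x.2).1.1)⟩
  obtain ⟨g, hg⟩ := (h.cyc _ hle hp).exists_generator
  have key : ∀ x : closure ({k, f z0} : Set G), x = 1 ∨ x = g := by
    intro x
    obtain ⟨n, rfl⟩ := hg x
    have g2 : g ^ (2 : ℤ) = 1 := by
      rw [zpow_two]; exact Subtype.ext (sq g g.2).1.1
    rcases Int.even_or_odd' n with ⟨m, rfl | rfl⟩
    · left; show g ^ (2 * m) = 1; rw [zpow_mul, g2, one_zpow]
    · right; show g ^ (2 * m + 1) = g; rw [zpow_add, zpow_mul, g2, one_zpow, one_mul, zpow_one]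
  have a := key ⟨k, subset_closure (Or.inl rfl)⟩
  have b := key ⟨f z0, subset_closure (Or.inr rfl)⟩
  rcases a with a | a
  · exact hn.1 (congrArg Subtype.val a)
  · rcases b with b | b
    · exact h.z_ne (congrArg Subtype.val b)
    · exact hn.2 (congrArg Subtype.val (a.trans b.symm))

/-- commutators in the centraliser of the image have odd order -/
theorem odd_of_mem [Finite G] (h : Intr f z0) {x : KK f} (hx : x ∈ commutator (KK f)) :
    Odd (orderOf (x : G)) := by
  haveI := Fact.mk Nat.prime_two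
  obtain ⟨P⟩ : Nonempty (Sylow 2 (KK f)) := inferInstance
  have c : IsCyclic ((P : Subgroup (KK f)).map (KK f).subtype) :=
    h.cyc _ (map_subtype_le _) (P.isPGroup'.map _)
  have c' : IsCyclic (P : Subgroup (KK f)) :=
    isCyclic_of_surjective _ (equivMapOfInjective _ _ (KK f).subtype_injective).symm.surjective
  have hm : (Nat.card (KK f)).minFac = 2 := by
    rw [Nat.minFac_eq_two_iff, ← h.ordz]
    simpa using orderOf_dvd_natCard (⟨f z0, h.z_mem_K⟩ : KK f)
  have hx' : x ∈ (MonoidHom.transferSylow P (c'.normalizer_le_centralizer hm)).ker := by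
    refine (commutator_le.2 fun a _ b _ => ?_ : commutator (KK f) ≤ _) hx
    rw [MonoidHom.mem_ker, map_commutatorElement, commutatorElement_eq_one_iff_mul_comm]
    exact c'.commGroup.mul_comm _ _
  have := MonoidHom.not_dvd_card_ker_transferSylow P (c'.normalizer_le_centralizer hm)
  have d := orderOf_dvd_natCard
    (⟨x, hx'⟩ : (MonoidHom.transferSylow P (c'.normalizer_le_centralizer hm)).ker)
  rw [← Nat.not_even_iff_odd, even_iff_two_dvd]
  intro h2
  refine this (h2.trans ?_)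
  simpa using d

theorem odd_comm [Finite G] (h : Intr f z0) {k k' : G} (hk : k ∈ KK f) (hk' : k' ∈ KK f) :
    Odd (orderOf (k * k' * k⁻¹ * k'⁻¹)) :=
  h.odd_of_mem (x := ⁅(⟨k, hk⟩ : KK f), ⟨k', hk'⟩⁆) (commutator_mem_commutator trivial trivial)

/-- a 2-subgroup of the centraliser is abelian, and contains a square root of `z` unless it lies
in `⟨z⟩` -/
theorem root [Finite G] (h : Intr f z0) {P : Subgroup G} (hP : P ≤ KK f) (hp : IsPGroup 2 P) :
    (∀ a ∈ P, ∀ b ∈ P, a * b = b * a) ∧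
      ((∀ k ∈ P, k = 1 ∨ k = f z0) ∨ ∃ r ∈ P, r * r = f z0) := by
  haveI := h.cyc P hP hp
  refine ⟨fun a ha b hb => congrArg Subtype.val
    (IsCyclic.commGroup.mul_comm (⟨a, ha⟩ : P) ⟨b, hb⟩), ?_⟩
  by_contra hn
  rw [not_or] at hn
  refine hn.1 fun k hk => ?_
  obtain ⟨n, hn'⟩ := hp ⟨k, hk⟩
  have e : k ^ 2 ^ n = 1 := congrArg Subtype.val hn'
  clear hn'
  induction n generalizing k with
  | zero => left; simpa using e
  | succ n ih =>
    rcases ih (k * k) (mul_mem hk hk) (by rw [← pow_two, ← pow_mul, ← pow_succ', e]) with a | a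
    · exact h.inv_eq (hP hk) a
    · exact absurd ⟨k, hk, a⟩ hn.2

/-- Glauberman's Z*-theorem gives a conjugate of `z` in its centraliser -/
theorem exists_conj [Finite G] (h : Intr f z0) (hO : oddCore G = ⊥) (hn : ¬ f.range.Normal) :
    ∃ g : G, g * f z0 * g⁻¹ ≠ f z0 ∧ g * f z0 * g⁻¹ * f z0 = f z0 * (g * f z0 * g⁻¹) := by
  by_contra hc
  push Not at hc
  have hi : IsIsolatedInvolution (f z0) := ⟨h.ordz, fun g c => by
    by_contra e; exact hc g e c.symm⟩
  have hz := H41.Isolated.mem_center hO hi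
  refine hn ⟨?_⟩
  rintro _ ⟨a, rfl⟩ g
  obtain ⟨b, hb⟩ := h.nrm g (mem_center_iff.1 hz g) a
  exact ⟨b, hb.symm⟩

/-- the automorphism induced by an element centralising `z` -/
theorem exists_aut (h : Intr f z0) {g : G} (hg : g * f z0 = f z0 * g) :
    ∃ α : MulAut L, ∀ a, g * f a * g⁻¹ = f (α a) := by
  have hg' : g⁻¹ * f z0 = f z0 * g⁻¹ := (Commute.inv_left hg : Commute g⁻¹ (f z0))
  choose u hu using h.nrm g hg
  choose v hv using h.nrm g⁻¹ hg'
  refine ⟨⟨⟨u, v, fun a => h.inj ?_, fun a => h.inj ?_⟩, fun a b => h.inj ?_⟩, hu⟩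
  · rw [← hv, ← hu]; group
  · rw [← hu, ← hv]; group
  · show f (u (a * b)) = f (u a * u b)
    rw [map_mul, ← hu, ← hu, ← hu, map_mul]; group

theorem dec_of_inner (_h : Intr f z0) {g : G} {b : L} (e : ∀ a, g * f a * g⁻¹ = f (b * a * b⁻¹)) :
    ∃ k ∈ KK f, g = k * f b := by
  refine ⟨g * (f b)⁻¹, mem_KK.2 fun a => ?_, by group⟩
  have := e (b⁻¹ * a * b)
  rw [show b * (b⁻¹ * a * b) * b⁻¹ = a by group] at this
  rw [map_mul, map_mul, map_inv] at this
  calc _ = g * ((f b)⁻¹ * f a * f b) * g⁻¹ * (g * (f b)⁻¹) := by rw [this]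
    _ = _ := by group

/-- when all automorphisms are inner -/
theorem dec (h : Intr f z0) (hout : ∀ α : MulAut L, ∃ b, ∀ a, α a = b * a * b⁻¹) {g : G}
    (hg : g * f z0 = f z0 * g) : ∃ k ∈ KK f, ∃ a, g = k * f a := by
  obtain ⟨α, hα⟩ := h.exists_aut hg
  obtain ⟨b, hb⟩ := hout α
  obtain ⟨k, hk, e⟩ := h.dec_of_inner (g := g) (b := b) fun a => by rw [hα, hb]
  exact ⟨k, hk, b, e⟩

/-- an involution `k * f a` -/
theorem inv_dec [Finite G] (h : Intr f z0) {k : G} (hk : k ∈ KK f) {a : L} (h2 : k * f a * (k * f a) = 1) :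
    (∃ b, k * f a = f b ∧ b * b = 1) ∨ (k * k = f z0 ∧ a * a = z0) := by
  rw [KK.mul_mul hk] at h2
  have e : f (a * a) = (k * k)⁻¹ := eq_inv_of_mul_eq_one_right h2
  rcases h.f_mem_K.1 (e ▸ inv_mem (mul_mem hk hk)) with a1 | a1
  · rw [a1, map_one, mul_one] at h2
    rcases h.inv_eq hk h2 with rfl | rfl
    · exact Or.inl ⟨a, one_mul _, a1⟩
    · refine Or.inl ⟨z0 * a, (map_mul f _ _).symm, ?_⟩
      rw [mul_assoc, ← mul_assoc a, h.z0_comm a, mul_assoc, a1, mul_one, h.z0_sq]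
  · refine Or.inr ⟨?_, a1⟩
    rw [a1] at h2
    rw [eq_inv_of_mul_eq_one_left h2, h.z_inv]

/-- an involution which is a commutator of two elements `k * f a` lies in the image -/
theorem comm_mem [Finite G] (h : Intr f z0) {k k' : G} (hk : k ∈ KK f) (hk' : k' ∈ KK f) {a a' : L} {t : G}
    (e : t = k * f a * (k' * f a') * (k * f a)⁻¹ * (k' * f a')⁻¹) (h2 : t * t = 1) :
    ∃ b, t = f b ∧ b * b = 1 := by
  have e' : t = (k * k' * k⁻¹ * k'⁻¹) * f (a * a' * a⁻¹ * a'⁻¹) := by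
    rw [e, KK.mul_mul hk', mul_inv_rev, mul_inv_rev, ← map_inv, ← map_inv, KK.comm (inv_mem hk),
      KK.comm (inv_mem hk'), KK.mul_mul (inv_mem hk), KK.mul_mul (inv_mem hk')]
  have hc : k * k' * k⁻¹ * k'⁻¹ ∈ KK f :=
    mul_mem (mul_mem (mul_mem hk hk') (inv_mem hk)) (inv_mem hk')
  rcases h.inv_dec hc (e' ▸ h2) with ⟨b, hb, b2⟩ | ⟨c, -⟩
  · exact ⟨b, e'.trans hb, b2⟩
  · exfalso
    have o := h.odd_comm hk hk'
    have d : orderOf (f z0) ∣ orderOf (k * k' * k⁻¹ * k'⁻¹) := by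
      rw [← c, ← pow_two]; exact orderOf_pow_dvd 2
    rw [h.ordz] at d
    exact (Nat.not_even_iff_odd.2 o) (even_iff_two_dvd.2 d)

end Intr

theorem eq_of_central (hp : commutator L = ⊤) (α β : L →* L)
    (key : ∀ a, (β a)⁻¹ * α a ∈ center L) (a : L) : α a = β a := by
  have hmul : ∀ x y, (β (x * y))⁻¹ * α (x * y) = (β x)⁻¹ * α x * ((β y)⁻¹ * α y) := fun x y => by
    have := mem_center_iff.1 (key x) (β y)⁻¹
    calc _ = (β y)⁻¹ * ((β x)⁻¹ * α x) * α y := by rw [map_mul, map_mul]; group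
      _ = _ := by rw [this]; group
  have c : ∀ x y : L, (β x)⁻¹ * α x * y = y * ((β x)⁻¹ * α x) := fun x y =>
    (mem_center_iff.1 (key x) y).symm
  let ψ : L →* L := MonoidHom.mk' (fun a => (β a)⁻¹ * α a) hmul
  have hk : ⁅(⊤ : Subgroup L), (⊤ : Subgroup L)⁆ ≤ ψ.ker := commutator_le.2 fun x _ y _ => by
    rw [MonoidHom.mem_ker, map_commutatorElement, commutatorElement_eq_one_iff_mul_comm]
    exact c x _
  have h1 : ψ a = 1 := hk (show a ∈ commutator L by rw [hp]; trivial)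
  exact (inv_mul_eq_one.1 h1).symm

theorem exists_quot_aut (α : MulAut L) :
    ∃ β : MulAut (L ⧸ center L), ∀ a : L, β (a : L ⧸ center L) = (α a : L) :=
  ⟨QuotientGroup.congr _ _ α ((characteristic_iff_map_eq.1 inferInstance) α), fun _ => rfl⟩

theorem inner_of_card_out {H : Type*} [Group H] (ho : Nat.card (Out H) = 1) (β : MulAut H) :
    ∃ b, ∀ a, β a = b * a * b⁻¹ := by
  have hβ : β ∈ Inn H := by
    have : (Inn H).index = 1 := ho
    rw [index_eq_one.1 this]; trivial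
  obtain ⟨b, hb⟩ := hβ
  exact ⟨b, fun a => by rw [← hb]; rfl⟩

/-- automorphisms of a perfect group are inner when those of the central quotient are -/
theorem inner_of_out (hp : commutator L = ⊤) (ho : Nat.card (Out (L ⧸ center L)) = 1)
    (α : MulAut L) : ∃ b, ∀ a, α a = b * a * b⁻¹ := by
  obtain ⟨β, hβ⟩ := exists_quot_aut α
  obtain ⟨b, hb⟩ := inner_of_card_out ho β
  obtain ⟨b, rfl⟩ := QuotientGroup.mk_surjective b
  refine ⟨b, eq_of_central hp α.toMonoidHom (MulAut.conj b).toMonoidHom fun a => ?_⟩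
  rw [← QuotientGroup.eq]
  exact ((hβ a).symm.trans (hb a)).symm

/-- Sylow subgroups of a subgroup, as subgroups of `G` -/
theorem exists_syl [Finite G] {H S : Subgroup G} (hS : S ≤ H) (hp : IsPGroup 2 S) :
    ∃ T : Subgroup G, S ≤ T ∧ T ≤ H ∧ IsPGroup 2 T ∧
      ∀ Q : Subgroup G, Q ≤ H → IsPGroup 2 Q → ∃ c ∈ H, ∀ x ∈ Q, c * x * c⁻¹ ∈ T := by
  haveI := Fact.mk Nat.prime_two
  obtain ⟨P, hP⟩ := (hp.comap_subtype (K := H)).exists_le_sylow
  refine ⟨(P : Subgroup H).map H.subtype, fun x hx => ⟨⟨x, hS hx⟩, hP hx, rfl⟩, map_subtype_le _,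
    P.isPGroup'.map _, fun Q hQ hq => ?_⟩
  obtain ⟨P', hP'⟩ := (hq.comap_subtype (K := H)).exists_le_sylow
  obtain ⟨c, rfl⟩ := MulAction.exists_smul_eq H P' P
  refine ⟨c, c.2, fun x hx => ⟨c * ⟨x, hQ hx⟩ * c⁻¹, ?_, rfl⟩⟩
  exact ⟨⟨x, hQ hx⟩, hP' hx, rfl⟩

/-- a conjugate `t` of `z` centralised by a Sylow 2-subgroup `T` of `C(z)` is conjugate to `z` in
`N(T)` -/
theorem exists_norm [Finite G] {z g : G} {T : Subgroup G} (hp : IsPGroup 2 T)
    (hT : ∀ Q : Subgroup G, Q ≤ centralizer {z} → IsPGroup 2 Q →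
      ∃ c ∈ centralizer {z}, ∀ x ∈ Q, c * x * c⁻¹ ∈ T)
    (ht : T ≤ centralizer {g * z * g⁻¹}) :
    ∃ h : G, h * (g * z * g⁻¹) * h⁻¹ = z ∧ ∀ x, x ∈ T ↔ h * x * h⁻¹ ∈ T := by
  obtain ⟨c, hc, e⟩ := hT (T.map (MulAut.conj g⁻¹).toMonoidHom) (by
    rintro _ ⟨x, hx, rfl⟩
    have := mem_centralizer_singleton_iff.1 (ht hx)
    rw [mem_centralizer_singleton_iff]
    show g⁻¹ * x * g⁻¹⁻¹ * z = z * (g⁻¹ * x * g⁻¹⁻¹)
    calc _ = g⁻¹ * (x * (g * z * g⁻¹)) * g := by group
      _ = _ := by rw [this]; group) (hp.map _)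
  refine ⟨c * g⁻¹, ?_, mem_normalizer_iff.1 (mem_normalizer_fintype fun x hx => ?_)⟩
  · calc _ = c * z * c⁻¹ := by group
      _ = z := by rw [mem_centralizer_singleton_iff.1 hc]; group
  · have := e _ ⟨x, hx, rfl⟩
    have e2 : c * g⁻¹ * x * (c * g⁻¹)⁻¹ = c * (g⁻¹ * x * g⁻¹⁻¹) * c⁻¹ := by group
    rw [e2]; exact this

end H10.Std
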