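import Mathlib
import Cfsg.Agent.Lib.Std.Base

/-!
Fusion of the central involution of an intrinsic standard subgroup all of whose automorphisms are
inner.
-/

set_option autoImplicit false
set_option linter.style.haveILetI false

namespace H10.Std

open Cfsg Subgroup

variable {L G : Type*} [Group L] [Group G]

/-- `f a` is conjugate to `f z0` -/
def Fus (f : L →* G) (z0 a : L) : Prop := ∃ g : G, g * f z0 * g⁻¹ = f a

theorem Fus.conj {f : L →* G} {z0 a b : L} (h : Fus f z0 a) {l : L} (e : l * a * l⁻¹ = b) :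
    Fus f z0 b := by
  obtain ⟨g, hg⟩ := h
  refine ⟨f l * g, ?_⟩
  rw [← e, map_mul, map_mul, map_inv, ← hg]; group

theorem Fus.of_conj {f : L →* G} {z0 a b : L} (h : Fus f z0 a) {g : G} (e : g * f a * g⁻¹ = f b) :
    Fus f z0 b := by
  obtain ⟨g', hg⟩ := h
  exact ⟨g * g', by rw [← e, ← hg]; group⟩

theorem Fus.ne_one {f : L →* G} {z0 a : L} (hf : Intr f z0) (h : Fus f z0 a) : a ≠ 1 := by
  rintro rfl
  obtain ⟨g, hg⟩ := h
  rw [map_one] at hg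
  exact hf.z_ne (by simpa using hg)

theorem le_of_conj [Finite G] {T P : Subgroup G} (hTP : T ≤ P) {c : G}
    (h : ∀ x ∈ P, c * x * c⁻¹ ∈ T) : P ≤ T := by
  have : Nat.card P ≤ Nat.card T := Nat.card_le_card_of_injective
    (fun x : P => (⟨c * x * c⁻¹, h x x.2⟩ : T)) fun x y e => by simpa using e
  exact (eq_of_le_of_card_ge hTP this).ge

theorem exists_conj_of_index [Finite G] {P S : Subgroup G} (h : IsPGroup 2 P) (hS : ¬ 2 ∣ S.index) :
    ∃ g : G, ∀ x ∈ P, g * x * g⁻¹ ∈ S := by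
  have := Fact.mk Nat.prime_two
  obtain ⟨q, hq⟩ := h.nonempty_fixed_point_of_prime_not_dvd_card (G ⧸ S) hS
  obtain ⟨g, rfl⟩ := QuotientGroup.mk_surjective q
  refine ⟨g⁻¹, fun x hx => ?_⟩
  have h1 : ((x⁻¹ * g : G) : G ⧸ S) = (g : G ⧸ S) := hq ⟨x⁻¹, inv_mem hx⟩
  have h2 := QuotientGroup.eq.1 h1
  simpa [mul_assoc] using h2

/-- a Sylow 2-subgroup inside a subgroup of odd index -/
theorem exists_syl_of_index [Finite G] {M S0 : Subgroup G} (hM : ¬ 2 ∣ M.index) (hS : S0 ≤ M)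
    (hp : IsPGroup 2 S0) : ∃ S : Subgroup G, S0 ≤ S ∧ S ≤ M ∧ IsPGroup 2 S ∧
      ∀ P : Subgroup G, S ≤ P → IsPGroup 2 P → P ≤ S := by
  obtain ⟨S, h1, h2, h3, h4⟩ := exists_syl hS hp
  refine ⟨S, h1, h2, h3, fun P hP hq => ?_⟩
  obtain ⟨g, hg⟩ := exists_conj_of_index hq hM
  obtain ⟨c, -, hc⟩ := h4 (P.map (MulAut.conj g).toMonoidHom)
    (by rintro _ ⟨x, hx, rfl⟩; exact hg x hx) (hq.map _)
  refine le_of_conj hP (c := c * g) fun x hx => ?_
  have := hc _ ⟨x, hx, rfl⟩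
  rwa [show c * g * x * (c * g)⁻¹ = c * (g * x * g⁻¹) * c⁻¹ by group]

namespace Intr

variable {f : L →* G} {z0 : L}

theorem inv_dec' (_h : Intr f z0) {k : G} (hk : k ∈ KK f) (a : L) : (k * f a)⁻¹ = k⁻¹ * f a⁻¹ := by
  rw [mul_inv_rev, ← map_inv, KK.comm (inv_mem hk)]

/-- a 2-central involution of the image which is conjugate to `z` is conjugate to it in the
normaliser of the image of a Sylow 2-subgroup -/
theorem syl_aut [Finite G] (h : Intr f z0) (hout : ∀ α : MulAut L, ∃ b, ∀ a, α a = b * a * b⁻¹)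
    {S : Subgroup L} (hp : IsPGroup 2 S) (hmax : ∀ P : Subgroup L, S ≤ P → IsPGroup 2 P → P ≤ S)
    {a0 : L} (ha : ∀ s ∈ S, s * a0 = a0 * s) (hne : a0 ≠ z0) (hF : Fus f z0 a0)
    (hc : ∀ s ∈ S, (∀ s' ∈ S, s * s' = s' * s) → s * s = 1) :
    ∃ c : G, c * f a0 * c⁻¹ = f z0 ∧ ∀ s ∈ S, ∃ s' ∈ S, c * f s * c⁻¹ = f s' := by
  obtain ⟨T, h1, h2, h3, h4⟩ := exists_syl (H := centralizer {f z0}) (S := S.map f)
    (by rintro _ ⟨s, -, rfl⟩; exact mem_centralizer_singleton_iff.2 (h.f_comm_z s)) (hp.map _)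
  have hS : ∀ s ∈ S, f s ∈ T := fun s hs => h1 ⟨s, hs, rfl⟩
  let P : Subgroup L :=
    { carrier := {a | ∃ k ∈ KK f, k * f a ∈ T}
      one_mem' := ⟨1, one_mem _, by simp⟩
      mul_mem' := by
        rintro a b ⟨k, hk, e⟩ ⟨k', hk', e'⟩
        exact ⟨k * k', mul_mem hk hk', KK.mul_mul hk' a b ▸ mul_mem e e'⟩
      inv_mem' := by
        rintro a ⟨k, hk, e⟩
        exact ⟨k⁻¹, inv_mem hk, h.inv_dec' hk a ▸ inv_mem e⟩ }
  have hP : P ≤ S := hmax P (fun s hs => ⟨1, one_mem _, by simpa using hS s hs⟩) (by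
    rintro ⟨a, k, hk, e⟩
    obtain ⟨n, hn⟩ := h3 ⟨_, e⟩
    have e1 : (k * f a) ^ 2 ^ n = 1 := congrArg Subtype.val hn
    rw [KK.pow hk] at e1
    have e2 : f (a ^ 2 ^ n) ∈ KK f := eq_inv_of_mul_eq_one_right e1 ▸ inv_mem (pow_mem hk _)
    refine ⟨n + 1, Subtype.ext ?_⟩
    show a ^ 2 ^ (n + 1) = 1
    rw [pow_succ, pow_mul, pow_two]
    rcases h.f_mem_K.1 e2 with e3 | e3 <;> rw [e3]
    exacts [mul_one _, h.z0_sq])
  have key : ∀ x ∈ T, ∃ k ∈ T ⊓ KK f, ∃ s ∈ S, x = k * f s := fun x hx => by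
    obtain ⟨k, hk, a, rfl⟩ := h.dec hout (mem_centralizer_singleton_iff.1 (h2 hx))
    have ha := hP ⟨k, hk, hx⟩
    exact ⟨k, ⟨by simpa using mul_mem hx (inv_mem (hS a ha)), hk⟩, a, ha, rfl⟩
  obtain ⟨g, hg⟩ := hF
  obtain ⟨c, hc1, hc2⟩ := exists_norm (g := g) h3 h4 fun x hx => by
    obtain ⟨k, hk, s, hs, rfl⟩ := key x hx
    rw [mem_centralizer_singleton_iff, hg, mul_assoc, ← map_mul, ha s hs, map_mul, ← mul_assoc,
      ← KK.comm hk.2, mul_assoc]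
  rw [hg] at hc1
  obtain ⟨ab, r⟩ := h.root (P := T ⊓ KK f) inf_le_right (h3.to_inf_left)
  refine ⟨c, hc1, fun s hs => ?_⟩
  rcases r with r | ⟨r, hr, e⟩
  · obtain ⟨k, hk, s', hs', e⟩ := key _ ((hc2 _).1 (hS s hs))
    rcases r k hk with rfl | rfl
    · exact ⟨s', hs', by rw [e, one_mul]⟩
    · exact ⟨z0 * s', mul_mem (hP ⟨1, one_mem _, by simpa using hk.1⟩) hs', by rw [e, map_mul]⟩
  · exfalso
    have rc : ∀ x ∈ T, r * x = x * r := fun x hx => by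
      obtain ⟨k, hk, s, -, rfl⟩ := key x hx
      rw [← mul_assoc, ab r hr k hk, mul_assoc, ← KK.comm hr.2, mul_assoc]
    have hr' : c⁻¹ * r * c ∈ T := (hc2 _).2 (by simpa [mul_assoc] using hr.1)
    obtain ⟨k, hk, a, ha', e'⟩ := key _ hr'
    have a2 : a * a = 1 := hc a ha' fun s' hs' => by
      have e1 := KK.conj hk.2 a s'
      have e2 := rc _ ((hc2 _).1 (hS s' hs'))
      rw [← e', show c⁻¹ * r * c * f s' * (c⁻¹ * r * c)⁻¹ =
        c⁻¹ * (r * (c * f s' * c⁻¹)) * r⁻¹ * c by group, e2] at e1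
      have e3 : s' = a * s' * a⁻¹ := h.inj (by rw [← e1]; group)
      rw [eq_mul_inv_iff_mul_eq] at e3
      exact e3.symm
    have e4 : f a0 = k * k := by
      have := KK.mul_mul hk.2 (k := k) a a
      rw [a2, map_one, mul_one, ← e'] at this
      rw [← this, show c⁻¹ * r * c * (c⁻¹ * r * c) = c⁻¹ * (r * r) * c by group, e, ← hc1]
      group
    rcases h.f_mem_K.1 (e4 ▸ mul_mem hk.2 hk.2) with e5 | e5
    · exact Fus.ne_one h ⟨g, hg⟩ e5
    · exact hne e5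

/-- an involution which is a commutator in the centraliser of a conjugate of `z` -/
theorem comm_conj [Finite G] (h : Intr f z0) (hout : ∀ α : MulAut L, ∃ b, ∀ a, α a = b * a * b⁻¹)
    {g u v : G} (hu : u * (g * f z0 * g⁻¹) = g * f z0 * g⁻¹ * u)
    (hv : v * (g * f z0 * g⁻¹) = g * f z0 * g⁻¹ * v) {y : G} (e : y = u * v * u⁻¹ * v⁻¹)
    (h2 : y * y = 1) : ∃ b, g⁻¹ * y * g = f b ∧ b * b = 1 := by
  have c : ∀ {u : G}, u * (g * f z0 * g⁻¹) = g * f z0 * g⁻¹ * u →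
      g⁻¹ * u * g * f z0 = f z0 * (g⁻¹ * u * g) := fun {u} hu => by
    calc _ = g⁻¹ * (u * (g * f z0 * g⁻¹)) * g := by group
      _ = _ := by rw [hu]; group
  obtain ⟨k, hk, a, e1⟩ := h.dec hout (c hu)
  obtain ⟨k', hk', a', e2⟩ := h.dec hout (c hv)
  refine h.comm_mem hk hk' (a := a) (a' := a') ?_ ?_
  · rw [← e1, ← e2, e]; group
  · calc _ = g⁻¹ * (y * y) * g := by group
      _ = 1 := by rw [h2]; group

end Intr

end H10.Std
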