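import Cfsg.Agent.Lib.Std.He4
import Cfsg.Agent.Lib.ON.RecM

/-! Standard subgroups `2².L₃(4)`, part 9: the group `2².L₃(4)` on two generators. -/

set_option autoImplicit false
set_option maxRecDepth 100000

namespace H10.HeS
open H49.He H69 Subgroup Cfsg H87.Tb H87.Mx
open H87.ONR (l yA yB relU actA actB actL xA xB pA pB mxA mxB WL gen_l cls2 cls7 aut_l VL exists_lift
  surj_of_gen)
open H54 (force sel band bor bimp force_eq band_eq_true bor_eq_true bimp_eq_true allL allL_iff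
  anyL anyL_iff allLt allLt_iff evW xl gen invA subW nthW evW_nil evW_cons evW_append evW_invA evW_subW
  map_evW evW_congr gen_le)
open H15 (M21)

theorem l0ne : l 0 ≠ 1 := by simpa [xl] using WL.ne (v := [0]) (w := []) (by decide +kernel)
theorem l1ne : l 1 ≠ 1 := by simpa [xl] using WL.ne (v := [2]) (w := []) (by decide +kernel)

theorem wf1_of {w : List ℕ} (h : ∀ k ∈ w, k < 4) : wf1 2 w = true :=
  (allL_iff _ _).2 fun k hk => Nat.ble_eq_true_of_le (h k hk)

theorem eqB_of {P Ω : Type} [Group P] [MulAction P Ω] {x : ℕ → P} {n : ℕ} {pt : ℕ → Ω} {act : ℕ → ℕ → ℕ}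
    {B : List ℕ} (W : WM x 2 n pt act B) {v : List ℕ} (hv : ∀ k ∈ v, k < 4) (e : evW x v = 1) :
    eqB act 2 B v [] = true := by
  simp only [eqB, band_eq_true, allL_iff, Nat.beq_eq]
  refine ⟨wf1_of hv, by decide +kernel, fun b hb => ?_⟩
  have h1 := W.ta.apw hv b (W.lt b hb)
  exact W.ta.inj _ _ h1.1 (W.lt b hb) (by rw [← h1.2, e, one_smul]; rfl)

variable {M : Type*} [Group M]

theorem exists_word [Finite M] {m : ℕ → M} {z : M} (h : z ∈ gen m 2) :
    ∃ w : List ℕ, (∀ k ∈ w, k < 4) ∧ evW m w = z := by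
  rw [gen, ← mem_toSubmonoid, Subgroup.closure_toSubmonoid_of_finite] at h
  induction h using Submonoid.closure_induction with
  | mem x hx =>
    obtain ⟨i, hi, rfl⟩ := hx
    exact ⟨[2 * i], by simp; omega, by simp [H54.xl_even]⟩
  | one => exact ⟨[], by simp, rfl⟩
  | mul x y _ _ hx hy =>
    obtain ⟨v, h1, rfl⟩ := hx
    obtain ⟨w, h2, rfl⟩ := hy
    exact ⟨v ++ w, fun k hk => (List.mem_append.1 hk).elim (h1 k) (h2 k), evW_append ..⟩

/-- generators of `2².L₃(4)` -/
structure Mo (p : M →* M21) (m : ℕ → M) : Prop where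
  top : gen m 2 = ⊤
  px : ∀ i, i < 2 → p (m i) = l i
  rel : ∀ r, relU r = true → evW m r = 1
  ker : ∀ z, p z = 1 ↔ z ∈ center M
  b4 : B4 (center M) (evW m yA) (evW m yB)

theorem exists_mo [Finite M] (p : M →* M21) (hs : Function.Surjective p) (hk : p.ker = center M)
    (h4 : IsKleinFour (center M)) (hp : commutator M = ⊤) : ∃ m, Mo p m := by
  have h2 : ∀ z ∈ center M, z * z = 1 := fun z hz =>
    congrArg Subtype.val (IsKleinFour.mul_self (⟨z, hz⟩ : center M))
  obtain ⟨m, h1, h3, h5⟩ := exists_lift p hs hk.le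
    (fun z hz => by rw [show 4 = 2 * 2 from rfl, pow_mul, sq z, h2 z (hk ▸ hz), one_pow]) hp
  have c : ∀ w, eqB actL 2 (List.range 24) w [] = true → evW m w ∈ center M := fun w c => by
    have := c
    simp only [eqB, band_eq_true] at this
    exact hk ▸ (map_evW_of p h3 this.1).trans (WL.eq c)
  have ca := c yA (by decide +kernel)
  have cb := c yB (by decide +kernel)
  have le : center M ≤ k4 (evW m yA) (evW m yB) := fun z hz => by
    obtain ⟨w, hw, rfl⟩ := exists_word (h1 ▸ mem_top z)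
    have e : evW l w = 1 := (map_evW_of p h3 (wf1_of hw)).symm.trans (hk.ge hz)
    obtain ⟨i, hi⟩ := (mem_powers_iff_mem_zpowers.2 (inv_mem (mxA.ker.le
      ((map_evW_of pA mxA.px (wf1_of hw)).trans e))) :)
    obtain ⟨j, hj⟩ := (mem_powers_iff_mem_zpowers.2 (inv_mem (mxB.ker.le
      ((map_evW_of pB mxB.px (wf1_of hw)).trans e))) :)
    have wf : ∀ k ∈ w ++ powW yA i ++ powW yB j, k < 4 := by
      have : ∀ (y : List ℕ) (n : ℕ), (∀ k ∈ y, k < 4) → ∀ k ∈ powW y n, k < 4 := fun y n hy => by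
        induction n with
        | zero => exact fun _ h => absurd h List.not_mem_nil
        | succ n ih => exact fun k hk => (List.mem_append.1 hk).elim (hy k) (ih k)
      simp only [List.forall_mem_append]
      exact ⟨⟨hw, this _ _ (by decide)⟩, this _ _ (by decide)⟩
    have a : evW xA yB = 1 := mxA.eq (w := []) (by decide +kernel)
    have b : evW xB yA = 1 := mxB.eq (w := []) (by decide +kernel)
    have := h5 _ ((band_eq_true _ _).2 ⟨eqB_of mxA.toWM wf (by
      simp only at hi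
      rw [evW_append, evW_append, evW_powW, evW_powW, hi, a]; simp), eqB_of mxB.toWM wf (by
      simp only at hj
      rw [evW_append, evW_append, evW_powW, evW_powW, hj, b]; simp)⟩)
    rw [evW_append, evW_append, evW_powW, evW_powW, mul_assoc, mul_eq_one_iff_eq_inv] at this
    exact this ▸ inv_mem (mul_mem (pow_mem (subset_closure (by simp)) _) (pow_mem (subset_closure (by simp)) _))
  have k : ∀ c ∈ center M, evW m yA ∈ zpowers c → evW m yB ∈ zpowers c → False := fun c hc h1 h3 => by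
    have := card_le_of_le (le.trans (k4_le h1 h3))
    rw [h4.card_four, Nat.card_zpowers] at this
    exact absurd (this.trans (orderOf_le_of_pow_eq_one two_pos ((sq c).trans (h2 c hc)))) (by decide)
  refine ⟨m, h1, h3, h5, fun z => by rw [← hk]; rfl, le_antisymm le (k4_le ca cb) ▸
    b4_k4 (h2 _ ca) (h2 _ cb) (mem_center_iff.1 cb _) (fun e => k _ cb (e ▸ one_mem _) (mem_zpowers _))
      (fun e => k _ ca (mem_zpowers _) (e ▸ one_mem _)) fun e => k _ cb (e ▸ mem_zpowers _) (mem_zpowers _)⟩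

/-- equality of words modulo the squares of the centre -/
noncomputable def eqE (v w : List ℕ) : Bool :=
  anyL (fun e => relU (v ++ invA w e)) [[], yA ++ yA, yB ++ yB, yA ++ yA ++ (yB ++ yB)]

/-- the generators of `T` -/
noncomputable def wd (p : ℕ) : List ℕ := nthW [[], [], [2, 2, 0, 3, 0, 2, 2, 0, 2, 0, 3, 0, 2, 2, 0, 3, 0],
  [3, 0, 2, 0, 3, 3, 3, 0, 3, 0, 2, 2, 2, 0, 3, 3, 3, 0, 3, 0, 2, 2, 0, 2],
  [2, 2, 0, 3, 3, 0, 3, 3, 3, 0, 3, 3, 0, 2, 2, 0], [], [], [3, 3, 3, 0, 2, 0, 3, 0, 2, 2, 2],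
  [2, 2, 0, 3, 3, 0, 3, 3, 3, 0, 3, 3, 0, 2, 2],
  [3, 3, 3, 0, 2, 2, 2, 0, 2, 0, 3, 3, 0, 3, 0, 2, 0, 3, 0, 2, 2, 2, 0, 2], [], [], [],
  [2, 0, 3, 3, 3, 0, 2, 2, 2, 0, 3], [3, 3, 0, 3, 3, 3, 0, 2, 0, 3, 3, 3, 0, 3, 0, 2]] p
/-- their positions -/
def ps : List ℕ := [13, 14, 2, 7, 3, 4, 8, 9]
/-- their commutators -/
def rc (p q : ℕ) : ℕ := if min p q ∈ [2, 7] ∧ max p q ∈ [13, 14] then p + q - 12 else 0
/-- the word of a code -/
noncomputable def cw (qs : List ℕ) (a : ℕ) : List ℕ :=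
  List.rec (motive := fun _ => List ℕ) [] (fun p _ ih => sel (Nat.testBit a p) (wd p ++ ih) ih) qs
/-- the normal form of a code -/
noncomputable def cd (qs : List ℕ) (a : ℕ) : ℕ :=
  List.rec (motive := fun _ => ℕ) I5 (fun p _ ih => sel (Nat.testBit a p) (tv p ⋆ ih) ih) qs
/-- a conjugation -/
noncomputable def cjC (r : List ℕ) (a b : ℕ) : Bool :=
  band (band (inM mJ a) (inM mJ b)) (eqE (r ++ cw ps a ++ invA r []) (cw ps b))
/-- the central words -/
def ZW : List (List ℕ) := [[], yA, yB, yA ++ yB]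
/-- the candidate `i` does not fix the central word `r` -/
noncomputable def kil (i c : ℕ) (r : List ℕ) : Bool := band (band (wf1 2 r)
  (eqB actL 2 (List.range 24) r [])) (band (bor (Nat.beq (c / 4 % 2) 1) (Nat.beq (c % 2) 1))
    (relU (subW [nthW VL (i / 4 % 6) ++ nthW ZW (i % 4), [2 + i / 24]] r ++
      invA r (powW yA (c / 4) ++ powW yB (c % 4)))))
/-- the certificate against a candidate -/
noncomputable def kilC (i : ℕ) : Bool := bor (anyL (Nat.beq i) [0, 28])
  (force (d8 0x70b0411070b04170d010e1d050906130f030c000f030c24070b041b070b04150d010e1f050906190f030c2e0f030c00 i)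
    fun c => kil i (c % 16) (nthW [powW [0, 2, 2] 5, yA, yB] (c / 16)))

theorem t_rel : allL (fun p => band (eqE (wd p ++ wd p) [])
    (allL (fun q => eqE (wd p ++ wd q ++ invA (wd p) []) (wd q ++ wd (rc p q))) ps)) ps = true := by
  decide +kernel
theorem t_cd : allM mJ (fun a => band (Nat.beq (cd ps a) a) (bor (inV a)
    (neB actL 2 (List.range 24) (cw ps a) []))) = true := by decide +kernel
theorem t_kil : allLt kilC 48 = true := by decide +kernel

namespace Mo
variable {p : M →* M21} {m : ℕ → M}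

theorem eq (O : Mo p m) {v w : List ℕ} (h : eqE v w = true) : evW m v = evW m w := by
  obtain ⟨e, he, h⟩ := (anyL_iff _ _).1 h
  have := O.rel _ h
  have e1 : evW m e = 1 := by
    simp only [List.mem_cons, List.not_mem_nil, or_false] at he
    rcases he with rfl | rfl | rfl | rfl <;> simp only [evW_append, evW_nil, O.b4.xx, O.b4.yy, mul_one]
  rwa [evW_append, evW_invA, e1, mul_one, mul_inv_eq_one] at this

theorem exg (O : Mo p m) : ∃ g : ℕ → M, Em g ∧ Vg g = center M ∧ ∀ a, inM mJ a = true → g a = evW m (cw ps a) := by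
  obtain ⟨g, E, h⟩ := chain (x := fun p => evW m (wd p)) rfl (r := rc) (L := ps) (fun p hp => by
    have := (allL_iff _ _).1 t_rel p hp
    rw [band_eq_true, allL_iff] at this
    exact ⟨(evW_append ..).symm.trans (O.eq this.1), fun q hq => by
      simpa only [evW_append, evW_inv] using O.eq (this.2 q hq)⟩) ps (fun _ h => h) (by decide +kernel)
  rw [show msk ps = mJ by decide +kernel] at E h
  have k : ∀ (a : ℕ) (qs : List ℕ), (∀ q ∈ qs, q ∈ ps) → inM mJ (cd qs a) = true ∧ g (cd qs a) = evW m (cw qs a) :=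
    fun a qs => by
      induction qs with
      | nil => exact fun _ => ⟨inM_I5 _, E.one⟩
      | cons q qs ih =>
        intro hq
        replace ih := ih fun r hr => hq r (List.mem_cons_of_mem _ hr)
        replace h := h q (List.mem_cons_of_mem _ (hq q List.mem_cons_self))
        show inM mJ (sel _ (tv q ⋆ cd qs a) (cd qs a)) = true ∧
          g (sel _ (tv q ⋆ cd qs a) (cd qs a)) = evW m (sel _ (wd q ++ cw qs a) (cw qs a))
        cases Nat.testBit a q
        exacts [ih, ⟨inM_mul E.mk'.1 h.1 ih.1, (E.mul h.1 ih.1).trans (by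
          rw [h.2, ih.2]; exact (evW_append ..).symm)⟩]
  have t := fun a (ha : inM mJ a = true) => (band_eq_true _ _).1 (allM_spec t_cd (by decide) ha)
  have e : ∀ a, inM mJ a = true → g a = evW m (cw ps a) := fun a ha =>
    (congrArg g (Nat.eq_of_beq_eq_true (t a ha).1)).symm.trans (k a ps fun _ h => h).2
  have b : B4 (center M) (g va) (g vb) := by
    rw [e _ (by decide +kernel), e _ (by decide +kernel), O.eq (w := yA) (by decide +kernel),
      O.eq (v := cw ps vb) (w := yA ++ yB) (by decide +kernel), evW_append]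
    exact O.b4.rot
  refine ⟨g, ⟨E, fun {a c} ha hc h => ?_⟩, le_antisymm (k4_le b.mx b.my)
    (b.le (subset_closure (by simp)) (subset_closure (by simp))), e⟩
  have hd := inM_mul E.mk'.1 ha (E.mk'.iv' hc)
  have e1 : g (a ⋆ iv c) = 1 := by rw [E.mul ha (E.mk'.iv' hc), E.inv hc, h, mul_inv_cancel]
  have e2 : a ⋆ iv c = I5 := by
    generalize a ⋆ iv c = d at hd e1
    rcases (bor_eq_true _ _).1 (t d hd).2 with f | f
    · simp only [inV, force_eq, anyL_iff, Nat.beq_eq, List.mem_cons, List.not_mem_nil, or_false,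
        exists_eq_right'] at f
      rcases f with rfl | rfl | rfl | rfl
      exacts [rfl, absurd e1 b.x1, absurd e1 b.y1, absurd ((E.mul_eq (c := vc)).trans e1) b.xy1]
    · have := f
      simp only [neB, band_eq_true] at this
      exact absurd (by rw [← map_evW_of p O.px this.1, ← e d hd, e1, map_one, evW_nil]) (WL.ne f)
  have := congrArg sl e2
  rw [emb_sl.mul (E.mk'.ok' ha) (ok_iv (E.mk'.ok' hc)), emb_sl.inv (E.mk'.ok' hc), emb_sl.one,
    mul_inv_eq_one] at this
  exact emb_sl.inj (E.mk'.ok' ha) (E.mk'.ok' hc) this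

theorem cj (O : Mo p m) {g : ℕ → M} (e : ∀ a, inM mJ a = true → g a = evW m (cw ps a)) (r : List ℕ) {a b : ℕ}
    (h : cjC r a b = true := by decide +kernel) : evW m r * g a * (evW m r)⁻¹ = g b := by
  simp only [cjC, band_eq_true] at h
  rw [e a h.1.1, e b h.1.2, ← O.eq h.2, evW_append, evW_append, evW_inv]

theorem hom_ext (O : Mo p m) (f g : M →* M) (h0 : f (m 0) = g (m 0)) (h1 : f (m 1) = g (m 1)) (y : M) :
    f y = g y := gen_le (K := f.eqLocus g) (fun i hi => by interval_cases i; exacts [h0, h1]) (O.top ▸ mem_top y)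

theorem aut (O : Mo p m) (γ : M ≃* M) (hγ : ∀ z ∈ center M, γ z = z) :
    (∃ n, ∀ y, γ y = n * y * n⁻¹) ∨ ∃ n, (∀ y, n * γ (n * γ y * n⁻¹) * n⁻¹ = y) ∧
      n * γ (evW m (wd 2)) * n⁻¹ = evW m (wd 13) ∧ n * γ (evW m (wd 7)) * n⁻¹ = evW m (wd 14) := by
  have hs := surj_of_gen p O.px gen_l
  have x2 : m 0 * m 0 = 1 := by simpa [xl] using O.rel [0, 0] (by decide +kernel)
  have x7 : m 1 ^ 7 = 1 := by simpa [evW_powW, xl] using O.rel (powW [2] 7) (by decide +kernel)
  have pc : ∀ (δ : M ≃* M) a, p a = 1 → p (δ a) = 1 := fun δ a h => (O.ker _).2 (mem_center_iff.2 fun b => by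
    rw [← δ.apply_symm_apply b, ← map_mul, mem_center_iff.1 ((O.ker _).1 h), map_mul])
  have lift : ∀ a b, p a = p b → ∃ z ∈ center M, a = b * z := fun a b e =>
    ⟨b⁻¹ * a, (O.ker _).1 (by rw [map_mul, map_inv, e, inv_mul_cancel]), by group⟩
  haveI : Fact (Nat.Prime 7) := ⟨by decide⟩
  obtain ⟨v, hv, k, hk⟩ := cls7 (g := p (γ (m 1))) (orderOf_eq_prime
    (by rw [← map_pow, ← map_pow, x7, map_one, map_one])
    fun e => l1ne (by simpa [O.px] using pc γ.symm _ e))
  obtain ⟨v, hv', rfl⟩ : ∃ u ∈ [2, 3], v = [u] := by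
    simp only [List.mem_cons, List.not_mem_nil, or_false] at hv
    rcases hv with rfl | rfl
    exacts [⟨2, by simp, rfl⟩, ⟨3, by simp, rfl⟩]
  have xv : xl m v ^ 7 = 1 ∧ p (xl m v) = xl l v ∧ Commute (m 1) (xl m v) := by
    simp only [List.mem_cons, List.not_mem_nil, or_false] at hv'
    rcases hv' with rfl | rfl <;> simp [xl, x7, O.px]
  obtain ⟨n, rfl⟩ := hs k
  let δ : M ≃* M := γ.trans (MulAut.conj n⁻¹)
  have d1 : δ (m 1) = xl m v := by
    obtain ⟨z, hz, e⟩ := lift (δ (m 1)) (xl m v) (by simp [δ, ← hk, xv.2.1, mul_assoc])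
    have := (show Commute (xl m v) z from mem_center_iff.1 hz _).mul_pow 7
    rw [← e, ← map_pow, x7, map_one, xv.1, one_mul] at this
    rw [e, show z = 1 from (pow_eq_one_iff_of_coprime (by decide : Nat.Coprime 7 2)).1
      ⟨this.symm, (sq z).trans (O.b4.sq hz)⟩, mul_one]
  have r5 := WL.rels (Rs := [powW [0, 2] 5, powW [0, 2, 2] 5]) (by decide +kernel)
  obtain ⟨V, hV, j, e⟩ := aut_l (g := p (δ (m 0))) hv' (by rw [← map_mul, ← map_mul, x2, map_one, map_one])
    (by
      rw [← xv.2.1, ← d1, ← map_mul, ← map_mul, ← map_pow, ← map_pow]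
      exact pc δ _ (by simpa [evW_powW, xl, O.px] using r5 (powW [0, 2] 5) (by simp)))
    (by
      rw [← xv.2.1, ← d1, ← map_mul, ← map_mul, ← map_mul, ← map_mul, ← map_pow, ← map_pow]
      exact pc δ _ (by simpa [evW_powW, xl, O.px] using r5 (powW [0, 2, 2] 5) (by simp)))
  let ε : M ≃* M := δ.trans (MulAut.conj (m 1 ^ j)⁻¹)
  have e1 : ε (m 1) = xl m v := by
    simp only [ε, MulEquiv.trans_apply, d1, MulAut.conj_apply, inv_inv]
    rw [mul_assoc, ← (xv.2.2.pow_left j).eq, inv_mul_cancel_left]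
  have wV : wf1 2 V = true := (allL_iff _ _).1 (by decide +kernel : allL (wf1 2) VL = true) V hV
  obtain ⟨z, hz, e0⟩ := lift (ε (m 0)) (evW m V) (by
    show p ((m 1 ^ j)⁻¹ * δ (m 0) * (m 1 ^ j)⁻¹⁻¹) = _
    simp only [map_mul, map_inv, e, map_pow, O.px 1 (by decide), map_evW_of p O.px wV]
    group)
  obtain ⟨zw, hzw, rfl⟩ : ∃ zw ∈ ZW, z = evW m zw := by
    rcases (O.b4.mem z).1 hz with rfl | rfl | rfl | rfl
    exacts [⟨[], by simp [ZW], rfl⟩, ⟨yA, by simp [ZW], rfl⟩, ⟨yB, by simp [ZW], rfl⟩,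
      ⟨yA ++ yB, by simp [ZW], (evW_append ..).symm⟩]
  rw [← evW_append] at e0
  have he : ∀ y, ε y = ((m 1 ^ j)⁻¹ * n⁻¹) * γ y * ((m 1 ^ j)⁻¹ * n⁻¹)⁻¹ := fun y => by
    simp only [ε, δ, MulEquiv.trans_apply, MulAut.conj_apply]; group
  generalize (m 1 ^ j)⁻¹ * n⁻¹ = s, ε = ε at he e0 e1
  have ew : ∀ w, wf1 2 w = true → ε (evW m w) = evW m (subW [V ++ zw, [v]] w) := fun w hw => by
    rw [evW_subW]
    exact map_evW_of ε.toMonoidHom (fun i hi => by
      interval_cases i
      exacts [e0, by simpa [nthW] using e1]) hw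
  obtain ⟨i, hi, rfl, rfl, rfl⟩ := (by decide +kernel : ∀ v ∈ [2, 3], ∀ V ∈ VL, ∀ z ∈ ZW, ∃ i, i < 48 ∧
    V = nthW VL (i / 4 % 6) ∧ z = nthW ZW (i % 4) ∧ v = 2 + i / 24) v hv' V hV zw hzw
  have t := (allLt_iff _ _).1 t_kil i hi
  simp only [kilC, bor_eq_true, anyL_iff, Nat.beq_eq, force_eq, List.mem_cons, List.not_mem_nil, or_false,
    exists_eq_right'] at t
  rcases t with (rfl | rfl) | t
  · refine Or.inl ⟨s⁻¹, fun y => ?_⟩
    have : ε y = y := O.hom_ext ε.toMonoidHom (MonoidHom.id _) (by simpa [nthW, VL, ZW, xl] using e0)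
      (by simpa [xl] using e1) y
    nth_rewrite 2 [← this]
    rw [he]; group
  · let q : List ℕ := [0, 3, 0, 3, 3, 3, 0, 2, 2, 2, 0, 3, 3, 0]
    have k : ∀ w w', band (wf1 2 w) (eqE (q ++ subW [nthW VL 1 ++ [], [3]] w ++ invA q []) w') = true →
        evW m q * s * γ (evW m w) * (evW m q * s)⁻¹ = evW m w' := fun w w' c => by
      rw [band_eq_true] at c
      rw [← O.eq c.2, evW_append, evW_append, evW_inv]
      erw [← ew w c.1]
      rw [he]; group
    have k0 := k [0] [0] (by decide +kernel)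
    have k1 := k [2] [3, 3, 3, 0, 3, 3, 0, 2, 2, 0, 2, 2] (by decide +kernel)
    have k2 := k [3, 3, 3, 0, 3, 3, 0, 2, 2, 0, 2, 2] [2] (by decide +kernel)
    rw [show evW m [0] = m 0 by simp [xl]] at k0
    rw [show evW m [2] = m 1 by simp [xl]] at k1 k2
    let φ := (MulAut.conj (evW m q * s)).toMonoidHom.comp γ.toMonoidHom
    exact Or.inr ⟨_, O.hom_ext (φ.comp φ) (MonoidHom.id _) ((congrArg φ k0).trans k0) ((congrArg φ k1).trans k2),
      k _ _ (by decide +kernel), k _ _ (by decide +kernel)⟩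
  · generalize nthW [powW [0, 2, 2] 5, yA, yB] _ = r, _ % 16 = c at t
    simp only [kil, band_eq_true, bor_eq_true, Nat.beq_eq] at t
    obtain ⟨⟨t1, t2⟩, t3, t4⟩ := t
    have hc := (O.ker _).1 ((map_evW_of p O.px t1).trans (WL.eq t2))
    have := O.rel _ t4
    rw [evW_append, evW_invA, ← ew r t1, he, hγ _ hc, mem_center_iff.1 hc, mul_inv_cancel_right,
      mul_inv_cancel_left, evW_append, evW_powW, evW_powW, pow_eq_pow_mod _ ((sq _).trans O.b4.xx),
      pow_eq_pow_mod (c % 4) ((sq _).trans O.b4.yy), Nat.mod_mod_of_dvd c (by decide : 2 ∣ 4)] at this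
    rcases Nat.mod_two_eq_zero_or_one (c / 4) with a | a <;> rcases Nat.mod_two_eq_zero_or_one c with b | b <;>
      simp [a, b, O.b4.x1, O.b4.y1, O.b4.xy1] at this t3

end Mo

end H10.HeS
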