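import Cfsg.Agent.Lib.Std.Sz2
import Cfsg.Agent.Lib.ON.RecL
import Cfsg.Agent.Lib.Golay.L34

/-! Standard subgroups `L₃(4)`: the coordinates exist. -/

set_option autoImplicit false
set_option maxRecDepth 100000
set_option synthInstance.maxSize 100000

namespace H10.Sz
open H69 Subgroup Cfsg H87.Tb H87.Mx
open H30 (F4)
open H87.ONR (l actL WL gen_l cls2 cls7 aut_l VL)
open H54 (band band_eq_true allL allL_iff evW xl gen invA subW nthW evW_nil evW_cons evW_append evW_subW gen_le)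
open H15 (M21)

namespace SzM

/-- the first root group -/
def wv : F4 → List ℕ
  | .o => []
  | .i => [0, 2, 0, 2, 2, 0, 3, 0, 3, 3, 0, 3, 0, 2]
  | .w => [3, 3, 3, 0, 2, 0, 3, 0, 2, 2, 2]
  | .v => [0, 2, 0, 3, 0, 3, 3, 3, 0, 3, 0, 2, 2, 2, 0, 2, 2]
/-- the second root group -/
def ww : F4 → List ℕ
  | .o => []
  | .i => [0, 2, 0, 3, 0, 3, 3, 0, 3, 0, 2, 2, 0, 2]
  | .w => [2, 2, 2, 0, 3, 0, 2, 0, 3, 3, 3]
  | .v => [0, 2, 2, 0, 2, 2, 2, 0, 3, 0, 3, 3, 3, 0, 3, 0, 2]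
/-- the third root group -/
def wz : F4 → List ℕ
  | .o => []
  | .i => [0]
  | .w => [0, 2, 2, 0, 3, 3, 0, 3, 3, 3, 0, 3, 3, 0, 2, 2]
  | .v => [2, 2, 0, 3, 3, 0, 3, 3, 3, 0, 3, 3, 0, 2, 2]
/-- the diagonal element -/
def wh : List ℕ := [2, 0, 2, 2, 2, 0, 2, 2, 0, 2, 0, 3, 3]
/-- the first reflection -/
def wn : List ℕ := [2, 0, 2, 0, 3, 0, 3]
/-- the second reflection -/
def wm : List ℕ := [3, 0, 3, 0, 2, 0, 2]
/-- a unitriangular element -/
def wp (x a e : F4) : List ℕ := wv x ++ ww a ++ wz e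
/-- equal words -/
noncomputable def eq (v w : List ℕ) : Bool := eqB actL 2 (List.range 24) v w
/-- different words -/
noncomputable def ne (v w : List ℕ) : Bool := neB actL 2 (List.range 24) v w
/-- a conjugate word -/
noncomputable def cw (r v : List ℕ) : List ℕ := r ++ v ++ invA r []
/-- the conjugating word of a candidate -/
noncomputable def wq (V : List ℕ) : List ℕ := invA (V.take (V.length / 2)) []

theorem mm {u v w : List ℕ} (h : eq (u ++ v) w = true) : evW l u * evW l v = evW l w :=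
  (evW_append ..).symm.trans (WL.eq h)
theorem ecw (r v : List ℕ) : evW l (cw r v) = evW l r * evW l v * (evW l r)⁻¹ := by
  rw [cw, evW_append, evW_append, evW_inv]
theorem cc {r v w : List ℕ} (h : eq (cw r v) w = true) : evW l r * evW l v * (evW l r)⁻¹ = evW l w :=
  (ecw r v).symm.trans (WL.eq h)

theorem c_v : ∀ x y, eq (wv x ++ wv y) (wv (x + y)) = true := by decide +kernel
theorem c_w : ∀ x y, eq (ww x ++ ww y) (ww (x + y)) = true := by decide +kernel
theorem c_z : ∀ x y, eq (wz x ++ wz y) (wz (x + y)) = true := by decide +kernel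
theorem c_zv : ∀ x y, eq (wz x ++ wv y) (wv y ++ wz x) = true := by decide +kernel
theorem c_zw : ∀ x y, eq (wz x ++ ww y) (ww y ++ wz x) = true := by decide +kernel
theorem c_wv : ∀ a x, eq (ww a ++ wv x) (wp x a (a * x)) = true := by decide +kernel
theorem c_inj : ∀ x a e, (x = 0 ∧ a = 0 ∧ e = 0) ∨ ne (wp x a e) [] = true := by decide +kernel
theorem c_h : ∀ x a e, eq (cw wh (wp x a e)) (wp (ϖ * x) (ϖ * a) (ω * e)) = true := by decide +kernel
theorem c_n : ∀ x e, eq (cw wn (wp x 0 e)) (wp e 0 x) = true := by decide +kernel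
theorem c_m : ∀ a e, eq (cw wm (wp 0 a e)) (wp 0 e a) = true := by decide +kernel
theorem c_aut : ∀ v ∈ [2, 3], ∀ V ∈ VL, (wf1 2 V = true ∧ eq (cw (wq V) V) [0] = true) ∧ ((V = [0] ∧ v = 2) ∨
    ∃ x, ∀ e, ne (cw (wq V) (subW [V, [v]] (wp x 0 0))) (wp x 0 e) = true) := by decide +kernel
theorem c_wf : ∀ x, wf1 2 (wp x 0 0) = true := by decide +kernel

/-- the coordinates in `M₂₁` -/
noncomputable def X : Pm M21 where
  p x a e := evW l (wp x a e)
  mul x a e x' a' e' := by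
    have zv := fun x y => (mm (c_zv x y)).trans (evW_append ..)
    have zw := fun x y => (mm (c_zw x y)).trans (evW_append ..)
    have wv' := mm (c_wv a x')
    simp only [wp, evW_append] at wv' ⊢
    rw [← mm (c_v x x'), ← mm (c_w a a'), add_comm, ← mm (c_z _ (e + e')), ← mm (c_z e e')]
    calc _ = evW l (wv x) * (evW l (ww a) * (evW l (wz e) * evW l (wv x'))) * evW l (ww a') * evW l (wz e') := by
          group
      _ = evW l (wv x) * evW l (wv x') * evW l (ww a) * (evW l (wz (a * x')) * (evW l (wz e) * evW l (ww a'))) *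
          evW l (wz e') := by rw [zv, ← mul_assoc (evW l (ww a)), wv']; group
      _ = _ := by rw [zw, ← mul_assoc (evW l (wz _)), zw]; group
  inj x a e h := (c_inj x a e).resolve_right fun c => WL.ne c h

theorem X_z : X.p 0 0 1 = l 0 := by
  show evW l [0] = _
  simp [xl]

theorem o2 : orderOf (l 0) = 2 :=
  haveI := Fact.mk Nat.prime_two
  orderOf_eq_prime (by rw [← X_z, sq, X.z_sq]) (X_z ▸ X.z_ne one_ne_zero)

theorem cen {g : M21} (h : g * l 0 = l 0 * g) : g ∈ X.T := by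
  have : X.T = centralizer {l 0} := eq_of_le_of_card_ge (by
    rintro _ ⟨x, a, e, rfl⟩
    exact mem_centralizer_singleton_iff.2 (X_z ▸ (X.z_comm ..).symm)) (by
      rw [(cls2 o2).1]
      exact (Nat.card_eq_fintype_card.trans (by decide)).ge.trans (Nat.card_le_card_of_injective
        (fun u : F4 × F4 × F4 => (⟨_, X.p_T u.1 u.2.1 u.2.2⟩ : X.T)) fun u v e => by
          obtain ⟨h1, h2, h3⟩ := X.p_inj (congrArg Subtype.val e)
          exact Prod.ext h1 (Prod.ext h2 h3)))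
  exact this.ge (mem_centralizer_singleton_iff.2 h)

theorem aut (γ : M21 ≃* M21) (h0 : γ (l 0) = l 0) (h1 : ∀ x, ∃ e, γ (X.p x 0 0) = X.p x 0 e) :
    ∃ t ∈ X.T, ∀ g, γ g = t * g * t⁻¹ := by
  have x7 : l 1 ^ 7 = 1 := by simpa [evW_powW, xl] using WL.eq (v := powW [2] 7) (w := []) (by decide +kernel)
  have l1 : l 1 ≠ 1 := by simpa [xl] using WL.ne (v := [2]) (w := []) (by decide +kernel)
  have : Fact (Nat.Prime 7) := ⟨by decide⟩
  obtain ⟨v, hv, k, hk⟩ := cls7 (g := γ (l 1)) (orderOf_eq_prime (by rw [← map_pow, x7, map_one])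
    (by simpa using l1))
  obtain ⟨v, hv', rfl⟩ : ∃ u ∈ [2, 3], v = [u] := by
    simp only [List.mem_cons, List.not_mem_nil, or_false] at hv
    rcases hv with rfl | rfl
    exacts [⟨2, by simp, rfl⟩, ⟨3, by simp, rfl⟩]
  have xv : Commute (l 1) (xl l v) := by
    simp only [List.mem_cons, List.not_mem_nil, or_false] at hv'
    rcases hv' with rfl | rfl <;> simp [xl]
  let δ : M21 ≃* M21 := γ.trans (MulAut.conj k⁻¹)
  have d1 : δ (l 1) = xl l v := by simp [δ, ← hk, mul_assoc]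
  have r5 := WL.rels (Rs := [[0, 0], powW [0, 2] 5, powW [0, 2, 2] 5]) (by decide +kernel)
  obtain ⟨V, hV, j, e⟩ := aut_l (g := δ (l 0)) hv'
    (by rw [← map_mul, show l 0 * l 0 = 1 by simpa [xl] using r5 [0, 0] (by simp), map_one])
    (by rw [← d1, ← map_mul, ← map_pow, show (l 0 * l 1) ^ 5 = 1 by
      simpa [evW_powW, xl] using r5 (powW [0, 2] 5) (by simp), map_one])
    (by rw [← d1, ← map_mul, ← map_mul, ← map_pow, show (l 0 * (l 1 * l 1)) ^ 5 = 1 by
      simpa [evW_powW, xl] using r5 (powW [0, 2, 2] 5) (by simp), map_one])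
  let ε : M21 ≃* M21 := δ.trans (MulAut.conj (l 1 ^ j)⁻¹)
  have e1 : ε (l 1) = xl l v := by
    simp only [ε, MulEquiv.trans_apply, d1, MulAut.conj_apply, inv_inv]
    rw [mul_assoc, ← (xv.pow_left j).eq, inv_mul_cancel_left]
  have e0 : ε (l 0) = evW l V := by
    show (l 1 ^ j)⁻¹ * δ (l 0) * (l 1 ^ j)⁻¹⁻¹ = _
    rw [e]; group
  have he : ∀ y, ε y = ((l 1 ^ j)⁻¹ * k⁻¹) * γ y * ((l 1 ^ j)⁻¹ * k⁻¹)⁻¹ := fun y => by
    simp only [ε, δ, MulEquiv.trans_apply, MulAut.conj_apply]; group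
  generalize (l 1 ^ j)⁻¹ * k⁻¹ = s, ε = ε at he e0 e1
  have ew : ∀ w, wf1 2 w = true → ε (evW l w) = evW l (subW [V, [v]] w) := fun w hw => by
    rw [evW_subW]
    exact map_evW_of ε.toMonoidHom (fun i hi => by
      interval_cases i
      exacts [e0, by simpa [nthW] using e1]) hw
  obtain ⟨⟨-, c1⟩, c2⟩ := c_aut v hv' V hV
  have hu : evW l (wq V) * s ∈ X.T := cen (by
    have := cc c1
    rw [← e0, he, h0, show evW l [0] = l 0 from X_z] at this
    nth_rewrite 2 [← this]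
    group)
  rcases c2 with ⟨rfl, rfl⟩ | ⟨x, c2⟩
  · refine ⟨s⁻¹, inv_mem (by simpa [wq, invA] using hu), fun g => ?_⟩
    have : ε g = g := gen_le (K := ε.toMonoidHom.eqLocus (MonoidHom.id _)) (fun i hi => by
      interval_cases i
      exacts [e0.trans X_z, e1.trans (by simp [xl])]) (gen_l ▸ mem_top g)
    nth_rewrite 2 [← this]
    rw [he]; group
  · obtain ⟨e', h1⟩ := h1 x
    obtain ⟨y, a, b, hu⟩ := hu
    refine absurd ?_ (WL.ne (c2 (e' + a * x + 0 * y)))
    rw [ecw, ← ew _ (c_wf x), he]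
    refine Eq.trans ?_ (X.p_conj y a b x 0 e')
    rw [← hu, ← h1]
    show _ = _ * γ (evW l (wp x 0 0)) * _
    group

end SzM
open SzM

theorem exists_st {G : Type*} [Group G] [Finite G] {L : Subgroup G} (hL : Cfsg.IsStandardSubgroup L)
    {F : Type*} [Field F] [Fintype F] (hF : Fintype.card F = 4)
    (e : L ≃* Matrix.ProjectiveSpecialLinearGroup (Fin 3) F) : ∃ Y : St G, Y.L = L := by
  obtain ⟨φ⟩ := H15.M21_equiv_PSL F hF
  let θ : M21 ≃* L := φ.trans e.symm
  let ι : M21 →* G := L.subtype.comp θ.toMonoidHom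
  have hi : Function.Injective ι := L.subtype_injective.comp θ.injective
  have mL : ∀ g, ι g ∈ L := fun g => (θ g).2
  have sj : ∀ b ∈ L, ∃ g, ι g = b := fun b hb => ⟨θ.symm ⟨b, hb⟩, by simp [ι]⟩
  have cj : ∀ {r v w}, eq (cw r v) w = true → ι (evW l r) * ι (evW l v) * (ι (evW l r))⁻¹ = ι (evW l w) :=
    fun h => by rw [← cc h, map_mul, map_mul, map_inv]
  let P : Pm G := ⟨fun x a e => ι (X.p x a e), fun _ _ _ _ _ _ => by rw [← map_mul, X.mul],
    fun _ _ _ h => X.inj _ _ _ (hi (h.trans ι.map_one.symm))⟩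
  have mT : ∀ t ∈ X.T, ι t ∈ P.T := by rintro _ ⟨x, a, e, rfl⟩; exact P.p_T ..
  have pz : P.p 0 0 1 = ι (l 0) := congrArg ι X_z
  have := H15.isSimple_M21
  have := Fact.mk Nat.prime_two
  refine ⟨⟨P, L, hL, fun M h1 h2 => ?_, fun _ _ _ => mL _, ι (evW l wh), mL _, ?_, fun x a e => cj (c_h x a e),
    ι (evW l wn), mL _, ?_, fun x e => cj (c_n x e), ι (evW l wm), mL _, ?_, fun a e => cj (c_m a e),
    fun b hb h2 h1 => ?_, fun b hb h => ?_, fun y hy A => ?_, fun M hT h1 h2 h3 b hb => ?_⟩, rfl⟩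
  · have : (M.comap ι).Normal := ⟨fun n hn g => by
      rw [mem_comap, map_mul, map_mul, map_inv]
      exact conj_mem_of_mem_normalizer (h2 (mL g)) hn⟩
    refine this.eq_bot_or_eq_top.imp (fun k => eq_bot_iff.2 fun b hb => ?_) fun k => le_antisymm h1 fun b hb => ?_
    · obtain ⟨g, rfl⟩ := sj b (h1 hb)
      rw [show g = 1 from k.le hb, map_one]; exact one_mem _
    · obtain ⟨g, rfl⟩ := sj b hb
      exact k.ge (mem_top g)
  · rw [← map_mul, ← map_mul, ← evW_append, mm (w := []) (by decide +kernel), evW_nil, map_one]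
  · rw [← map_mul, mm (w := []) (by decide +kernel), evW_nil, map_one]
  · rw [← map_mul, mm (w := []) (by decide +kernel), evW_nil, map_one]
  · obtain ⟨g, rfl⟩ := sj b hb
    obtain ⟨-, k, rfl⟩ := cls2 (g := g) (orderOf_eq_prime (hi (by rw [sq, map_mul, h2, map_one]))
      fun e => h1 (by rw [e, map_one]))
    exact ⟨ι k, mL k, by rw [pz, map_mul, map_mul, map_inv]⟩
  · obtain ⟨g, rfl⟩ := sj b hb
    exact mT g (cen (hi (by rw [map_mul, map_mul, ← pz, h])))
  · let γ : M21 ≃* M21 := θ.trans ((L.normalizerMonoidHom ⟨y, hy⟩).trans θ.symm)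
    have hγ : ∀ g, ι (γ g) = y * ι g * y⁻¹ := fun g => by simp [γ, ι]
    obtain ⟨t, ht, k⟩ := aut γ (hi (by rw [hγ, ← pz, A.triv.2]))
      fun x => (A.triv.1 x 0 0).imp fun _ k => hi ((hγ _).trans k)
    refine ⟨ι t, mT t ht, fun b hb => ?_⟩
    obtain ⟨g, rfl⟩ := sj b hb
    have := hγ g
    rw [k, map_mul, map_mul, map_inv] at this
    calc _ = (ι t)⁻¹ * (ι t * ι g * (ι t)⁻¹) * y := by group
      _ = _ := by rw [this]; group
  · obtain ⟨g, rfl⟩ := sj b hb
    refine gen_le (K := M.comap ι) (fun i hi => ?_) (gen_l ▸ mem_top g)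
    interval_cases i
    · exact hT (pz ▸ P.p_T ..)
    · have := WL.eq (v := [2]) (w := wp 1 0 ω ++ wh ++ wn ++ wm ++ wn ++ wp ϖ ϖ 1) (by decide +kernel)
      rw [show evW l [2] = l 1 by simp [xl]] at this
      rw [mem_comap, this]
      simp only [evW_append _ _ wh, evW_append _ _ wn, evW_append _ _ wm, evW_append _ _ (wp ..), map_mul]
      exact mul_mem (mul_mem (mul_mem (mul_mem (mul_mem (hT (P.p_T 1 0 ω)) h1) h2) h3) h2) (hT (P.p_T ϖ ϖ 1))

end H10.Sz
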