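import Mathlib
import Cfsg.Agent.Lib.Std.Fus
import Cfsg.Agent.Lib.Co1.Loc
import Cfsg.Agent.Lib.Leech.OutCo

/-! A standard subgroup isomorphic to `Co0` with cyclic Sylow 2-subgroups in its centraliser. -/

set_option autoImplicit false
set_option maxRecDepth 100000
set_option exponentiation.threshold 700

namespace H10.Std.C0

open Cfsg Finset H15 H16 H74.Co1
open H96.Geo.M24 (c2A c2B)
open scoped symmDiff Pointwise

def LB : List ℕ := [0, 8581192, 4845570, 13303882, 13463644, 5210132, 8683614, 421910, 3416079,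
  11980871, 8245261, 16719941, 16339027, 8101915, 11575377, 3297305, 6053905, 14585945, 1413139,
  9920603, 9506893, 1302533, 14213199, 5902343, 6832158, 15380566, 2207772, 10698836, 10825794,
  2605066, 15515712, 7221256, 8966165, 663645, 12656663, 4444255, 4563017, 13062145, 806987,
  9347075, 12382234, 4063314, 16056344, 7860304, 7438406, 15953934, 3698756, 12222476, 13938692,
  5652556, 10305542, 2076750, 1687640, 10170384, 5255258, 13811730, 14716939, 6447171, 11100169,
  2854977, 3006551, 11472927, 6557781, 15130653]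

theorem LB_ok : (LB.all isCode && allLt2 64 64 fun u => force (cw u) fun m =>
    !(Nat.beq (imgM c2B m) m) || LB.any fun e => Nat.beq (Nat.xor e (imgM c2B e)) m) = true := by
  decide +kernel

theorem coh_B {d : Finset GolayPt} (hd : d ∈ code) (e : permOf c2B • d = d) :
    ∃ f ∈ code, f ∆ (permOf c2B • f) = d := by
  obtain ⟨u, hu, rfl⟩ := exists_cw_of_mem_codeSets hd
  have ok := okP_of_inM24 inM24_2B
  have h := LB_ok
  simp only [Bool.and_eq_true, List.all_eq_true, allLt2_iff, force_eq, Nat.beq_eq,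
    Bool.or_eq_true, Bool.not_eq_true', List.any_eq_true] at h
  rw [permOf_smul ok] at e
  have e' : Nat.beq (imgM c2B (cw u)) (cw u) = true :=
    Nat.beq_eq ▸ ofMask_inj (imgM_lt ok _) (cw_lt hu) e
  obtain ⟨r, hr, a⟩ := (h.2 u hu).resolve_left (by rw [e']; exact Bool.noConfusion)
  exact ⟨ofMask r, ofMask_mem_of_isCode (h.1 r hr), by rw [permOf_smul ok, ← ofMask_xor, a]⟩

/-- code words fixed by a fixed point free involution -/
theorem coh {π : M24} (h2 : π * π = 1) (hf : ∀ i, (π : Equiv.Perm GolayPt) i ≠ i)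
    {d : Finset GolayPt} (hd : d ∈ code) (e : (π : Equiv.Perm GolayPt) • d = d) :
    ∃ f ∈ code, f ∆ ((π : Equiv.Perm GolayPt) • f) = d := by
  have o2 : orderOf (π : Equiv.Perm GolayPt) = 2 := by
    rw [Subgroup.orderOf_coe]
    exact orderOf_eq_prime (by rw [pow_two]; exact h2) fun h1 => hf none (by rw [h1]; rfl)
  obtain ⟨k, hk, e1⟩ := H96.Geo.conj2B π.2 o2
    (Finset.card_eq_zero.2 (Finset.eq_empty_of_forall_notMem fun i hi => hf i (H96.Geo.mem_Fix.1 hi)))
  obtain ⟨f, hf', e2⟩ := coh_B (smul_mem_code (inv_mem hk) hd) (by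
    rw [← e1, mul_smul, mul_smul] at e
    exact eq_inv_smul_iff.2 e)
  refine ⟨k • f, smul_mem_code hk hf', ?_⟩
  rw [← e1, mul_smul, mul_smul, inv_smul_smul, ← smul_symmDiff, e2, smul_inv_smul]

theorem comm_iff {e d : Finset GolayPt} (he : e ∈ code) (hd : d ∈ code) (π : M24) :
    eps e he * permHom π * eps d hd = eps d hd * (eps e he * permHom π) ↔
      (π : Equiv.Perm GolayPt) • d = d := by
  rw [mul_assoc, permHom_mul_eps, ← mul_assoc, ← mul_assoc, mul_left_inj, eps_comm hd, mul_right_inj]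
  exact ⟨eps_inj, eps_congr⟩

theorem sq_iff {e d : Finset GolayPt} (he : e ∈ code) (hd : d ∈ code) (π : M24) :
    eps e he * permHom π * (eps e he * permHom π) = eps d hd ↔
      π * π = 1 ∧ e ∆ ((π : Equiv.Perm GolayPt) • e) = d := by
  rw [eps_perm_mul, ← mul_one (eps d hd), ← map_one permHom]
  exact ⟨eps_perm_inj, fun h => by rw [h.1, eps_congr h.2]⟩

theorem sq_of_cent {g : Co0} (hg : g ∈ monoGroup) (h : ∀ x ∈ E0, g * x = x * g) : g * g = 1 := by
  obtain ⟨e, he, π, rfl⟩ := exists_eps_perm hg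
  have : π = 1 := Subtype.ext (Equiv.ext fun i => by
    by_contra hi
    obtain ⟨c, hc, h1, h2⟩ := exists_code_sep (i := i) (j := (π : Equiv.Perm GolayPt) i) (Ne.symm hi)
    have := (comm_iff he hc π).1 (h _ (eps_mem_E0 hc))
    exact h2 (this ▸ Finset.smul_mem_smul_finset h1))
  rw [this, map_one, mul_one, eps_mul_self]

theorem odd_index {O : Finset GolayPt} (hO : O ∈ octads) :
    ¬ 2 ∣ (monoGroup ⊓ Subgroup.centralizer ({eps O hO.1} : Set Co0)).index := by
  have := (monoGroup ⊓ Subgroup.centralizer ({eps O hO.1} : Set Co0)).index_mul_card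
  rw [card_mono_cent, card_stab_octad hO, card_Co0] at this
  rw [Nat.eq_of_mul_eq_mul_right (by norm_num : 0 < 322560 * 4096)
    (this.trans (by norm_num : 8315553613086720000 = 6293912625 * (322560 * 4096)))]
  norm_num

variable {G : Type*} [Group G] [Finite G] {f : Co0 →* G}

theorem not_fus_aux (h : Intr f negCo0) (hout : ∀ α : MulAut Co0, ∃ b, ∀ a, α a = b * a * b⁻¹)
    {O c e0 : Finset GolayPt} (hO : O ∈ octads) (hc : c ∈ code) (hcO : c = O ∨ c = Oᶜ)
    (he0 : e0 ∈ code) {π0 : M24} (h1 : π0 * π0 = 1) (h2 : e0 ∆ ((π0 : Equiv.Perm GolayPt) • e0) = c)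
    {i0 : GolayPt} (h3 : (π0 : Equiv.Perm GolayPt) i0 = i0) : ¬ Fus f negCo0 (eps c hc) := by
  intro hF
  have cO : ∀ σ : Equiv.Perm GolayPt, (σ • O = O ↔ σ • c = c) ∧ (σ • c = c ↔ σ • cᶜ = cᶜ) := fun σ => by
    refine ⟨?_, by rw [smul_compl, compl_inj_iff]⟩
    rcases hcO with rfl | rfl
    · rfl
    · rw [smul_compl, compl_inj_iff]
  have y2 := (sq_iff he0 hc π0).2 ⟨h1, h2⟩
  have ym : eps e0 he0 * permHom π0 ∈ monoGroup := mul_mem (eps_mem _) (permHom_mem _)
  obtain ⟨S, s1, s2, s3, s4⟩ := exists_syl_of_index (odd_index hO)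
    (S0 := Subgroup.zpowers (eps e0 he0 * permHom π0) ⊔ E0) (by
      refine sup_le (Subgroup.zpowers_le.2 ⟨ym, ?_⟩) ?_
      · refine Subgroup.mem_centralizer_singleton_iff.2 ((comm_iff he0 hO.1 π0).2 ((cO _).1.2 ?_))
        rw [← comm_iff he0 hc, ← y2, mul_assoc (eps e0 he0 * permHom π0)]
      · rintro _ ⟨d, hd, rfl⟩
        exact ⟨eps_mem _, Subgroup.mem_centralizer_singleton_iff.2 (eps_comm _ _)⟩) (by
      refine IsPGroup.to_sup_of_normal_right' ?_ (IsPGroup.of_card (n := 12) card_E0) ?_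
      · rintro ⟨_, k, rfl⟩
        refine ⟨2, Subtype.ext ?_⟩
        show ((eps e0 he0 * permHom π0) ^ k) ^ 2 ^ 2 = 1
        rw [← zpow_natCast, ← zpow_mul, mul_comm, zpow_mul, zpow_natCast, show 2 ^ 2 = 2 * 2 from rfl,
          pow_mul, pow_two, pow_two, y2, eps_mul_self, one_zpow]
      · exact Subgroup.zpowers_le.2 (Subgroup.mem_normalizer_fintype fun x hx => conj_mem_E0 ym hx))
  have hE : E0 ≤ S := le_sup_right.trans s1
  have dec : ∀ s ∈ S, ∃ e, ∃ he : e ∈ code, ∃ π : M24, s = eps e he * permHom π ∧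
      (π : Equiv.Perm GolayPt) • c = c := fun s hs => by
    obtain ⟨e, he, π, rfl⟩ := exists_eps_perm (s2 hs).1
    exact ⟨e, he, π, rfl, (cO _).1.1
      ((comm_iff he hO.1 π).1 (Subgroup.mem_centralizer_singleton_iff.1 (s2 hs).2))⟩
  have hc8 : c.card = 8 ∨ c.card = 16 := by
    rcases hcO with rfl | rfl
    · exact Or.inl hO.2
    · right; rw [Finset.card_compl, hO.2]; rfl
  obtain ⟨g, g1, g2⟩ := h.syl_aut hout s3 s4 (a0 := eps c hc) (fun s hs => by
      obtain ⟨e, he, π, rfl, e1⟩ := dec s hs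
      exact (comm_iff he hc π).2 e1)
    (fun e => ne_univ_of_card (by omega) (eps_inj e)) hF
    fun s hs e => sq_of_cent (s2 hs).1 fun x hx => e x (hE hx)
  have hF' : ∀ π : M24, ∃ d, ∃ _ : d ∈ code, π * π = 1 → (∀ i, (π : Equiv.Perm GolayPt) i ≠ i) →
      (π : Equiv.Perm GolayPt) • c = c → d ∆ ((π : Equiv.Perm GolayPt) • d) = cᶜ := fun π => by
    by_cases a : π * π = 1 ∧ (∀ i, (π : Equiv.Perm GolayPt) i ≠ i) ∧ (π : Equiv.Perm GolayPt) • c = c
    · obtain ⟨d, hd, e⟩ := coh a.1 a.2.1 (compl_mem_code hc) ((cO _).2.1 a.2.2)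
      exact ⟨d, hd, fun _ _ _ => e⟩
    · exact ⟨∅, empty_mem_code, fun a1 a2 a3 => absurd ⟨a1, a2, a3⟩ a⟩
  choose F F1 F2 using hF'
  have main : ∀ x : {x : Co0 // x ∈ S ∧ x * x = eps c hc}, ∃ y : {x : Co0 // x ∈ S ∧ x * x = eps c hc},
      ∃ e, ∃ he : e ∈ code, ∃ π : M24, g * f x * g⁻¹ = f (eps e he * permHom π) ∧
        y.1 = eps (F π) (F1 π) * (eps e he * permHom π) ∧ ∀ i, (π : Equiv.Perm GolayPt) i ≠ i := by
    rintro ⟨x, hx, x2⟩
    obtain ⟨s, hs, e1⟩ := g2 x hx
    obtain ⟨e, he, π, rfl, e2⟩ := dec s hs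
    have e3 : eps e he * permHom π * (eps e he * permHom π) = negCo0 := h.inj (by
      rw [map_mul, ← e1, ← g1, ← x2, map_mul]; group)
    obtain ⟨e4, e5⟩ := (sq_iff he univ_mem_code π).1 e3
    have fpf : ∀ i, (π : Equiv.Perm GolayPt) i ≠ i := fun i hi => by
      have a : i ∈ e ∆ ((π : Equiv.Perm GolayPt) • e) := e5 ▸ Finset.mem_univ i
      have b : i ∈ (π : Equiv.Perm GolayPt) • e ↔ i ∈ e := by
        nth_rewrite 1 [← hi]
        exact Finset.smul_mem_smul_finset_iff _
      rw [Finset.mem_symmDiff, b] at a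
      tauto
    refine ⟨⟨_, mul_mem (hE (eps_mem_E0 (F1 π))) hs, ?_⟩, e, he, π, e1, rfl, fpf⟩
    rw [← mul_assoc (eps (F π) (F1 π)), eps_mul_eps, sq_iff]
    refine ⟨e4, ?_⟩
    rw [smul_symmDiff, symmDiff_symmDiff_symmDiff_comm, e5, F2 π e4 fpf e2, ← compl_eq_symmDiff,
      compl_compl]
  choose φ e he π m1 m2 m3 using main
  have inj : Function.Injective φ := fun x x' a => by
    have b := (m2 x).symm.trans ((congrArg Subtype.val a).trans (m2 x'))
    have b' := b
    rw [← mul_assoc, ← mul_assoc, eps_mul_eps, eps_mul_eps] at b'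
    have b2 := (eps_perm_inj b').1
    have b3 : eps (F (π x)) (F1 _) = eps (F (π x')) (F1 _) := eps_congr (by rw [b2])
    rw [b3, mul_right_inj] at b
    have b4 := m1 x
    rw [b, ← m1 x', mul_left_inj, mul_right_inj] at b4
    exact Subtype.ext (h.inj b4)
  obtain ⟨x, hx⟩ := Finite.injective_iff_surjective.1 inj
    ⟨_, s1 (Subgroup.mem_sup_left (Subgroup.mem_zpowers _)), y2⟩
  have b := (m2 x).symm.trans (congrArg Subtype.val hx)
  rw [← mul_assoc, eps_mul_eps] at b
  exact m3 x i0 (by rw [(eps_perm_inj b).1, h3])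

noncomputable def s2A : M24 := ⟨permOf c2A, permOf_mem_M24 inM24_2A⟩

theorem s2A_sq : s2A * s2A = 1 := Subtype.ext (by
  have ok := okP_of_inM24 inM24_2A
  show permOf c2A * permOf c2A = 1
  rw [permOf_mul_eq ok ok (show mulP c2A c2A = idP by decide +kernel), permOf_idP])

theorem s2A_fix : (s2A : Equiv.Perm GolayPt) (pt 0) = pt 0 := by
  show permOf c2A (pt 0) = pt 0
  rw [permOf_pt (okP_of_inM24 inM24_2A) (by norm_num)]
  rfl

theorem fus_perm {c : Finset GolayPt} {hc : c ∈ code} (hF : Fus f negCo0 (eps c hc))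
    {σ : Equiv.Perm GolayPt} (hσ : σ ∈ M24) {d : Finset GolayPt} (hd : d ∈ code) (e : σ • c = d) :
    Fus f negCo0 (eps d hd) :=
  hF.conj ((conj_eps ⟨σ, hσ⟩ hc).trans (eps_congr e))

/-- `-1` is not fused to an octad sign change or its negative -/
theorem not_fus (h : Intr f negCo0) (hout : ∀ α : MulAut Co0, ∃ b, ∀ a, α a = b * a * b⁻¹)
    {c : Finset GolayPt} (hc : c ∈ code) (h8 : c.card = 8 ∨ c.card = 16) :
    ¬ Fus f negCo0 (eps c hc) := by
  intro hF
  have ok := okP_of_inM24 inM24_2A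
  rcases h8 with h8 | h8
  · have hO : ofMask 1265762 ∈ octads := ofMask_mem_octads (by decide +kernel)
    obtain ⟨σ, hσ, e⟩ := M24_trans_octads ⟨hc, h8⟩ hO
    refine not_fus_aux h hout hO hO.1 (Or.inl rfl)
      (ofMask_mem_of_isCode (m := 13062145) (by decide +kernel)) s2A_sq ?_ s2A_fix
      (fus_perm hF hσ _ e)
    show _ ∆ (permOf c2A • _) = _
    rw [permOf_smul ok, ← ofMask_xor]
    exact congrArg ofMask (by decide +kernel)
  · have hO : ofMask 14950785 ∈ octads := ofMask_mem_octads (by decide +kernel)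
    obtain ⟨σ, hσ, e⟩ := M24_trans_octads (o := cᶜ)
      ⟨compl_mem_code hc, by rw [Finset.card_compl, h8]; rfl⟩ hO
    refine not_fus_aux h hout hO (compl_mem_code hO.1) (Or.inr rfl)
      (ofMask_mem_of_isCode (m := 11530756) (by decide +kernel)) s2A_sq ?_ s2A_fix
      (fus_perm hF hσ _ (by rw [← e, smul_compl, compl_compl]))
    show _ ∆ (permOf c2A • _) = _
    rw [permOf_smul ok, ← ofMask_xor, ← ofMask_compl]
    exact congrArg ofMask (by decide +kernel)

/-- an involution of `Co0` fused to `-1` is `-1` or of dodecad type -/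
theorem dodecad_of_fus (h : Intr f negCo0) (hout : ∀ α : MulAut Co0, ∃ b, ∀ a, α a = b * a * b⁻¹)
    {b : Co0} (b2 : b * b = 1) (hb : b ≠ negCo0) (hF : Fus f negCo0 b) :
    ∃ l : Co0, ∃ D, ∃ hD : D ∈ dodecads, l * b * l⁻¹ = eps D hD.1 := by
  rcases classes_co0 (Or.inl b2) with ⟨l, c, hc, e⟩ | ⟨l, e⟩
  · have hF' := hF.conj e
    rcases card_of_mem_code hc with a | a | a | a | a
    · exact absurd ((eps_congr (Finset.card_eq_zero.1 a)).trans eps_empty) (hF'.ne_one h)
    · exact absurd hF' (not_fus h hout hc (Or.inl a))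
    · exact ⟨l, c, ⟨hc, a⟩, e⟩
    · exact absurd hF' (not_fus h hout hc (Or.inr a))
    · refine absurd ?_ hb
      have : eps c hc = negCo0 := eps_congr (Finset.eq_univ_of_card _ a)
      rw [this, mul_inv_eq_iff_eq_mul, ← neg_comm, mul_right_inj] at e
      exact e
  · exfalso
    have a : l * b * l⁻¹ * (l * b * l⁻¹) = 1 := by
      calc _ = l * (b * b) * l⁻¹ := by group
        _ = 1 := by rw [b2]; group
    rcases e with e | e <;> rw [e] at a
    · exact negCo0_ne_one (eB_sq.symm.trans a)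
    · rw [mul_assoc, ← mul_assoc eB, neg_comm, mul_assoc, eB_sq, negCo0_mul_self, mul_one] at a
      exact negCo0_ne_one a

theorem comm_eps_perm {e : Finset GolayPt} (he : e ∈ code) (σ : M24) :
    eps e he * permHom σ * (eps e he)⁻¹ * (permHom σ)⁻¹ =
      eps (e ∆ ((σ : Equiv.Perm GolayPt) • e)) (symmDiff_mem_code he (smul_mem_code σ.2 he)) := by
  rw [eps_inv, mul_assoc, mul_assoc, ← mul_assoc (permHom σ), conj_eps, eps_mul_eps]

theorem s2B_smul (m : ℕ) : (s2B : Equiv.Perm GolayPt) • ofMask m = ofMask (imgM c2B m) :=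
  permOf_smul (okP_of_inM24 inM24_2B) m

/-- `-1` is not fused to any other involution of `Co0` -/
theorem eq_of_fus (h : Intr f negCo0) (hout : ∀ α : MulAut Co0, ∃ b, ∀ a, α a = b * a * b⁻¹)
    {b : Co0} (b2 : b * b = 1) (hF : Fus f negCo0 b) : b = negCo0 := by
  by_contra hb
  obtain ⟨l, D, hD, e⟩ := dodecad_of_fus h hout b2 hb hF
  have all : ∀ D', ∀ hD' : D' ∈ dodecads, Fus f negCo0 (eps D' hD'.1) := fun D' hD' => by
    obtain ⟨σ, hσ, e'⟩ := M24_trans_dodecads hD hD'
    exact fus_perm (hF.conj e) hσ _ e'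
  have h0 : ofMask 14012618 ∈ dodecads := ofMask_mem_dodecads (by decide +kernel)
  have h2 : ofMask 14631152 ∈ dodecads := ofMask_mem_dodecads (by decide +kernel)
  have h3 : ofMask 13811730 ∈ code := ofMask_mem_of_isCode (by decide +kernel)
  obtain ⟨g, hg⟩ := all _ h0
  obtain ⟨y, hy, y2⟩ := h.comm_conj hout (g := g) (u := f (eps _ h3)) (v := f (permHom s2B))
    (y := f (eps _ h2.1)) (by rw [hg, ← map_mul, ← map_mul, eps_comm]) (by
      rw [hg, ← map_mul, ← map_mul, permHom_mul_eps]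
      congr 2
      exact eps_congr ((s2B_smul _).trans (congrArg ofMask (by decide +kernel)))) (by
      rw [← map_inv, ← map_inv, ← map_mul, ← map_mul, ← map_mul, comm_eps_perm]
      refine congrArg f (eps_congr ?_)
      rw [s2B_smul, ← ofMask_xor]
      exact congrArg ofMask (by decide +kernel)) (by rw [← map_mul, eps_mul_self, map_one])
  have hy' : g * f y * g⁻¹ = f (eps _ h2.1) := by rw [← hy]; group
  obtain ⟨l', D', hD', e'⟩ := dodecad_of_fus h hout y2 (by
      rintro rfl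
      have := eps_inj (h.inj (hg.symm.trans hy'))
      exact absurd (ofMask_inj (by norm_num) (by norm_num) this) (by norm_num))
    ((all _ h2).of_conj (g := g⁻¹) (by rw [← hy, inv_inv]))
  have a : Fus f negCo0 (negCo0 * y) :=
    (all _ (compl_mem_dodecads hD')).conj (l := l'⁻¹) (by
      rw [← neg_mul_eps hD'.1, ← e', conj_neg]; group)
  refine not_fus h hout (symmDiff_mem_code h0.1 h2.1) (Or.inl ?_) (a.of_conj (g := g) ?_)
  · rw [← ofMask_xor, card_ofMask]; decide +kernel
  · rw [← eps_mul_eps h0.1 h2.1, map_mul, map_mul, ← hg, ← hy']; group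

def tau : ℕ := 65123147620383358716693383721098530

theorem inM24_tau : inM24 tau = true := by decide +kernel

noncomputable def sT : M24 := ⟨permOf tau, permOf_mem_M24 inM24_tau⟩

theorem sT_smul (m : ℕ) : (sT : Equiv.Perm GolayPt) • ofMask m = ofMask (imgM tau m) :=
  permOf_smul (okP_of_inM24 inM24_tau) m

theorem sT_comm : sT * s2B = s2B * sT := Subtype.ext (by
  have a := okP_of_inM24 inM24_2B
  have b := okP_of_inM24 inM24_tau
  show permOf tau * permOf c2B = permOf c2B * permOf tau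
  rw [permOf_mul_eq b a (show mulP tau c2B = mulP c2B tau by decide +kernel), permOf_mulP a b])

/-- `-1` is a commutator in the centraliser of `eB` -/
theorem neg_comm_eB : ∃ x y : Co0, x * eB = eB * x ∧ y * eB = eB * y ∧
    negCo0 = x * y * x⁻¹ * y⁻¹ := by
  have h1 : ofMask 9851625 ∈ code := ofMask_mem_of_isCode (by decide +kernel)
  have h2 : ofMask 12222476 ∈ code := ofMask_mem_of_isCode (by decide +kernel)
  refine ⟨eps _ h1, eps _ h2 * permHom sT, ?_, ?_, ?_⟩
  · exact ((comm_iff _ h1 s2B).2 ((s2B_smul _).trans (congrArg ofMask (by decide +kernel)))).symm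
  · rw [eB, eps_perm_mul, eps_perm_mul, sT_comm]
    congr 1
    refine eps_congr ?_
    rw [sT_smul, s2B_smul, ← ofMask_xor, ← ofMask_xor]
    exact congrArg ofMask (by decide +kernel)
  · rw [eps_inv, mul_assoc, mul_assoc, ← mul_assoc (eps _ h2 * permHom sT), mul_assoc (eps _ h2),
      permHom_mul_eps, ← mul_assoc (eps _ h2), eps_comm h2, mul_assoc _ (eps _ h2), mul_inv_cancel_right,
      eps_mul_eps]
    refine eps_congr ?_
    rw [sT_smul, ← ofMask_xor, ← ofMask_full]
    exact congrArg ofMask (by decide +kernel)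

theorem normal (h : Intr f negCo0) (hout : ∀ α : MulAut Co0, ∃ b, ∀ a, α a = b * a * b⁻¹)
    (hO : oddCore G = ⊥) : f.range.Normal := by
  by_contra hn
  obtain ⟨g, g1, g2⟩ := h.exists_conj hO hn
  obtain ⟨k, hk, a, e⟩ := h.dec hout g2
  have t2 : k * f a * (k * f a) = 1 := by
    rw [← e]
    calc _ = g * (f negCo0 * f negCo0) * g⁻¹ := by group
      _ = 1 := by rw [h.z_sq]; group
  rcases h.inv_dec hk t2 with ⟨b, e1, b2⟩ | ⟨-, a2⟩
  · exact g1 (by rw [e, e1, eq_of_fus h hout b2 ⟨g, e.trans e1⟩])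
  · obtain ⟨x, y, hx, hy, e2⟩ : ∃ x y : Co0, x * a = a * x ∧ y * a = a * y ∧
        negCo0 = x * y * x⁻¹ * y⁻¹ := by
      obtain ⟨x, y, hx, hy, e2⟩ := neg_comm_eB
      rcases classes_co0 (Or.inr a2) with ⟨l, c, hc, e3⟩ | ⟨l, e3⟩
      · exfalso
        have := eps_mul_self hc
        rw [← e3, show l * a * l⁻¹ * (l * a * l⁻¹) = l * (a * a) * l⁻¹ by group, a2, neg_comm,
          mul_inv_cancel_right] at this
        exact negCo0_ne_one this
      · have c : ∀ x : Co0, x * eB = eB * x → l⁻¹ * x * l * a = a * (l⁻¹ * x * l) := fun x hx => by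
          have : x * (l * a * l⁻¹) = l * a * l⁻¹ * x := by
            rcases e3 with e3 | e3 <;> rw [e3]
            · exact hx
            · rw [← mul_assoc, neg_comm, mul_assoc, hx, mul_assoc]
          calc _ = l⁻¹ * (x * (l * a * l⁻¹)) * l := by group
            _ = _ := by rw [this]; group
        refine ⟨_, _, c x hx, c y hy, ?_⟩
        calc negCo0 = l⁻¹ * negCo0 * l := by rw [neg_comm, inv_mul_cancel_right]
          _ = _ := by rw [e2]; group
    have c : ∀ x : Co0, x * a = a * x → f x * (g * f negCo0 * g⁻¹) = g * f negCo0 * g⁻¹ * f x :=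
      fun x hx => by
        rw [e, ← mul_assoc, KK.comm hk, mul_assoc, mul_assoc, ← map_mul, ← map_mul, hx]
    obtain ⟨b, hb, b2⟩ := h.comm_conj hout (c x hx) (c y hy) (y := f negCo0)
      (by rw [← map_inv, ← map_inv, ← map_mul, ← map_mul, ← map_mul, ← e2]) h.z_sq
    rw [eq_of_fus h hout b2 ⟨g⁻¹, by rw [inv_inv, hb]⟩] at hb
    refine g1 ?_
    nth_rewrite 1 [← hb]
    group

end H10.Std.C0
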