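import Mathlib
import Cfsg.Agent.Lib.Held.T1
import Cfsg.Agent.Lib.LocStruct.Conj

/-! Standard subgroups `2².L₃(4)`, part 1: four-groups; coordinates on subgroups of `UT₅(2)`. -/

set_option autoImplicit false

namespace H10.HeS
open H49.He H69 Subgroup
open H54 (force sel band bor bimp force_eq band_eq_true bor_eq_true bimp_eq_true allL allL_iff
  anyL anyL_iff)

variable {G : Type*} [Group G]

/-- an element of 2-power order -/
def T2 (x : G) : Prop := ∃ n : ℕ, x ^ 2 ^ n = 1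

theorem T2.of_mem {P : Subgroup G} (h : IsPGroup 2 P) {x : G} (hx : x ∈ P) : T2 x :=
  isPGroup_iff_mem.1 h x hx

theorem T2.of_sq {x : G} (h : x * x = 1) : T2 x := ⟨1, by rw [pow_one, sq, h]⟩

theorem T2.conj {x : G} (h : T2 x) (y : G) : T2 (y * x * y⁻¹) :=
  h.imp fun n e => by rw [conj_pow, e, mul_one, mul_inv_cancel]

theorem T2.of_pow {x : G} {k : ℕ} (h : T2 (x ^ 2 ^ k)) : T2 x :=
  let ⟨n, e⟩ := h; ⟨k + n, by rw [pow_add, pow_mul, e]⟩

theorem T2.mul {x y : G} (hx : T2 x) (hy : T2 y) (c : x * y = y * x) : T2 (x * y) :=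
  let ⟨n, e⟩ := hx; let ⟨m, f⟩ := hy
  ⟨n + m, by rw [(show Commute x y from c).mul_pow, pow_add, pow_mul x, e, mul_comm, pow_mul y, f]; simp⟩

theorem T2.pg {x : G} (h : T2 x) : IsPGroup 2 (zpowers x) := isPGroup_iff_mem.2 fun y hy => by
  obtain ⟨n, e⟩ := h
  obtain ⟨k, rfl⟩ := mem_zpowers_iff.1 hy
  exact ⟨n, by rw [← zpow_natCast, ← zpow_mul, mul_comm, zpow_mul, zpow_natCast, e, one_zpow]⟩

theorem T2.eq_one {x : G} {K : Subgroup G} (h : T2 x) (hx : x ∈ K)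
    (hK : ∀ k ∈ K, k * k = 1 → k = 1) : x = 1 := by
  obtain ⟨n, e⟩ := h
  induction n with
  | zero => simpa using e
  | succ n ih => exact ih (hK _ (pow_mem hx _) (by rw [← sq, ← pow_mul, ← pow_succ, e]))

theorem cyc3 {s x y z : G} (h : T2 s) (e1 : s * x * s⁻¹ = y) (e2 : s * y * s⁻¹ = z)
    (e3 : s * z * s⁻¹ = x) : x = y := by
  obtain ⟨n, e⟩ := h
  have h3 : s ^ 3 ∈ centralizer {x} := mem_centralizer_singleton_iff.2 (by
    nth_rewrite 2 [← e3]; rw [← e2, ← e1, pow_three]; group)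
  obtain ⟨k, hk⟩ : ∃ k, 2 ^ n * 2 ^ n = 3 * k + 1 := by
    rw [← mul_pow]
    exact ⟨(2 * 2) ^ n / 3, by have : (2 * 2) ^ n % 3 = 1 := by rw [Nat.pow_mod]; simp
                               omega⟩
  have h1 : (s ^ 3) ^ k * s = 1 := by rw [← pow_mul, ← pow_succ, ← hk, pow_mul, e, one_pow]
  have h2 : s ∈ centralizer {x} := (mul_mem_cancel_left (pow_mem h3 k)).1 (h1 ▸ one_mem _)
  rw [← e1, mem_centralizer_singleton_iff.1 h2, mul_inv_cancel_right]

/-- `x`, `y` is a basis of the four-group `X` -/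
structure B4 (X : Subgroup G) (x y : G) : Prop where
  xx : x * x = 1
  yy : y * y = 1
  xy : x * y = y * x
  x1 : x ≠ 1
  y1 : y ≠ 1
  ne : x ≠ y
  mem : ∀ u, u ∈ X ↔ u = 1 ∨ u = x ∨ u = y ∨ u = x * y

/-- the subgroup on two generators -/
def k4 (x y : G) : Subgroup G := closure {x, y}

theorem k4_cj (x y h : G) : k4 x y ^ᶜ h = k4 (h * x * h⁻¹) (h * y * h⁻¹) := by
  rw [k4, MonoidHom.map_closure, Set.image_pair]; rfl

theorem k4_le {x y : G} {H : Subgroup G} (hx : x ∈ H) (hy : y ∈ H) : k4 x y ≤ H :=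
  (closure_le _).2 (Set.insert_subset hx (Set.singleton_subset_iff.2 hy))

theorem b4_k4 {x y : G} (xx : x * x = 1) (yy : y * y = 1) (xy : x * y = y * x) (x1 : x ≠ 1)
    (y1 : y ≠ 1) (ne : x ≠ y) : B4 (k4 x y) x y := by
  have hx : x ∈ k4 x y := subset_closure (by simp)
  have hy : y ∈ k4 x y := subset_closure (by simp)
  refine ⟨xx, yy, xy, x1, y1, ne, fun u => ⟨fun h => ?_, ?_⟩⟩
  · have a : x * (x * y) = y := by rw [← mul_assoc, xx, one_mul]
    have b : y * (x * y) = x := by rw [← mul_assoc, ← xy, mul_assoc, yy, mul_one]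
    have yx := xy.symm
    clear xy hx hy
    induction h using closure_induction_left with
    | one => simp
    | mul_left s hs u _ ih => rcases hs with rfl | rfl <;> rcases ih with rfl | rfl | rfl | rfl <;> simp [*]
    | inv_mul_cancel s hs u _ ih =>
      rcases hs with rfl | rfl <;> rcases ih with rfl | rfl | rfl | rfl <;>
        simp [*, inv_eq_of_mul_eq_one_right xx, inv_eq_of_mul_eq_one_right yy]
  · rintro (rfl | rfl | rfl | rfl)
    exacts [one_mem _, hx, hy, mul_mem hx hy]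

namespace B4
variable {X Y : Subgroup G} {x y s t u v : G}

theorem mx (h : B4 X x y) : x ∈ X := (h.mem _).2 (by simp)
theorem my (h : B4 X x y) : y ∈ X := (h.mem _).2 (by simp)
theorem xy1 (h : B4 X x y) : x * y ≠ 1 := fun e =>
  h.ne (mul_left_cancel (h.xx.trans e.symm))

theorem symm (h : B4 X x y) : B4 X y x :=
  ⟨h.yy, h.xx, h.xy.symm, h.y1, h.x1, h.ne.symm, fun u => by rw [h.mem, h.xy]; tauto⟩

theorem rot (h : B4 X x y) : B4 X x (x * y) := by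
  have a : x * (x * y) = y := by rw [← mul_assoc, h.xx, one_mul]
  refine ⟨h.xx, ?_, by rw [h.xy, ← mul_assoc, ← h.xy], h.x1, h.xy1, fun e => h.y1 (left_eq_mul.1 e),
    fun u => by rw [h.mem, a]; tauto⟩
  rw [mul_assoc, ← mul_assoc y, ← h.xy, mul_assoc, h.yy, mul_one, h.xx]

theorem base2 (h : B4 X x y) (hu : u ∈ X) (hv : v ∈ X) (u1 : u ≠ 1) (v1 : v ≠ 1) (ne : u ≠ v) :
    B4 X u v := by
  have k := h.symm.rot
  rw [← h.xy] at k
  rcases (h.mem _).1 hu with rfl | rfl | rfl | rfl <;> rcases (h.mem _).1 hv with rfl | rfl | rfl | rfl <;>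
    first | exact absurd rfl u1 | exact absurd rfl v1 | exact absurd rfl ne | exact h | exact h.symm |
      exact h.rot | exact h.rot.symm | exact k | exact k.symm

theorem base (h : B4 X x y) (hu : u ∈ X) (u1 : u ≠ 1) : ∃ v, B4 X u v := by
  by_cases e : u = x
  exacts [⟨y, e ▸ h⟩, ⟨x, h.base2 hu h.mx u1 h.x1 e⟩]

theorem ext (h : B4 X x y) (h' : B4 Y x y) : X = Y := Subgroup.ext fun u => by rw [h.mem, h'.mem]

theorem conj (h : B4 X x y) (s : G) : B4 (X ^ᶜ s) (s * x * s⁻¹) (s * y * s⁻¹) := by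
  refine ⟨by rw [conj_mul, h.xx]; simp, by rw [conj_mul, h.yy]; simp, by rw [conj_mul, conj_mul, h.xy],
    fun e => h.x1 (conj_eq_one_iff.1 e), fun e => h.y1 (conj_eq_one_iff.1 e),
    fun e => h.ne (by simpa using e), fun u => ?_⟩
  have k : ∀ a : G, s⁻¹ * u * s = a ↔ u = s * a * s⁻¹ := fun a =>
    ⟨fun e => by rw [← e]; group, fun e => by rw [e]; group⟩
  rw [mem_cj, h.mem, k, k, k, k, conj_mul]; simp

theorem sq (h : B4 X x y) (hu : u ∈ X) : u * u = 1 := by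
  rcases (h.mem _).1 hu with rfl | rfl | rfl | rfl
  exacts [one_mul _, h.xx, h.yy, h.rot.yy]

theorem le {H : Subgroup G} (h : B4 X x y) (hx : x ∈ H) (hy : y ∈ H) : X ≤ H := fun u hu => by
  rcases (h.mem _).1 hu with rfl | rfl | rfl | rfl
  exacts [one_mem _, hx, hy, mul_mem hx hy]

theorem cent (h : B4 X x y) (hx : s * x = x * s) (hy : s * y = y * s) : s ∈ 𝐂(X) :=
  mem_centralizer_iff.2 fun _ hu => mem_centralizer_singleton_iff.1 (h.le (H := centralizer {s})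
    (mem_centralizer_singleton_iff.2 hx.symm) (mem_centralizer_singleton_iff.2 hy.symm) hu)

theorem ab (h : B4 X x y) : X ≤ 𝐂(X) := h.le (h.cent rfl h.xy) (h.cent h.xy.symm rfl)

theorem pg (h : B4 X x y) : IsPGroup 2 X := isPGroup_iff_mem.2 fun _ hu => T2.of_sq (h.sq hu)

theorem eq_of_le (h : B4 X x y) (h' : B4 Y u v) (le : X ≤ Y) : X = Y :=
  h.ext (h'.base2 (le h.mx) (le h.my) h.x1 h.y1 h.ne)

theorem mov (h : B4 X x y) (hs : s ∈ 𝐍(X)) (c : s * x = x * s) : s ∈ 𝐂(X) ∨ s * y * s⁻¹ = x * y := by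
  rcases (h.mem _).1 (conj_mem_of_mem_normalizer hs h.my) with e | e | e | e
  · exact absurd (conj_eq_one_iff.1 e) h.y1
  · exact absurd (mul_left_cancel (c.trans (mul_inv_eq_iff_eq_mul.1 e).symm)) h.ne
  · exact Or.inl (h.cent c (mul_inv_eq_iff_eq_mul.1 e))
  · exact Or.inr e

theorem two (h : B4 X x y) (hu : u ∈ X) (u1 : u ≠ 1) (hs : s ∈ 𝐍(X)) (ht : t ∈ 𝐍(X))
    (cs : s * u = u * s) (ct : t * u = u * t) : s ∈ 𝐂(X) ∨ t ∈ 𝐂(X) ∨ s * t ∈ 𝐂(X) := by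
  obtain ⟨v, b⟩ := h.base hu u1
  refine (b.mov hs cs).imp_right fun e => (b.mov ht ct).imp_right fun f => b.cent ?_ ?_
  · rw [mul_assoc, ct, ← mul_assoc, cs, mul_assoc]
  · refine mul_inv_eq_iff_eq_mul.1 ?_
    calc _ = s * (t * v * t⁻¹) * s⁻¹ := by group
      _ = s * u * s⁻¹ * (s * v * s⁻¹) := by rw [f]; group
      _ = v := by rw [e, cs, mul_inv_cancel_right, ← mul_assoc, b.xx, one_mul]

theorem fix (h : B4 X x y) (hs : s ∈ 𝐍(X)) (h2 : T2 s) : ∃ u ∈ X, u ≠ 1 ∧ s * u = u * s := by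
  by_contra n
  push Not at n
  have k : ∀ u ∈ X, u ≠ 1 → u ≠ s * u * s⁻¹ ∧ s * u * s⁻¹ ∈ X ∧ s * u * s⁻¹ ≠ 1 := fun u hu u1 =>
    ⟨fun e => n u hu u1 (mul_inv_eq_iff_eq_mul.1 e.symm), conj_mem_of_mem_normalizer hs hu,
      fun e => u1 (conj_eq_one_iff.1 e)⟩
  obtain ⟨a1, a2, a3⟩ := k x h.mx h.x1
  have b := h.base2 h.mx a2 h.x1 a3 a1
  obtain ⟨c1, c2, c3⟩ := k _ a2 a3
  rcases (b.mem _).1 c2 with e | e | e | e
  · exact c3 e
  · exact (k _ b.rot.my b.xy1).1 (by rw [← conj_mul, e, b.xy])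
  · exact c1 e.symm
  · exact a1 (cyc3 h2 rfl e (by rw [← conj_mul, e, b.xy, ← mul_assoc, b.yy, one_mul]))

theorem two' (h : B4 X x y) (hs : s ∈ 𝐍(X)) (ht : t ∈ 𝐍(X)) (s2 : T2 s) (t2 : T2 t) (h2 : T2 (s * t)) :
    s ∈ 𝐂(X) ∨ t ∈ 𝐂(X) ∨ s * t ∈ 𝐂(X) := by
  obtain ⟨u, hu, u1, cu⟩ := h.fix hs s2
  obtain ⟨v, hv, v1, cv⟩ := h.fix ht t2
  by_cases e : u = v
  · exact h.two hu u1 hs ht cu (e ▸ cv)
  have b := h.base2 hu hv u1 v1 e
  refine (b.mov hs cu).imp_right fun e1 => (b.symm.mov ht cv).imp_right fun e2 => absurd ?_ e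
  have f1 : s * t * u * (s * t)⁻¹ = v := by
    calc _ = s * (t * u * t⁻¹) * s⁻¹ := by group
      _ = s * v * s⁻¹ * (s * u * s⁻¹) := by rw [e2]; group
      _ = v := by rw [e1, cu, mul_inv_cancel_right, b.xy, mul_assoc, b.xx, mul_one]
  have f2 : s * t * v * (s * t)⁻¹ = u * v := by rw [← e1, mul_assoc s t, cv]; group
  exact cyc3 h2 f1 f2 (by rw [← conj_mul, f1, f2, b.xy, ← mul_assoc, b.yy, one_mul])

theorem idx (h : B4 X x y) {H : Subgroup G} (c : x ∈ H ∨ y ∈ H ∨ x * y ∈ H) : ∃ u ∈ X, u ≠ 1 ∧ u ∈ H := by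
  rcases c with c | c | c
  exacts [⟨_, h.mx, h.x1, c⟩, ⟨_, h.my, h.y1, c⟩, ⟨_, h.rot.my, h.xy1, c⟩]

end B4

end H10.HeS
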