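import Cfsg.Agent.Lib.Std.He1

/-! Standard subgroups `2².L₃(4)`, part 2: coordinates on subgroups of `UT₅(2)`, tables. -/

set_option autoImplicit false

namespace H10.HeS
open H49.He H69 Subgroup
open H54 (force sel band bor bimp force_eq band_eq_true bor_eq_true bimp_eq_true allL allL_iff
  anyL anyL_iff)

variable {G : Type*} [Group G]

/-- a closed mask inside the unitriangular group -/
abbrev Mk (m : ℕ) : Prop := Closed m ∧ m ||| mT = mT

theorem Mk.ok' {m a : ℕ} (h : Mk m) (ha : inM m a = true) : ok a = true := ok_of_T (inM_mono ha h.2)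

theorem Mk.sl' {m a : ℕ} (h : Mk m) (ha : ok a = true) : inM m a = true ↔ sl a ∈ sub sl m :=
  (emb_sl.mem_sub_iff ha h.1).symm

theorem Mk.iv' {m a : ℕ} (h : Mk m) (ha : inM m a = true) : inM m (iv a) = true :=
  (h.sl' (ok_iv (h.ok' ha))).2 (emb_sl.inv (h.ok' ha) ▸ inv_mem ((h.sl' (h.ok' ha)).1 ha))

theorem Mk.cj' {m k a : ℕ} (h : Mk m) (hk : inM m k = true) (ha : inM m a = true) :
    inM m (cj k a) = true := cj_eq k a ▸ inM_mul h.1 (inM_mul h.1 hk ha) (h.iv' hk)

/-- `g` is multiplicative on the mask `m` -/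
structure Hm (m : ℕ) (g : ℕ → G) : Prop where
  mk' : Mk m
  mul : ∀ {a b}, inM m a = true → inM m b = true → g (a ⋆ b) = g a * g b

/-- the transvection of a position -/
def tv (p : ℕ) : ℕ := Nat.lor I5 (Nat.shiftLeft 1 p)
/-- the positions, by diagonals -/
def ord : List ℕ := [1, 7, 13, 19, 2, 8, 14, 3, 9, 4]
/-- remove the entries one by one -/
noncomputable def peel (ps : List ℕ) : ℕ → Bool :=
  List.rec (motive := fun _ => ℕ → Bool) (fun a => Nat.beq a I5)
    (fun p _ ih a => sel (Nat.testBit a p) (force (tv p ⋆ a) fun b => band (Nat.beq (tv p ⋆ b) a) (ih b)) (ih a)) ps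
theorem peel_chk : allM mT (peel ord) = true := by decide +kernel

theorem Mk.ind {m : ℕ} (hm : Mk m) {P : ℕ → Prop} (h1 : P I5)
    (h2 : ∀ a b, inM m a = true → inM m b = true → P a → P b → P (a ⋆ b))
    (h3 : ∀ p ∈ ord, inM m (tv p) = true → P (tv p)) {a : ℕ} (ha : inM m a = true) : P a := by
  have k : ∀ ps : List ℕ, (∀ p ∈ ps, p ∈ ord) → ∀ a, inM m a = true → peel ps a = true → P a := by
    intro ps
    induction ps with
    | nil => exact fun _ a _ h => (Nat.eq_of_beq_eq_true (show Nat.beq a I5 = true from h)).symm ▸ h1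
    | cons p ps ih =>
      intro hp a ha h
      replace ih := ih fun q hq => hp q (List.mem_cons_of_mem _ hq)
      replace hp := hp p List.mem_cons_self
      have h' : sel (Nat.testBit a p) (force (tv p ⋆ a) fun b =>
        band (Nat.beq (tv p ⋆ b) a) (peel ps b)) (peel ps a) = true := h
      cases e : Nat.testBit a p <;> rw [e] at h'
      · exact ih a ha h'
      · have c : ∀ p ∈ ord, I5.testBit p = false := by decide
        have hp' : inM m (tv p) = true := inM_iff'.2 fun k hk => by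
          show (I5 ||| 1 <<< p).testBit k = _
          rw [Nat.testBit_or, Nat.one_shiftLeft, Nat.testBit_two_pow]
          by_cases f : p = k
          · exact absurd ((inM_iff'.1 ha k hk).trans (f ▸ c p hp)) (by rw [← f, e]; decide)
          · simp [f]
        replace h' : (force (tv p ⋆ a) fun b => band (Nat.beq (tv p ⋆ b) a) (peel ps b)) = true := h'
        rw [force_eq, band_eq_true, Nat.beq_eq] at h'
        exact h'.1 ▸ h2 _ _ hp' (inM_mul hm.1 hp' ha) (h3 p hp hp') (ih _ (inM_mul hm.1 hp' ha) h'.2)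
  exact k ord (fun _ h => h) a ha (allM_spec peel_chk (by decide) (inM_mono ha hm.2))

namespace Hm
variable {g : ℕ → G} {m a b c k : ℕ}

theorem one (E : Hm m g) : g I5 = 1 := by
  have := E.mul (inM_I5 _) (inM_I5 _)
  rw [show I5 ⋆ I5 = I5 by decide +kernel] at this
  exact left_eq_mul.1 this

theorem inv (E : Hm m g) (h : inM m a = true) : g (iv a) = (g a)⁻¹ :=
  (inv_eq_of_mul_eq_one_right (by rw [← E.mul h (E.mk'.iv' h), (iv_spec (E.mk'.ok' h)).2, E.one])).symm

theorem cj (E : Hm m g) (hk : inM m k = true) (ha : inM m a = true) :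
    g (cj k a) = g k * g a * (g k)⁻¹ := by
  rw [cj_eq, E.mul (inM_mul E.mk'.1 hk ha) (E.mk'.iv' hk), E.mul hk ha, E.inv hk]

theorem mul_eq (E : Hm m g) (h : band (band (inM m a) (inM m b)) (Nat.beq (a ⋆ b) c) = true := by
    decide +kernel) : g a * g b = g c := by
  rw [band_eq_true, band_eq_true, Nat.beq_eq] at h
  rw [← E.mul h.1.1 h.1.2, h.2]

theorem cj_eq (E : Hm m g) (h : band (band (inM m a) (inM m b)) (Nat.beq (H49.He.cj a b) c) = true := by
    decide +kernel) : g a * g b * (g a)⁻¹ = g c := by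
  rw [band_eq_true, band_eq_true, Nat.beq_eq] at h
  rw [← E.cj h.1.1 h.1.2, h.2]

theorem mono (E : Hm m g) {u : ℕ} (h : Mk u ∧ u ||| m = m := by decide) : Hm u g :=
  ⟨h.1, fun ha hb => E.mul (inM_mono ha h.2) (inM_mono hb h.2)⟩

theorem mem [Finite G] (E : Hm m g) {x : G} : x ∈ sub g m ↔ ∃ a, inM m a = true ∧ x = g a := by
  refine ⟨fun h => ?_, fun ⟨a, h, e⟩ => e ▸ memT h E.mk'.2⟩
  rw [sub, ← mem_toSubmonoid, Subgroup.closure_toSubmonoid_of_finite] at h
  induction h using Submonoid.closure_induction with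
  | mem x hx => exact let ⟨a, _, h⟩ := hx; ⟨a, h⟩
  | one => exact ⟨I5, inM_I5 _, E.one.symm⟩
  | mul x y _ _ hx hy =>
    obtain ⟨a, h6, rfl⟩ := hx
    obtain ⟨b, h4, rfl⟩ := hy
    exact ⟨a ⋆ b, inM_mul E.mk'.1 h6 h4, (E.mul h6 h4).symm⟩

theorem card [Finite G] (E : Hm m g) (inj : ∀ {a b}, inM m a = true → inM m b = true → g a = g b → a = b) :
    Nat.card (sub g m) = cntM m fun _ => true := by
  rw [← cntM_spec _ E.mk'.1.1, ← Set.InjOn.ncard_image (f := g) fun a ha b hb => inj ha.1 hb.1,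
    ← Nat.card_coe_set_eq]
  refine Nat.card_congr (Equiv.subtypeEquivRight fun x => ?_)
  rw [E.mem]
  exact ⟨fun ⟨a, h1, h3⟩ => ⟨a, ⟨h1, rfl⟩, h3.symm⟩, fun ⟨a, h1, h3⟩ => ⟨a, h1.1, h3.symm⟩⟩

theorem act_mul (E : Hm m g) {x : G} {e : ℕ} (he : inM mT e = true)
    (c : allM m (fun a => inM m (H49.He.cj e a)) = true) (ha : inM m a = true) (hb : inM m b = true)
    (h1 : x * g a * x⁻¹ = g (H49.He.cj e a)) (h2 : x * g b * x⁻¹ = g (H49.He.cj e b)) :
    x * g (a ⋆ b) * x⁻¹ = g (H49.He.cj e (a ⋆ b)) := by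
  have oe := ok_of_T he
  have oa := E.mk'.ok' ha; have ob := E.mk'.ok' hb
  rw [show H49.He.cj e (a ⋆ b) = H49.He.cj e a ⋆ H49.He.cj e b from emb_sl.inj (ok_cj oe (ok_mul oa ob))
    (ok_mul (ok_cj oe oa) (ok_cj oe ob)) (by
      rw [emb_sl.mul (ok_cj oe oa) (ok_cj oe ob), emb_sl.cj oe oa, emb_sl.cj oe ob,
        emb_sl.cj oe (ok_mul oa ob), emb_sl.mul oa ob, conj_mul]),
    E.mul (allM_spec c E.mk'.1.1 ha) (allM_spec c E.mk'.1.1 hb), ← h1, ← h2, E.mul ha hb, conj_mul]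

/-- the action on the generators gives the action on the group -/
theorem act (E : Hm m g) {x : G} {e : ℕ} (he : inM mT e = true) (c : allM m (fun a => inM m (H49.He.cj e a)) = true)
    (h : ∀ p ∈ ord, inM m (tv p) = true → x * g (tv p) * x⁻¹ = g (H49.He.cj e (tv p))) (ha : inM m a = true) :
    x * g a * x⁻¹ = g (H49.He.cj e a) := by
  have oe := ok_of_T he
  refine E.mk'.ind (P := fun a => x * g a * x⁻¹ = g (H49.He.cj e a)) ?_
    (fun a b ha hb => E.act_mul he c ha hb) h ha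
  rw [show H49.He.cj e I5 = I5 from emb_sl.inj (ok_cj oe ok_I5) ok_I5 (by
    rw [emb_sl.cj oe ok_I5, emb_sl.one]; simp), E.one]; simp

theorem actJ (E : Hm mJ g) {x : G} {e : ℕ} (he : inM mT e = true)
    (c : allM mJ (fun a => inM mJ (H49.He.cj e a)) = true)
    (h : ∀ a ∈ [e02, e12, e23, e24], x * g a * x⁻¹ = g (H49.He.cj e a)) (ha : inM mJ a = true) :
    x * g a * x⁻¹ = g (H49.He.cj e a) := E.act he c (fun p hp hp' => by
  rcases (by decide +kernel : ∀ p ∈ ord, inM mJ (tv p) = true → tv p ∈ [e02, e12, e23, e24] ∨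
    ∃ a ∈ [e02, e12, e23, e24], ∃ b ∈ [e02, e12, e23, e24], inM mJ a = true ∧ inM mJ b = true ∧
      tv p = a ⋆ b ⋆ (a ⋆ b)) p hp hp' with e | ⟨a, ha, b, hb, h1, h2, e⟩
  · exact h _ e
  · have := E.act_mul he c h1 h2 (h a ha) (h b hb)
    exact e ▸ E.act_mul he c (inM_mul E.mk'.1 h1 h2) (inM_mul E.mk'.1 h1 h2) this this) ha

/-- the conditions for an extension of index 2 -/
noncomputable def extC (m e M : ℕ) : Bool :=
  band (band (band (inM M e) (!inM m e)) (band (inM m (e ⋆ e)) (Nat.beq (m ||| M) M)))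
    (band (allM m fun a => inM m (H49.He.cj e a)) (allM M fun a => bor (inM m a) (inM m (a ⋆ iv e))))

theorem ext (E : Hm m g) {e M : ℕ} (hM : Mk M) (c : extC m e M = true) {x : G}
    (h : ∀ p ∈ ord, inM m (tv p) = true → x * g (tv p) * x⁻¹ = g (H49.He.cj e (tv p))) (h2 : x * x = g (e ⋆ e)) :
    ∃ g' : ℕ → G, Hm M g' ∧ (∀ a, inM m a = true → g' a = g a) ∧ g' e = x := by
  simp only [extC, band_eq_true, Nat.beq_eq, Bool.not_eq_true'] at c
  obtain ⟨⟨⟨c1, c2⟩, c3, c4⟩, c5, c6⟩ := c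
  have hm := E.mk'
  have oe := hM.ok' c1
  have hx := fun a (ha : inM m a = true) => E.act (inM_mono c1 hM.2) c5 h ha
  have d : ∀ {a}, inM M a = true → ¬ inM m a = true → inM m (a ⋆ iv e) = true := fun ha n =>
    ((bor_eq_true _ _).1 (allM_spec c6 hM.1.1 ha)).resolve_left n
  have j : ∀ {a}, inM m a = true → inM m (H49.He.cj e a) = true := fun ha => allM_spec c5 hm.1.1 ha
  refine ⟨fun a => if inM m a = true then g a else g (a ⋆ iv e) * x, ⟨hM, fun {a b} ha hb => ?_⟩,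
    fun a ha => if_pos ha, ?_⟩
  · have oa := hM.ok' ha; have ob := hM.ok' hb
    have s := hm.sl' (ok_mul oa ob)
    rw [emb_sl.mul oa ob] at s
    by_cases h1 : inM m a = true <;> by_cases h3 : inM m b = true
    · simp only [if_pos h1, if_pos h3, if_pos (inM_mul hm.1 h1 h3), E.mul h1 h3]
    · rw [mul_mem_cancel_left ((hm.sl' oa).1 h1), ← hm.sl' ob] at s
      simp only [if_pos h1, if_neg h3, if_neg (s.not.2 h3), mul5_assoc, E.mul h1 (d hb h3), mul_assoc]
    · rw [mul_mem_cancel_right ((hm.sl' ob).1 h3), ← hm.sl' oa] at s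
      simp only [if_neg h1, if_pos h3, if_neg (s.not.2 h1)]
      rw [show a ⋆ b ⋆ iv e = a ⋆ iv e ⋆ H49.He.cj e b from emb_sl.inj (ok_mul (ok_mul oa ob) (ok_iv oe))
        (ok_mul (ok_mul oa (ok_iv oe)) (ok_cj oe ob)) (by
          rw [emb_sl.mul (ok_mul oa (ok_iv oe)) (ok_cj oe ob), emb_sl.mul (ok_mul oa ob) (ok_iv oe),
            emb_sl.mul oa ob, emb_sl.mul oa (ok_iv oe), emb_sl.cj oe ob, emb_sl.inv oe]
          group),
        E.mul (d ha h1) (j h3), ← hx b h3]
      group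
    · have e1 : a ⋆ b = a ⋆ iv e ⋆ H49.He.cj e (b ⋆ iv e) ⋆ (e ⋆ e) := emb_sl.inj (ok_mul oa ob)
        (ok_mul (ok_mul (ok_mul oa (ok_iv oe)) (ok_cj oe (ok_mul ob (ok_iv oe)))) (ok_mul oe oe)) (by
          rw [emb_sl.mul (ok_mul (ok_mul oa (ok_iv oe)) (ok_cj oe (ok_mul ob (ok_iv oe)))) (ok_mul oe oe),
            emb_sl.mul (ok_mul oa (ok_iv oe)) (ok_cj oe (ok_mul ob (ok_iv oe))),
            emb_sl.cj oe (ok_mul ob (ok_iv oe)), emb_sl.mul oa (ok_iv oe), emb_sl.mul ob (ok_iv oe),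
            emb_sl.mul oe oe, emb_sl.mul oa ob, emb_sl.inv oe]
          group)
      have m1 := inM_mul hm.1 (d ha h1) (j (d hb h3))
      simp only [if_neg h1, if_neg h3, if_pos (e1 ▸ inM_mul hm.1 m1 c3 : inM m (a ⋆ b) = true)]
      rw [e1, E.mul m1 c3, E.mul (d ha h1) (j (d hb h3)), ← hx _ (d hb h3), ← h2]
      group
  · simp only [c2, Bool.false_eq_true, if_false, (iv_spec oe).2, E.one, one_mul]

theorem norm [Finite G] (E : Hm m g) {u : ℕ} (c : ∀ {k a}, inM mT k = true → inM u a = true → inM u (H49.He.cj k a) = true)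
    (h : Mk u ∧ u ||| m = m := by decide) : sub g m ≤ 𝐍(sub g u) := fun x hx => norm_of fun y hy => by
  obtain ⟨k, hk, rfl⟩ := E.mem.1 hx
  obtain ⟨a, ha, rfl⟩ := (E.mono h).mem.1 hy
  rw [← E.cj hk (inM_mono ha h.2)]
  exact memT (c (inM_mono hk E.mk'.2) ha) h.1.2

end Hm

theorem cjU1 {k a : ℕ} (hk : inM mT k = true) (ha : inM mU1 a = true) : inM mU1 (H49.He.cj k a) = true :=
  H49.He.cj_mem mT 0x86002 _ (ok_of_T hk) hk (ok_of_T (inM_mono ha (by decide))) ha
theorem cjU2 {k a : ℕ} (hk : inM mT k = true) (ha : inM mU2 a = true) : inM mU2 (H49.He.cj k a) = true :=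
  H49.He.cj_mem mT 0x80086 _ (ok_of_T hk) hk (ok_of_T (inM_mono ha (by decide))) ha

/-- the mask of a list of positions -/
def msk (ps : List ℕ) : ℕ := List.rec (motive := fun _ => ℕ) 0 (fun p _ ih => Nat.lor ih (Nat.shiftLeft 1 p)) ps
/-- the conditions for building a group from its power-commutator relations -/
noncomputable def chC (r : ℕ → ℕ → ℕ) (ps : List ℕ) : Bool :=
  List.rec (motive := fun _ => Bool) true (fun p ps ih => band (band ih (decide (Mk (msk (p :: ps)))))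
    (band (band (Hm.extC (msk ps) (tv p) (msk (p :: ps))) (Nat.beq (tv p ⋆ tv p) I5))
      (allL (fun q => bimp (inM (msk ps) (tv q)) (band (band (anyL (Nat.beq q) ps) (anyL (Nat.beq (r p q)) (0 :: ps)))
        (Nat.beq (H49.He.cj (tv p) (tv q)) (tv q ⋆ tv (r p q))))) ord))) ps

theorem chain {x : ℕ → G} (x0 : x 0 = 1) {r : ℕ → ℕ → ℕ} {L : List ℕ}
    (h : ∀ p ∈ L, x p * x p = 1 ∧ ∀ q ∈ L, x p * x q * (x p)⁻¹ = x q * x (r p q)) :
    ∀ ps : List ℕ, (∀ p ∈ ps, p ∈ L) → chC r ps = true →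
      ∃ g : ℕ → G, Hm (msk ps) g ∧ ∀ p ∈ 0 :: ps, inM (msk ps) (tv p) = true ∧ g (tv p) = x p
  | [], _, _ => ⟨fun _ => 1, ⟨by decide, fun _ _ => (one_mul _).symm⟩, fun p hp => by
      obtain rfl := List.mem_singleton.1 hp
      exact ⟨by decide +kernel, x0.symm⟩⟩
  | p :: ps, hp, c => by
    replace c : band (band (chC r ps) _) _ = true := c
    simp only [band_eq_true, allL_iff, bimp_eq_true, anyL_iff, Nat.beq_eq, decide_eq_true_eq,
      exists_eq_right'] at c
    obtain ⟨⟨c1, c2⟩, ⟨c3, c4⟩, c5⟩ := c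
    obtain ⟨g, E, hg⟩ := chain x0 h ps (fun q hq => hp q (List.mem_cons_of_mem _ hq)) c1
    obtain ⟨h1, h2⟩ := h p (hp p List.mem_cons_self)
    obtain ⟨g', E', e1, e2⟩ := E.ext c2 c3 (x := x p) (fun q hq hq' => by
      obtain ⟨⟨d1, d2⟩, d3⟩ := c5 q hq hq'
      rw [d3, E.mul hq' (hg _ d2).1, (hg _ d2).2, (hg q (List.mem_cons_of_mem _ d1)).2]
      exact h2 q (hp q (List.mem_cons_of_mem _ d1))) (by rw [c4, E.one, h1])
    simp only [Hm.extC, band_eq_true, Nat.beq_eq] at c3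
    have k : ∀ q ∈ 0 :: ps, inM (msk (p :: ps)) (tv q) = true ∧ g' (tv q) = x q := fun q hq =>
      ⟨inM_mono (hg q hq).1 c3.1.2.2, (e1 _ (hg q hq).1).trans (hg q hq).2⟩
    refine ⟨g', E', fun q hq => ?_⟩
    rcases List.mem_cons.1 hq with rfl | hq
    · exact k 0 List.mem_cons_self
    rcases List.mem_cons.1 hq with rfl | hq
    exacts [⟨c3.1.1.1, e2⟩, k q (List.mem_cons_of_mem _ hq)]

/-! ### tables -/

/-- in `V` -/ def va : ℕ := nat_lit 0x1041249
/-- in `V` -/ def vb : ℕ := nat_lit 0x1041351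
/-- in `V` -/ def vc : ℕ := nat_lit 0x1041159
/-- in `W` -/ def wa : ℕ := nat_lit 0x1041151
/-- in `W` -/ def wb : ℕ := nat_lit 0x1041259
/-- in `W` -/ def wc : ℕ := nat_lit 0x1041349
/-- membership in a four-group -/
noncomputable def in4 (x y a : ℕ) : Bool := force a fun a => anyL (Nat.beq a) [I5, x, y, x ⋆ y]
/-- membership in `V` -/
noncomputable def inV (a : ℕ) : Bool := force a fun a => anyL (Nat.beq a) [I5, va, vb, vc]
/-- the commutator of two elements of `J` -/
noncomputable def cmt (a b : ℕ) : ℕ := force a fun a => force b fun b => Nat.xor (Nat.xor (a ⋆ b) (b ⋆ a)) I5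

theorem t_cmt : allM mJ (fun a => allL (fun m => allM m fun b => force (cmt b a) fun c =>
    band (band (inM mE c) (Nat.beq (c ⋆ (a ⋆ b)) (b ⋆ a))) (bimp (inV c) (bor (inM mE b) (inM m a))))
      [mU1, mU2]) = true := by decide +kernel

theorem t_inv : allM mJ (fun a => force (a ⋆ a) fun b => band (Nat.beq (b ⋆ b) I5) (bimp (inV b)
    (band (Nat.beq b I5) (bor (inM mU1 a) (inM mU2 a))))) = true := by decide +kernel

theorem t_two : allM mJ (fun a => bor (inM mE a) (anyL (fun p : ℕ × ℕ =>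
    band (band (!cm a p.1) (!cm a p.2)) (!cm a (p.1 ⋆ p.2))) [(e02, e12), (e23, e24)])) = true := by
  decide +kernel

theorem t_gen : allL (fun p : ℕ × List ℕ => allM p.1 fun s => allM p.1 fun t => force (s ⋆ t) fun u =>
    bor (anyL (inM mE) [s, t, u]) (allL (fun x => anyL (fun r => inM mE (r ⋆ x)) [s, t, u]) p.2))
      [(mU1, [e02, e12]), (mU2, [e23, e24])] = true := by decide +kernel

theorem t_Z : allM mE (fun z => band (anyL (fun v => anyL (fun w => Nat.beq z (v ⋆ w)) [I5, wa, wb, wc])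
    [I5, va, vb, vc]) (bor (bor (inV z) (in4 wa wb z)) (anyL (fun a => anyL (fun b => Nat.beq z (cmt a b))
      [e23, e24, e23 ⋆ e24]) [e02, e12, e02 ⋆ e12]))) = true := by decide +kernel

theorem t_cls : allL (fun p : ℕ × ℕ × ℕ × ℕ × ℕ => allM p.1 fun a => bor (inM mE a)
    (anyL (fun t => anyL (fun x => anyL (fun v => Nat.beq a (H49.He.cj t x ⋆ v)) [I5, va, vb, vc])
      [p.2.1, p.2.2.1, p.2.1 ⋆ p.2.2.1]) [I5, p.2.2.2.1, p.2.2.2.2, p.2.2.2.1 ⋆ p.2.2.2.2]))
    [(mU1, e02, e12, e23, e24), (mU2, e23, e24, e02, e12)] = true := by decide +kernel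

theorem t_th : allM mU2 (fun s => allM mU2 fun t => force (s ⋆ t) fun u => bor (anyL (inM mE) [s, t, u])
    (force (cmt e02 s) fun p => force (p ⋆ cmt e12 t) fun q => force (p ⋆ cmt (e02 ⋆ e12) u) fun r =>
      band (band (!Nat.beq q r) (band (!Nat.beq q I5) (!Nat.beq r I5)))
        (bor (band (inV q) (inV r)) (band (in4 wa wb q) (in4 wa wb r))))) = true := by decide +kernel

theorem t_T : allM mT (fun a => band (inM mJ (a ⋆ a)) (bimp (allL (fun x => Nat.beq (H49.He.cj a x) x)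
    [e02, e12, e23, e24]) (inM mE a))) = true := by decide +kernel

theorem t_z0 : allM mE (fun z => bimp (Nat.beq (H49.He.cj e01 z) z) (bimp (Nat.beq (H49.He.cj e34 z) z)
    (bor (Nat.beq z I5) (Nat.beq z z0)))) = true := by decide +kernel

theorem cjJ {k a : ℕ} (hk : inM mT k = true) (ha : inM mJ a = true) : inM mJ (H49.He.cj k a) = true :=
  H49.He.cj_mem mT 0x80002 _ (ok_of_T hk) hk (ok_of_T (inM_mono ha (by decide))) ha

end H10.HeS
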