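import Cfsg.Agent.Lib.Std.He2

/-! Standard subgroups `2².L₃(4)`, part 3: the Sylow 2-subgroup of `2².L₃(4)`. -/

set_option autoImplicit false

namespace H10.HeS
open H49.He H69 Subgroup
open H54 (force sel band bor bimp force_eq band_eq_true bor_eq_true bimp_eq_true allL allL_iff
  anyL anyL_iff)

variable {G : Type*} [Group G]

/-- the centre of `L` -/ def Vg (g : ℕ → G) : Subgroup G := k4 (g va) (g vb)
/-- its complement in `Z(T)` -/ def Wg (g : ℕ → G) : Subgroup G := k4 (g wa) (g wb)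

/-- the two sides -/
inductive Sd : ℕ → ℕ → ℕ → ℕ → ℕ → ℕ → Prop
  | one : Sd mU1 mU2 e02 e12 e23 e24
  | two : Sd mU2 mU1 e23 e24 e02 e12

theorem Sd.symm {m n x y z w : ℕ} (h : Sd m n x y z w) : Sd n m z w x y := by
  cases h; exacts [.two, .one]

theorem Sd.mk' {m n x y z w : ℕ} (h : Sd m n x y z w) : (Mk m ∧ m ||| mJ = mJ) ∧ mE ||| m = m ∧
    inM m x = true ∧ inM m y = true ∧ m &&& n = mE ∧ inM mE x = false ∧ inM mE y = false ∧
      inM mE (x ⋆ y) = false := by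
  cases h <;> decide +kernel

/-- coordinates on `T` -/
structure Em (g : ℕ → G) : Prop extends Hm mJ g where
  inj : ∀ {a b}, inM mJ a = true → inM mJ b = true → g a = g b → a = b

theorem sub_cj (g : ℕ → G) (m : ℕ) (h : G) : sub g m ^ᶜ h = sub (fun a => h * g a * h⁻¹) m := by
  rw [sub, MonoidHom.map_closure]
  congr 1
  ext x
  exact ⟨fun ⟨_, ⟨a, h1, h2, h3⟩, e⟩ => ⟨a, h1, h2, by rw [← e, h3]; rfl⟩,
    fun ⟨a, h1, h2, h3⟩ => ⟨_, ⟨a, h1, h2, rfl⟩, h3.symm⟩⟩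

theorem mJ_of {m a : ℕ} (h : inM m a = true) (hm : m ||| mJ = mJ := by decide) : inM mJ a = true :=
  inM_mono h hm

theorem k4_mem {g : ℕ → G} {a b c : ℕ} (h : c ∈ [a, b]) : g c ∈ k4 (g a) (g b) :=
  subset_closure (by
    simp only [List.mem_cons, List.not_mem_nil, or_false] at h
    rcases h with rfl | rfl <;> simp)

theorem nbeq {a b : ℕ} : (!Nat.beq a b) = true ↔ a ≠ b := by
  rw [Bool.not_eq_true', ← Bool.not_eq_true, Nat.beq_eq]

namespace Em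
variable {g : ℕ → G} {m n x1 x2 y1 y2 a b : ℕ} {x y z s t : G}

theorem conj (E : Em g) (h : G) : Em fun a => h * g a * h⁻¹ :=
  ⟨⟨E.mk', fun ha hb => by rw [E.mul ha hb, conj_mul]⟩, fun ha hb e => E.inj ha hb (by simpa using e)⟩

theorem ne (E : Em g) (h : band (band (inM mJ a) (inM mJ b)) (!Nat.beq a b) = true := by decide +kernel) :
    g a ≠ g b := by
  simp only [band_eq_true, Bool.not_eq_true', ← Bool.not_eq_true, Nat.beq_eq] at h
  exact fun e => h.2 (E.inj h.1.1 h.1.2 e)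

theorem cm (E : Em g) (ha : inM mJ a = true) (hb : inM mJ b = true) :
    H49.He.cm a b = true ↔ g a * g b = g b * g a := by
  rw [cm_iff, ← E.mul ha hb, ← E.mul hb ha]
  exact ⟨congrArg g, E.inj (inM_mul E.mk'.1 ha hb) (inM_mul E.mk'.1 hb ha)⟩

theorem b4 (E : Em g) (h : band (band (band (inM mJ a) (inM mJ b)) (band (sq1 a) (sq1 b))) (band (H49.He.cm a b)
    (band (!Nat.beq a b) (band (!Nat.beq a I5) (!Nat.beq b I5)))) = true := by decide +kernel) :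
    B4 (k4 (g a) (g b)) (g a) (g b) := by
  simp only [band_eq_true, Bool.not_eq_true', ← Bool.not_eq_true, Nat.beq_eq, sq1_iff] at h
  obtain ⟨⟨⟨ha, hb⟩, h1, h2⟩, h3, h4, h5, h6⟩ := h
  exact b4_k4 (by rw [← E.mul ha ha, h1, E.one]) (by rw [← E.mul hb hb, h2, E.one]) ((E.cm ha hb).1 h3)
    (fun e => h5 (E.inj ha (inM_I5 _) (e.trans E.one.symm)))
    (fun e => h6 (E.inj hb (inM_I5 _) (e.trans E.one.symm))) fun e => h4 (E.inj ha hb e)

theorem bV (E : Em g) : B4 (Vg g) (g va) (g vb) := E.b4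
theorem bW (E : Em g) : B4 (Wg g) (g wa) (g wb) := E.b4
theorem bX (E : Em g) (S : Sd m n x1 x2 y1 y2) : B4 (k4 (g x1) (g x2)) (g x1) (g x2) := by
  cases S <;> exact E.b4

theorem in4_mem (E : Em g) {c : ℕ} (h : in4 a b c = true)
    (k : band (inM mJ a) (inM mJ b) = true := by decide +kernel) : g c ∈ k4 (g a) (g b) := by
  rw [band_eq_true] at k
  have hx : g a ∈ k4 (g a) (g b) := subset_closure (by simp)
  have hy : g b ∈ k4 (g a) (g b) := subset_closure (by simp)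
  simp only [in4, force_eq, anyL_iff, Nat.beq_eq, List.mem_cons, List.not_mem_nil, or_false,
    exists_eq_right'] at h
  rcases h with rfl | rfl | rfl | rfl
  exacts [E.one ▸ one_mem _, hx, hy, E.mul k.1 k.2 ▸ mul_mem hx hy]

theorem memV (E : Em g) (ha : inM mJ a = true) : g a ∈ Vg g ↔ inV a = true := by
  have k : ∀ c, inM mJ c = true → (g a = g c ↔ a = c) := fun c hc => ⟨E.inj ha hc, congrArg g⟩
  rw [E.bV.mem, E.mul_eq (c := vc), ← E.one, k _ (inM_I5 _), k _ (by decide +kernel), k _ (by decide +kernel),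
    k _ (by decide +kernel)]
  simp [inV, force_eq, anyL_iff]

theorem lV (E : Em g) (h : a ∈ [I5, va, vb, vc]) : inM mE a = true ∧ g a ∈ Vg g :=
  have := (by decide +kernel : ∀ a ∈ [I5, va, vb, vc], inM mE a = true ∧ inV a = true) a h
  ⟨this.1, (E.memV (mJ_of this.1)).2 this.2⟩

variable [Finite G]

theorem memM (E : Em g) (h : Mk m ∧ m ||| mJ = mJ := by decide) :
    x ∈ sub g m ↔ ∃ a, inM m a = true ∧ x = g a := (E.toHm.mono h).mem

theorem mem_iff (E : Em g) (ha : inM mJ a = true) (h : Mk m ∧ m ||| mJ = mJ := by decide) :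
    g a ∈ sub g m ↔ inM m a = true := by
  rw [E.memM h]
  exact ⟨fun ⟨b, h2, h3⟩ => E.inj ha (inM_mono h2 h.2) h3 ▸ h2, fun h => ⟨a, h, rfl⟩⟩

theorem nZ (E : Em g) (h : band (inM mJ a) (!inM mE a) = true := by decide +kernel) : g a ∉ sub g mE := by
  rw [band_eq_true] at h
  rw [E.mem_iff h.1]; simpa using h.2

theorem cardT (E : Em g) : Nat.card (sub g mJ) = 2 ^ 8 := (E.toHm.card E.inj).trans (by decide +kernel)
theorem pgT (E : Em g) : IsPGroup 2 (sub g mJ) := .of_card E.cardT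
theorem cardZ (E : Em g) : Nat.card (sub g mE) = 16 :=
  ((E.toHm.mono (u := mE)).card fun ha hb => E.inj (mJ_of ha) (mJ_of hb)).trans (by decide +kernel)
theorem cardA (E : Em g) (S : Sd m n x1 x2 y1 y2) : Nat.card (sub g m) = 64 :=
  ((E.toHm.mono S.mk'.1).card fun ha hb => E.inj (mJ_of ha S.mk'.1.2) (mJ_of hb S.mk'.1.2)).trans
    (by cases S <;> decide +kernel)

omit [Finite G] in
theorem _root_.H10.HeS.Sd.le (S : Sd m n x1 x2 y1 y2) (g : ℕ → G) : sub g mE ≤ sub g m ∧ sub g m ≤ sub g mJ ∧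
    g x1 ∈ sub g m ∧ g x2 ∈ sub g m :=
  ⟨sub_mono g S.mk'.2.1, sub_mono g S.mk'.1.2, memT S.mk'.2.2.1 S.mk'.1.1.2, memT S.mk'.2.2.2.1 S.mk'.1.1.2⟩

omit [Finite G] in
theorem _root_.H10.HeS.VW_le (g : ℕ → G) : Vg g ≤ sub g mE ∧ Wg g ≤ sub g mE ∧ sub g mE ≤ sub g mJ :=
  ⟨k4_le memT memT, k4_le memT memT, sub_mono g⟩

theorem nZX (E : Em g) (S : Sd m n x1 x2 y1 y2) (h : x ∈ k4 (g x1) (g x2)) (x1' : x ≠ 1) :
    x ∈ sub g m ∧ x ∉ sub g mE := by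
  obtain ⟨k, -, h1, h2, -, h3, h4, h5⟩ := S.mk'
  refine ⟨k4_le (S.le g).2.2.1 (S.le g).2.2.2 h, ?_⟩
  have j1 := mJ_of h1 k.2; have j2 := mJ_of h2 k.2
  rcases ((E.bX S).mem _).1 h with rfl | rfl | rfl | rfl
  · exact absurd rfl x1'
  · rw [E.mem_iff j1, h3]; decide
  · rw [E.mem_iff j2, h4]; decide
  · rw [← E.mul j1 j2, E.mem_iff (inM_mul E.mk'.1 j1 j2), h5]; decide

theorem ab (E : Em g) (S : Sd m n x1 x2 y1 y2) (hx : x ∈ sub g m) :
    x * x = 1 ∧ ∀ y ∈ sub g m, x * y = y * x := by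
  have k := S.mk'.1
  have c : allM m (fun a => band (sq1 a) (allM m (H49.He.cm a))) = true := by
    cases S; exacts [((band_eq_true _ _).1 ab_chk).1, ((band_eq_true _ _).1 ab_chk).2]
  obtain ⟨a, ha, rfl⟩ := (E.memM k).1 hx
  have := allM_spec c k.1.1.1 ha
  rw [band_eq_true, sq1_iff] at this
  refine ⟨by rw [← E.mul (mJ_of ha k.2) (mJ_of ha k.2), this.1, E.one], fun y hy => ?_⟩
  obtain ⟨b, hb, rfl⟩ := (E.memM k).1 hy
  exact (E.cm (mJ_of ha k.2) (mJ_of hb k.2)).1 (allM_spec this.2 k.1.1.1 hb)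

omit [Finite G] in
theorem cmt_spec (E : Em g) (S : Sd m n x1 x2 y1 y2) (hb : inM m b = true) (ha : inM mJ a = true) :
    inM mE (cmt b a) = true ∧ g b * g a * (g a * g b)⁻¹ = g (cmt b a) ∧
      (inV (cmt b a) = true → inM mE b = true ∨ inM m a = true) := by
  have := allM_spec ((allL_iff _ _).1 (allM_spec t_cmt (by decide) ha) m (by cases S <;> simp))
    S.mk'.1.1.1.1 hb
  simp only [force_eq, band_eq_true, bimp_eq_true, bor_eq_true, Nat.beq_eq] at this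
  have jb := mJ_of hb S.mk'.1.2
  refine ⟨this.1.1, ?_, this.2⟩
  rw [← E.mul jb ha, ← this.1.2, E.mul (mJ_of this.1.1) (inM_mul E.mk'.1 ha jb), E.mul ha jb,
    mul_inv_cancel_right]

theorem cent (E : Em g) (S : Sd m n x1 x2 y1 y2) (hx : x ∈ sub g m) (nx : x ∉ sub g mE)
    (hy : y ∈ sub g mJ) (h : x * y * (y * x)⁻¹ ∈ Vg g) : y ∈ sub g m := by
  obtain ⟨b, hb, rfl⟩ := (E.memM S.mk'.1).1 hx
  obtain ⟨a, ha, rfl⟩ := E.memM.1 hy
  obtain ⟨h1, h2, h3⟩ := E.cmt_spec S hb ha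
  rw [h2, E.memV (mJ_of h1)] at h
  exact memT ((h3 h).resolve_left fun e => nx (memT e)) S.mk'.1.1.2

theorem cent' (E : Em g) (S : Sd m n x1 x2 y1 y2) (hx : x ∈ sub g m) (nx : x ∉ sub g mE)
    (hy : y ∈ sub g mJ) (h : x * y = y * x) : y ∈ sub g m :=
  E.cent S hx nx hy (by rw [h, mul_inv_cancel]; exact one_mem _)

theorem inf (E : Em g) (S : Sd m n x1 x2 y1 y2) (hx : x ∈ sub g m) (hx' : x ∈ sub g n) : x ∈ sub g mE := by
  obtain ⟨a, ha, rfl⟩ := (E.memM S.mk'.1).1 hx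
  exact memT (S.mk'.2.2.2.2.1 ▸ inM_and ha ((E.mem_iff (mJ_of ha S.mk'.1.2) S.symm.mk'.1).1 hx'))

theorem cases (E : Em g) (S : Sd m n x1 x2 y1 y2) (hx : x ∈ sub g mJ) (h : x * x ∈ Vg g) :
    x ∈ sub g m ∨ x ∈ sub g n := by
  obtain ⟨a, ha, rfl⟩ := E.memM.1 hx
  have := allM_spec t_inv (by decide) ha
  simp only [force_eq, band_eq_true, bimp_eq_true, bor_eq_true] at this
  rw [← E.mul ha ha, E.memV (inM_mul E.mk'.1 ha ha)] at h
  have k : g a ∈ sub g mU1 ∨ g a ∈ sub g mU2 := (this.2 h).2.imp (fun e => memT e) fun e => memT e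
  cases S; exacts [k, k.symm]

theorem side (E : Em g) (hx : x ∈ sub g mJ) (h : x * x ∈ Vg g) :
    ∃ m n x1 x2 y1 y2, Sd m n x1 x2 y1 y2 ∧ x ∈ sub g m :=
  (E.cases .one hx h).elim (fun k => ⟨_, _, _, _, _, _, .one, k⟩) fun k => ⟨_, _, _, _, _, _, .two, k⟩

theorem pow4 (E : Em g) (hx : x ∈ sub g mJ) : x ^ 2 ^ 2 = 1 := by
  obtain ⟨a, ha, rfl⟩ := E.memM.1 hx
  have := allM_spec t_inv (by decide) ha
  simp only [force_eq, band_eq_true, Nat.beq_eq] at this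
  have k := inM_mul E.mk'.1 ha ha
  rw [← E.one, ← this.1, E.mul k k, E.mul ha ha]; simp [pow_succ, mul_assoc]

theorem memZ (E : Em g) (hx : x ∈ sub g mJ) (h : ∀ s ∈ sub g mJ, ∀ t ∈ sub g mJ,
    x * s = s * x ∨ x * t = t * x ∨ x * (s * t) = s * t * x) : x ∈ sub g mE := by
  obtain ⟨a, ha, rfl⟩ := E.memM.1 hx
  have := allM_spec t_two (by decide) ha
  simp only [band_eq_true, bor_eq_true, anyL_iff, Bool.not_eq_true', ← Bool.not_eq_true] at this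
  refine memT (this.resolve_right fun ⟨p, hp, ⟨h1, h2⟩, h3⟩ => ?_)
  obtain ⟨k1, k2⟩ := (by decide +kernel : ∀ p ∈ [(e02, e12), (e23, e24)],
    inM mJ p.1 = true ∧ inM mJ p.2 = true) p hp
  have := h _ (memT k1) _ (memT k2)
  rw [← E.mul k1 k2, ← E.cm ha k1, ← E.cm ha k2, ← E.cm ha (inM_mul E.mk'.1 k1 k2)] at this
  tauto

theorem genZ (E : Em g) {H : Subgroup G} (h : ∀ x ∈ [e02, e12], ∀ y ∈ [e23, e24],
    g x * g y * (g y * g x)⁻¹ ∈ H) : sub g mE ≤ H := fun z hz => by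
  obtain ⟨a, ha, rfl⟩ := E.memM.1 hz
  refine Mk.ind (m := mE) (by decide) (P := fun a => g a ∈ H) (E.one ▸ one_mem _)
    (fun a b ha hb h1 h2 => E.mul (mJ_of ha) (mJ_of hb) ▸ mul_mem h1 h2) (fun p hp hp' => ?_) ha
  obtain ⟨x, hx, y, hy, h1, h2, e⟩ := (by decide +kernel : ∀ p ∈ ord, inM mE (tv p) = true →
    ∃ x ∈ [e02, e12], ∃ y ∈ [e23, e24], inM mU1 x = true ∧ inM mJ y = true ∧ tv p = cmt x y) p hp hp'
  exact e ▸ (E.cmt_spec .one h1 h2).2.1 ▸ h x hx y hy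

theorem genA (E : Em g) (S : Sd m n x1 x2 y1 y2) {H : Subgroup G} (h : k4 (g x1) (g x2) ≤ H)
    (hZ : sub g mE ≤ H) : sub g m ≤ H := fun z hz => by
  have k := S.mk'.1
  obtain ⟨a, ha, rfl⟩ := (E.memM k).1 hz
  refine k.1.ind (P := fun a => g a ∈ H) (E.one ▸ one_mem _)
    (fun a b ha hb h1 h2 => E.mul (mJ_of ha k.2) (mJ_of hb k.2) ▸ mul_mem h1 h2) (fun p hp hp' => ?_) ha
  have : ∀ p ∈ ord, inM m (tv p) = true → inM mE (tv p) = true ∨ tv p = x1 ∨ tv p = x2 := by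
    cases S <;> decide +kernel
  rcases this p hp hp' with e | e | e
  exacts [hZ (memT e), e ▸ h (E.bX S).mx, e ▸ h (E.bX S).my]

theorem genT (E : Em g) {H : Subgroup G} (h1 : k4 (g e02) (g e12) ≤ H) (h2 : k4 (g e23) (g e24) ≤ H) :
    sub g mJ ≤ H := fun z hz => by
  have hZ : sub g mE ≤ H := E.genZ fun x hx y hy =>
    have a := h1 (k4_mem hx); have b := h2 (k4_mem hy)
    mul_mem (mul_mem a b) (inv_mem (mul_mem b a))
  obtain ⟨a, ha, rfl⟩ := E.memM.1 hz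
  refine E.mk'.ind (P := fun a => g a ∈ H) (E.one ▸ one_mem _)
    (fun a b ha hb h1 h2 => E.mul ha hb ▸ mul_mem h1 h2) (fun p hp hp' => ?_) ha
  rcases (by decide +kernel : ∀ p ∈ ord, inM mJ (tv p) = true → inM mU1 (tv p) = true ∨
    inM mU2 (tv p) = true) p hp hp' with e | e
  exacts [E.genA .one h1 hZ (memT e), E.genA .two h2 hZ (memT e)]

theorem genT' (E : Em g) (S : Sd m n x1 x2 y1 y2) {H : Subgroup G} (h1 : k4 (g x1) (g x2) ≤ H)
    (h2 : k4 (g y1) (g y2) ≤ H) : sub g mJ ≤ H := by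
  cases S; exacts [E.genT h1 h2, E.genT h2 h1]

theorem cenZ (E : Em g) (hz : z ∈ sub g mE) (ht : t ∈ sub g mJ) : z * t = t * z :=
  have k : ∀ {m n x1 x2 y1 y2}, Sd m n x1 x2 y1 y2 → k4 (g x1) (g x2) ≤ centralizer {z} := fun S =>
    (k4_le (S.le g).2.2.1 (S.le g).2.2.2).trans fun _ hy =>
      mem_centralizer_singleton_iff.2 ((E.ab S hy).2 _ ((S.le g).1 hz))
  (mem_centralizer_singleton_iff.1 (E.genT (k .one) (k .two) ht)).symm

theorem decZ (E : Em g) (hz : z ∈ sub g mE) : (∃ v ∈ Vg g, ∃ w ∈ Wg g, z = v * w) ∧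
    (z ∈ Vg g ∨ z ∈ Wg g ∨ ∃ x ∈ k4 (g e02) (g e12), ∃ y ∈ k4 (g e23) (g e24), x ≠ 1 ∧ y ≠ 1 ∧
      z = x * y * (y * x)⁻¹) := by
  obtain ⟨a, ha, rfl⟩ := E.memM.1 hz
  have := allM_spec t_Z (by decide) ha
  simp only [band_eq_true, bor_eq_true, anyL_iff, Nat.beq_eq] at this
  obtain ⟨⟨v, hv, w, hw, e⟩, h⟩ := this
  have k := (by decide +kernel : ∀ w ∈ [I5, wa, wb, wc], inM mJ w = true ∧ in4 wa wb w = true) w hw
  refine ⟨⟨_, (E.lV hv).2, _, E.in4_mem k.2, e ▸ E.mul (mJ_of (E.lV hv).1) k.1⟩, ?_⟩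
  rcases h with (h | h) | ⟨x, hx, y, hy, e⟩
  · exact Or.inl ((E.memV (mJ_of ha)).2 h)
  · exact Or.inr (Or.inl (E.in4_mem h))
  have k1 := (by decide +kernel : ∀ x ∈ [e02, e12, e02 ⋆ e12], inM mU1 x = true ∧ in4 e02 e12 x = true ∧
    band (band (inM mJ x) (inM mJ I5)) (!Nat.beq x I5) = true) x hx
  have k2 := (by decide +kernel : ∀ x ∈ [e23, e24, e23 ⋆ e24], inM mJ x = true ∧ in4 e23 e24 x = true ∧
    band (band (inM mJ x) (inM mJ I5)) (!Nat.beq x I5) = true) y hy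
  exact Or.inr (Or.inr ⟨_, E.in4_mem k1.2.1, _, E.in4_mem k2.2.1, E.one ▸ E.ne k1.2.2, E.one ▸ E.ne k2.2.2,
    e ▸ (E.cmt_spec .one k1.1 k2.1).2.1.symm⟩)

theorem genZ' (E : Em g) {H : Subgroup G} (h1 : Vg g ≤ H) (h2 : Wg g ≤ H) : sub g mE ≤ H := fun _ hz =>
  let ⟨_, hv, _, hw, e⟩ := (E.decZ hz).1; e ▸ mul_mem (h1 hv) (h2 hw)

theorem genZ2 (E : Em g) (S : Sd m n x1 x2 y1 y2) (hs : s ∈ sub g m) (ht : t ∈ sub g m)
    (ns : ∀ r ∈ [s, t, s * t], r ∉ sub g mE) {H : Subgroup G}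
    (h : ∀ r ∈ [s, t, s * t], ∀ y ∈ sub g mJ, r * y * (y * r)⁻¹ ∈ H) : sub g mE ≤ H := by
  have k := S.mk'.1
  obtain ⟨a, ha, rfl⟩ := (E.memM k).1 hs
  obtain ⟨b, hb, rfl⟩ := (E.memM k).1 ht
  have hab := inM_mul k.1.1 ha hb
  rw [← E.mul (mJ_of ha k.2) (mJ_of hb k.2)] at h ns
  have c := allM_spec (allM_spec ((allL_iff _ _).1 t_gen (m, [x1, x2]) (by cases S <;> simp)) k.1.1.1 ha) k.1.1.1 hb
  simp only [force_eq, bor_eq_true, anyL_iff, allL_iff] at c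
  have m3 : ∀ r ∈ [a, b, a ⋆ b], inM m r = true ∧ g r ∈ [g a, g b, g (a ⋆ b)] := by simp [*]
  replace c := c.resolve_left fun ⟨r, hr, e⟩ => ns _ (m3 r hr).2 (memT e)
  have key : ∀ x ∈ [x1, x2], ∀ y ∈ [y1, y2], g x * g y * (g y * g x)⁻¹ ∈ H := fun x hx y hy => by
    obtain ⟨r, hr, e⟩ := c x hx
    have mx : inM m x = true := by
      rcases List.mem_pair.1 hx with rfl | rfl; exacts [S.mk'.2.2.1, S.mk'.2.2.2.1]
    replace hy := (S.symm.le g).2.1 (k4_le (S.symm.le g).2.2.1 (S.symm.le g).2.2.2 (k4_mem hy))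
    have hz : g r * g x ∈ sub g mE := E.mul (mJ_of (m3 r hr).1 k.2) (mJ_of mx k.2) ▸ memT e
    have e1 : g x = g r * (g r * g x) := by
      rw [← mul_assoc, (E.ab S (memT (m3 r hr).1 k.1.2)).1, one_mul]
    rw [e1, mul_assoc (g r), E.cenZ hz hy, ← mul_assoc (g y)]
    convert h _ (m3 r hr).2 _ hy using 1; group
  cases S
  · exact E.genZ key
  · exact E.genZ fun x hx y hy => by simpa using inv_mem (key y hy x hx)

theorem normA (E : Em g) (S : Sd m n x1 x2 y1 y2) : sub g mJ ≤ 𝐍(sub g m) := by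
  cases S; exacts [E.toHm.norm cjU1, E.toHm.norm cjU2]

theorem cls (E : Em g) (S : Sd m n x1 x2 y1 y2) (hx : x ∈ sub g m) (nx : x ∉ sub g mE) :
    ∃ t ∈ k4 (g y1) (g y2), ∃ u ∈ k4 (g x1) (g x2), ∃ v ∈ Vg g, u ≠ 1 ∧ x = t * u * t⁻¹ * v := by
  obtain ⟨a, ha, rfl⟩ := (E.memM S.mk'.1).1 hx
  have c := allM_spec ((allL_iff _ _).1 t_cls (m, x1, x2, y1, y2) (by cases S <;> simp)) S.mk'.1.1.1.1 ha
  simp only [bor_eq_true, anyL_iff, Nat.beq_eq] at c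
  obtain ⟨t, ht, u, hu, v, hv, e⟩ := c.resolve_left fun e => nx (memT e)
  have k : (∀ t ∈ [I5, y1, y2, y1 ⋆ y2], inM mJ t = true ∧ in4 y1 y2 t = true) ∧
      (∀ u ∈ [x1, x2, x1 ⋆ x2], inM mJ u = true ∧ in4 x1 x2 u = true ∧
        band (band (inM mJ u) (inM mJ I5)) (!Nat.beq u I5) = true) ∧
      band (inM mJ x1) (inM mJ x2) = true ∧ band (inM mJ y1) (inM mJ y2) = true := by
    cases S <;> decide +kernel
  refine ⟨_, E.in4_mem (k.1 t ht).2 k.2.2.2, _, E.in4_mem (k.2.1 u hu).2.1 k.2.2.1, _, (E.lV hv).2,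
    E.one ▸ E.ne (k.2.1 u hu).2.2, ?_⟩
  rw [e, E.mul (E.mk'.cj' (k.1 t ht).1 (k.2.1 u hu).1) (mJ_of (E.lV hv).1), E.toHm.cj (k.1 t ht).1 (k.2.1 u hu).1]

/-- an element of `N(T)` keeps or swaps the two elementary abelian groups -/
theorem perm (E : Em g) (hs : s ∈ 𝐍(sub g mJ)) : ∃ m n x1 x2 y1 y2, Sd m n x1 x2 y1 y2 ∧
    (∀ x ∈ sub g mU1, s * x * s⁻¹ ∈ sub g m) ∧ (∀ x ∈ sub g mU2, s * x * s⁻¹ ∈ sub g n) ∧
      ∀ x, s * x * s⁻¹ ∈ sub g mE ↔ x ∈ sub g mE := by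
  have kZ : ∀ s ∈ 𝐍(sub g mJ), ∀ x ∈ sub g mE, s * x * s⁻¹ ∈ sub g mE := fun s hs x hx =>
    E.memZ (conj_mem_of_mem_normalizer hs ((VW_le g).2.2 hx)) fun t ht _ _ => Or.inl (by
      calc _ = s * (x * (s⁻¹ * t * s)) * s⁻¹ := by group
        _ = _ := by rw [E.cenZ hx (conj_mem_of_mem_normalizer' hs ht)]; group)
  have hZ : ∀ x, s * x * s⁻¹ ∈ sub g mE ↔ x ∈ sub g mE := fun x =>
    ⟨fun h => by simpa [mul_assoc] using kZ _ (inv_mem hs) _ h, kZ s hs x⟩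
  have k : ∀ {m n x1 x2 y1 y2 m' n' x1' x2' y1' y2'}, Sd m n x1 x2 y1 y2 → Sd m' n' x1' x2' y1' y2' →
      s * g x1 * s⁻¹ ∈ sub g m' → ∀ x ∈ sub g m, s * x * s⁻¹ ∈ sub g m' := fun S S' h x hx =>
    E.cent' S' h (fun e => (E.nZX S (E.bX S).mx (E.bX S).x1).2 ((hZ _).1 e))
      (conj_mem_of_mem_normalizer hs ((S.le g).2.1 hx)) (by
        rw [conj_mul, conj_mul, (E.ab S hx).2 _ (S.le g).2.2.1])
  have i : ∀ {m n x1 x2 y1 y2}, Sd m n x1 x2 y1 y2 → s * g x1 * s⁻¹ ∈ sub g mJ ∧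
      s * g x1 * s⁻¹ * (s * g x1 * s⁻¹) ∈ Vg g := fun S =>
    ⟨conj_mem_of_mem_normalizer hs ((S.le g).2.1 (S.le g).2.2.1), by
      rw [conj_mul, (E.bX S).xx]; simp⟩
  obtain ⟨m, n, x1, x2, y1, y2, S, h⟩ := E.side (i .one).1 (i .one).2
  refine ⟨_, _, _, _, _, _, S, k .one S h, k .two S.symm ((E.cases S (i .two).1 (i .two).2).resolve_left
    fun e => ?_), hZ⟩
  have := (E.ab S h).2 _ e
  rw [conj_mul, conj_mul, mul_left_inj, mul_right_inj] at this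
  exact absurd ((E.cm (by decide +kernel) (by decide +kernel)).2 this) (by decide +kernel)

theorem normZ (E : Em g) (hs : s ∈ 𝐍(sub g mJ)) : s ∈ 𝐍(sub g mE) :=
  let ⟨_, _, _, _, _, _, _, _, _, h⟩ := E.perm hs
  norm_of fun x hx => (h x).2 hx

/-- an involution that swaps the two sides centralises `V` or `W` -/
theorem theta (E : Em g) (hs : s ∈ 𝐍(sub g mJ)) (s2 : s * s = 1) (h : ∀ x ∈ sub g mU1, s * x * s⁻¹ ∈ sub g mU2) :
    s ∈ 𝐂(Vg g) ∨ s ∈ 𝐂(Wg g) := by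
  have hZ := mem_normalizer_iff.1 (E.normZ hs)
  have si := inv_eq_of_mul_eq_one_right s2
  obtain ⟨a, ha, ea⟩ := E.memM.1 (h (g e02) memT)
  obtain ⟨b, hb, eb⟩ := E.memM.1 (h (g e12) memT)
  have hab := inM_mul (m := mU2) (by decide) ha hb
  have ec : s * g (e02 ⋆ e12) * s⁻¹ = g (a ⋆ b) := by
    rw [E.mul (mJ_of ha) (mJ_of hb), ← ea, ← eb, conj_mul, E.mul_eq (c := e02 ⋆ e12)]
  have k : ∀ {x r}, band (inM mU1 x) (band (inM mJ x) (!inM mE x)) = true → inM mU2 r = true →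
      s * g x * s⁻¹ = g r → ¬ inM mE r = true ∧ inM mE (cmt x r) = true ∧ g (cmt x r) ∈ centralizer {s} :=
    fun {x r} hx hr e => by
      rw [band_eq_true] at hx
      obtain ⟨h1, h2, -⟩ := E.cmt_spec .one hx.1 (mJ_of hr)
      refine ⟨fun f => E.nZ hx.2 ((hZ _).2 (e ▸ memT f)), h1, mem_centralizer_singleton_iff.2 ?_⟩
      have x2 := inv_eq_of_mul_eq_one_right (E.ab .one (memT hx.1)).1
      have z2 := inv_eq_of_mul_eq_one_right (E.ab .one ((Sd.one.le g).1 (memT h1))).1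
      nth_rewrite 2 [← z2]
      rw [← h2, ← e]
      simp only [mul_inv_rev, x2, si, mul_assoc]
      rw [← mul_assoc s s, s2, one_mul, mul_one]
  obtain ⟨a1, a2, a3⟩ := k (by decide +kernel) ha ea
  obtain ⟨b1, b2, b3⟩ := k (by decide +kernel) hb eb
  obtain ⟨c1, c2, c3⟩ := k (by decide +kernel) hab ec
  have c := allM_spec (allM_spec t_th (by decide) ha) (by decide) hb
  rw [force_eq, bor_eq_true, force_eq, force_eq, force_eq] at c
  simp only [bor_eq_true, anyL_iff, band_eq_true, nbeq,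
    List.mem_cons, List.not_mem_nil, or_false, exists_eq_or_imp, exists_eq_left] at c
  obtain ⟨⟨d1, d2, d3⟩, d4⟩ := c.resolve_left fun e => e.elim a1 fun e => e.elim b1 c1
  have q1 := mJ_of (inM_mul (m := mE) (by decide) a2 b2)
  have q2 := mJ_of (inM_mul (m := mE) (by decide) a2 c2)
  have f : ∀ {X : Subgroup G} {x y}, B4 X x y → g (cmt e02 a ⋆ cmt e12 b) ∈ X →
      g (cmt e02 a ⋆ cmt (e02 ⋆ e12) (a ⋆ b)) ∈ X → s ∈ 𝐂(X) := fun B h1 h2 =>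
    (B.base2 h1 h2 (fun e => d2 (E.inj q1 (inM_I5 _) (e.trans E.one.symm)))
      (fun e => d3 (E.inj q2 (inM_I5 _) (e.trans E.one.symm))) fun e => d1 (E.inj q1 q2 e)).cent
      (mem_centralizer_singleton_iff.1 (E.mul (mJ_of a2) (mJ_of b2) ▸ mul_mem a3 b3)).symm
      (mem_centralizer_singleton_iff.1 (E.mul (mJ_of a2) (mJ_of c2) ▸ mul_mem a3 c3)).symm
  exact d4.imp (fun e => f E.bV ((E.memV q1).2 e.1) ((E.memV q2).2 e.2))
    fun e => f E.bW (E.in4_mem e.1) (E.in4_mem e.2)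

end Em

end H10.HeS
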