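import Cfsg.Agent.Lib.Std.He3

/-! Standard subgroups `2².L₃(4)`, part 4: the frame; conjugates of the centre. -/

set_option autoImplicit false

namespace H10.HeS
open H49.He H69 Subgroup
open H54 (force sel band bor bimp force_eq band_eq_true bor_eq_true bimp_eq_true allL allL_iff
  anyL anyL_iff)

variable {G : Type*} [Group G]

/-! ### a class of four-groups with trivial intersections -/

/-- a four-group that meets its conjugates trivially -/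
structure TC (V : Subgroup G) : Prop where
  b4 : ∃ x y, B4 V x y
  ti : ∀ h, ∀ u ∈ V, u ≠ 1 → h * u * h⁻¹ ∈ V → h ∈ 𝐍(V)

/-- a conjugate -/
def IsC (V X : Subgroup G) : Prop := ∃ h, X = V ^ᶜ h

theorem IsC.refl (V : Subgroup G) : IsC V V := ⟨1, (cj_one V).symm⟩
theorem IsC.conj {V X : Subgroup G} (h : IsC V X) (s : G) : IsC V (X ^ᶜ s) :=
  let ⟨k, e⟩ := h; ⟨s * k, by rw [e, cj_cj]⟩

namespace TC
variable {V X Y P : Subgroup G} {u s t : G}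

theorem b (T : TC V) (h : IsC V X) : ∃ x y, B4 X x y :=
  let ⟨k, e⟩ := h; let ⟨_, _, b⟩ := T.b4; ⟨_, _, e ▸ b.conj k⟩

theorem eq (T : TC V) (hX : IsC V X) (hY : IsC V Y) (h1 : u ∈ X) (h2 : u ∈ Y) (u1 : u ≠ 1) : X = Y := by
  obtain ⟨h, rfl⟩ := hX
  obtain ⟨k, rfl⟩ := hY
  have := T.ti (k⁻¹ * h) _ (mem_cj.1 h1) (fun e => u1 (by simpa [mul_assoc] using congrArg (h * · * h⁻¹) e))
    (by convert mem_cj.1 h2 using 1; group)
  rw [← cj_eq_self_iff, ← cj_cj, cj_eq_iff, inv_inv] at this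
  exact this

theorem cn (T : TC V) (hX : IsC V X) (h : u ∈ X) (u1 : u ≠ 1) (c : s * u = u * s) : s ∈ 𝐍(X) :=
  cj_eq_self_iff.1 (T.eq (hX.conj s) hX (by simpa [c] using cj_mem s h) h u1)

theorem lemA (T : TC V) (hX : IsC V X) (hY : IsC V Y) (h : u ∈ Y) (u1 : u ≠ 1) (c : u ∈ 𝐂(X)) :
    Y ≤ 𝐂(X) := by
  obtain ⟨x, y, b⟩ := T.b hX
  obtain ⟨_, _, b'⟩ := T.b hY
  by_cases e : X = Y
  · exact e ▸ b.ab
  have k : ∀ a ∈ X, a ∈ 𝐍(Y) := fun a ha => T.cn hY h u1 (c a ha)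
  obtain ⟨a, ha, a1, hc⟩ := b.idx (b'.two h u1 (k _ b.mx) (k _ b.my) (c _ b.mx) (c _ b.my))
  intro y hy p hp
  by_contra n
  refine e (T.eq hX hY (u := p * y * p⁻¹ * y⁻¹) ?_ (mul_mem (conj_mem_of_mem_normalizer (k p hp) hy)
    (inv_mem hy)) fun f => n (by rwa [mul_inv_eq_one, mul_inv_eq_iff_eq_mul] at f))
  convert mul_mem hp (conj_mem_of_mem_normalizer (T.cn hX ha a1 (hc y hy)) (inv_mem hp)) using 1; group

theorem mov (T : TC V) (hX : IsC V X) (hY : IsC V Y) (h : t ∈ X) (t1 : t ≠ 1) (hn : t ∈ 𝐍(Y)) :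
    X ≤ 𝐂(Y) ∨ ∃ v v' t', B4 Y v v' ∧ B4 X t t' ∧ t * v = v * t ∧ t * v' * t⁻¹ = v * v' ∧
      v * t' * v⁻¹ = t * t' := by
  obtain ⟨x, y, b⟩ := T.b hX
  obtain ⟨_, _, b'⟩ := T.b hY
  obtain ⟨v, hv, v1, c⟩ := b'.fix hn (.of_sq (b.sq h))
  obtain ⟨v', b1⟩ := b'.base hv v1
  obtain ⟨t', b2⟩ := b.base h t1
  rcases b1.mov hn c with e | e
  · exact Or.inl (T.lemA hY hX h t1 e)
  rcases b2.mov (T.cn hX h t1 c.symm) c.symm with f | f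
  · exact Or.inl (le_centralizer_iff.1 (T.lemA hX hY hv v1 f))
  exact Or.inr ⟨v, v', t', b1, b2, c, e, f⟩

theorem wc0 (T : TC V) (hX : IsC V X) (hY : IsC V Y) (hP : IsPGroup 2 P) (h1 : X ≤ P) (h2 : Y ≤ P)
    (h : t ∈ X) (t1 : t ≠ 1) (hn : t ∈ 𝐍(Y)) : X ≤ 𝐂(Y) := by
  refine (T.mov hX hY h t1 hn).resolve_right fun ⟨v, v', u, b1, b2, c, e, f⟩ => ?_
  have e1 : v' * t * v'⁻¹ = v * t := by
    rw [inv_eq_of_mul_eq_one_right b1.yy, mul_assoc, mul_inv_eq_iff_eq_mul.1 e, b1.xy, ← mul_assoc,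
      ← mul_assoc, b1.yy, one_mul]
  have f1 : u * v * u⁻¹ = t * v := by
    rw [inv_eq_of_mul_eq_one_right b2.yy, mul_assoc, mul_inv_eq_iff_eq_mul.1 f, b2.xy, ← mul_assoc,
      ← mul_assoc, b2.yy, one_mul]
  have e2 : v' * v * v'⁻¹ = v := by rw [← b1.xy, mul_inv_cancel_right]
  have f2 : u * t * u⁻¹ = t := by rw [← b2.xy, mul_inv_cancel_right]
  have g1 : u * v' * t * (u * v')⁻¹ = v := by
    calc _ = u * (v' * t * v'⁻¹) * u⁻¹ := by group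
      _ = v := by rw [e1, ← conj_mul, f1, f2, mul_assoc, ← c, ← mul_assoc, b2.xx, one_mul]
  have g2 : u * v' * v * (u * v')⁻¹ = t * v := by
    calc _ = u * (v' * v * v'⁻¹) * u⁻¹ := by group
      _ = _ := by rw [e2, f1]
  have := cyc3 (.of_mem hP (mul_mem (h1 b2.my) (h2 b1.my))) g1 g2 (by
    rw [← conj_mul, g1, g2, c, ← mul_assoc, b1.xx, one_mul])
  exact b2.x1 (inv_eq_one.1 (mul_eq_left.1 ((this ▸ rfl : v * v' * t⁻¹ = t * v' * t⁻¹).trans e)))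

end TC

/-! ### the frame -/

/-- `x` induces on `L` the inner automorphism of `s` -/
def Rl (L : Subgroup G) (x s : G) : Prop := s ∈ L ∧ s⁻¹ * x ∈ 𝐂(L)

namespace Rl
variable {L : Subgroup G} {x y s t : G}

theorem cj (h : Rl L x s) (hy : y ∈ L) : x * y * x⁻¹ = s * y * s⁻¹ := by
  calc _ = s * (s⁻¹ * x * y * (s⁻¹ * x)⁻¹) * s⁻¹ := by group
    _ = _ := by rw [conj_eq_of_mem_centralizer h.2 hy]

theorem mul (h : Rl L x s) (h' : Rl L y t) : Rl L (x * y) (s * t) := ⟨mul_mem h.1 h'.1, by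
  convert mul_mem h.2 h'.2 using 1
  rw [mul_inv_rev, mul_assoc, ← mul_assoc s⁻¹, ← mul_assoc, h.2 _ (inv_mem h'.1), mul_assoc]⟩

theorem inv (h : Rl L x s) : Rl L x⁻¹ s⁻¹ := ⟨inv_mem h.1, by
  have := h.2 _ h.1
  rw [mul_inv_cancel_left] at this
  convert inv_mem h.2 using 1
  nth_rewrite 1 [this]; group⟩

theorem cmt (h : Rl L x s) (h' : Rl L y t) : Rl L (x * y * (y * x)⁻¹) (s * t * (t * s)⁻¹) :=
  (h.mul h').mul (h'.mul h).inv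

theorem memK (h : Rl L x s) : x ∈ 𝐂(L) ↔ s ∈ 𝐂(L) := by
  rw [← mul_mem_cancel_right (y := s) h.2, mul_inv_cancel_left]

theorem norm (h : Rl L x s) {A : Subgroup G} (hA : A ≤ L) (hs : s ∈ 𝐍(A)) : x ∈ 𝐍(A) := by
  simpa using mul_mem hs (centralizer_le_normalizer _ (centralizer_anti hA h.2))

theorem comm (h : Rl L x s) (hy : y ∈ L) : x * y = y * x ↔ s * y = y * s := by
  rw [← mul_inv_eq_iff_eq_mul, h.cj hy, mul_inv_eq_iff_eq_mul]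

end Rl

/-- the graph-field automorphism -/
structure Sg (L : Subgroup G) (g : ℕ → G) (c : G) : Prop where
  sq : c * c ∈ 𝐂(L)
  e1 : c * g e02 * c⁻¹ = g e23
  e2 : c * g e12 * c⁻¹ = g e24

/-- the facts on a standard subgroup `L ≅ 2².L₃(4)` -/
structure Fr (L : Subgroup G) (g : ℕ → G) : Prop extends Em g where
  inL : sub g mJ ≤ L
  cen : ∀ x ∈ L, x ∈ 𝐂(L) ↔ x ∈ Vg g
  ti : ∀ k ∈ 𝐂(L), k * k = 1 → k ≠ 1 → ∀ x, x * k * x⁻¹ ∈ 𝐂(L) → x ∈ 𝐍(L)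
  card : Nat.card L = 80640
  clsL : ∀ l ∈ L, l * l ∈ 𝐂(L) → l ∉ 𝐂(L) → ∃ m ∈ L, (m * g wa * m⁻¹)⁻¹ * l ∈ 𝐂(L)
  cenL : ∀ l ∈ L, (g wa)⁻¹ * (l * g wa * l⁻¹) ∈ 𝐂(L) → l ∈ sub g mJ
  rho : ∃ r ∈ L, r ^ 3 = 1 ∧ (r * g e02 * r⁻¹ = g e12 ∧ r * g e12 * r⁻¹ = g e02 * g e12) ∧
    (r * g e24 * r⁻¹ = g e23 ∧ r * g e23 * r⁻¹ = g e24 * g e23) ∧
      r * g wa * r⁻¹ = g wb ∧ r * g wb * r⁻¹ = g wa * g wb
  ell : ∀ {m n x1 x2 y1 y2}, Sd m n x1 x2 y1 y2 → ∃ l ∈ L, l * l = 1 ∧ Wg g ^ᶜ l = k4 (g x1) (g x2)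
  aut : ∀ x ∈ 𝐂(Vg g), (∃ l, Rl L x l) ∨ ∃ l ∈ L, Sg L g (l * x)

theorem Vg_cj (g : ℕ → G) (h : G) : Vg g ^ᶜ h = Vg fun a => h * g a * h⁻¹ := k4_cj ..
theorem Wg_cj (g : ℕ → G) (h : G) : Wg g ^ᶜ h = Wg fun a => h * g a * h⁻¹ := k4_cj ..

theorem Fr.conj {L : Subgroup G} {g : ℕ → G} (F : Fr L g) (h : G) :
    Fr (L ^ᶜ h) fun a => h * g a * h⁻¹ := by
  let c := MulAut.conj h
  have m : ∀ {A : Subgroup G} {x}, c x ∈ A ^ᶜ h ↔ x ∈ A := cj_mem_iff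
  have mc : ∀ {A : Subgroup G} {x}, c x ∈ 𝐂(A ^ᶜ h) ↔ x ∈ 𝐂(A) := by
    intro A x; rw [← cj_centralizer, m]
  show Fr (L ^ᶜ h) fun a => c (g a)
  refine ⟨F.toEm.conj h, sub_cj g mJ h ▸ cj_mono h F.inL, c.surjective.forall.2 fun x hx => ?_,
    c.surjective.forall.2 fun k hk k2 k1 => c.surjective.forall.2 fun x hx => ?_, (card_cj ..).trans F.card,
    c.surjective.forall.2 fun l hl h1 h2 => ?_, c.surjective.forall.2 fun l hl h1 => ?_, ?_, fun S => ?_,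
    c.surjective.forall.2 fun x hx => ?_⟩
  · exact mc.trans ((F.cen x (m.1 hx)).trans (Vg_cj g h ▸ m.symm))
  · rw [← cj_normalizer, m]
    exact F.ti k (mc.1 hk) (c.injective (by simpa using k2)) (fun e => k1 (by simp [e])) x
      (mc.1 (by simpa using hx))
  · obtain ⟨n, h3, h4⟩ := F.clsL l (m.1 hl) (mc.1 (by simpa using h1)) fun e => h2 (mc.2 e)
    exact ⟨c n, m.2 h3, by simpa using mc.2 h4⟩
  · exact sub_cj g mJ h ▸ m.2 (F.cenL l (m.1 hl) (mc.1 (by simpa using h1)))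
  · obtain ⟨r, h1, h2, ⟨h3, h4⟩, ⟨h5, h6⟩, h7, h8⟩ := F.rho
    exact ⟨c r, m.2 h1, by simp only [← map_pow, ← map_mul, ← map_inv, h2, h3, h4, h5, h6, h7, h8, map_one,
      and_self]⟩
  · obtain ⟨l, h1, h2, h3⟩ := F.ell S
    refine ⟨c l, m.2 h1, by rw [← map_mul, h2, map_one], ?_⟩
    rw [show (Wg fun a => c (g a)) = Wg g ^ᶜ h from (Wg_cj g h).symm, cj_cj, MulAut.conj_apply,
      inv_mul_cancel_right, ← cj_cj, h3, k4_cj]; rfl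
  · refine (F.aut x (mc.1 (Vg_cj g h ▸ hx))).imp (fun ⟨l, h1, h2⟩ => ⟨c l, m.2 h1, by simpa using mc.2 h2⟩)
      fun ⟨l, h1, h2, h3, h4⟩ => ⟨c l, m.2 h1, by simpa using mc.2 h2, ?_, ?_⟩
    · simp only [← map_mul, ← map_inv, h3]
    · simp only [← map_mul, ← map_inv, h4]

/-- in `T C(L)` -/
def TK (L : Subgroup G) (g : ℕ → G) (x : G) : Prop := ∃ t ∈ sub g mJ, Rl L x t
/-- in the coset of a graph-field automorphism -/
def TS (L : Subgroup G) (g : ℕ → G) (x : G) : Prop := ∃ t ∈ sub g mJ, Sg L g (t * x)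
/-- swaps the two sides -/
structure Sw (g : ℕ → G) (x : G) : Prop where
  n : x ∈ 𝐍(sub g mJ)
  a : ∀ {m n x1 x2 y1 y2}, Sd m n x1 x2 y1 y2 → ∀ y ∈ sub g m, x * y * x⁻¹ ∈ sub g n

namespace Fr
variable {L X : Subgroup G} {g : ℕ → G} {x y c u : G}

theorem VT (_F : Fr L g) : Vg g ≤ sub g mJ := (VW_le g).1.trans (VW_le g).2.2
theorem ZL (F : Fr L g) : sub g mE ≤ L := (VW_le g).2.2.trans F.inL
theorem VK (F : Fr L g) : Vg g ≤ 𝐂(L) := fun x hx => (F.cen x (F.inL (F.VT hx))).2 hx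
theorem LV (F : Fr L g) : L ≤ 𝐂(Vg g) := le_centralizer_iff.1 F.VK
theorem waL (F : Fr L g) : g wa ∈ L := F.ZL memT
theorem waK (F : Fr L g) : g wa ∉ 𝐂(L) := fun h =>
  absurd ((F.memV (by decide +kernel)).1 ((F.cen _ F.waL).1 h)) (by decide +kernel)

theorem NV (F : Fr L g) : 𝐍(L) = 𝐍(Vg g) := by
  refine le_antisymm ?_ fun x hx => F.ti _ (F.VK F.bV.mx) F.bV.xx F.bV.x1 x
    (F.VK (conj_mem_of_mem_normalizer hx F.bV.mx))
  rw [show Vg g = L ⊓ 𝐂(L) from le_antisymm (le_inf (F.VT.trans F.inL) F.VK) fun x hx => (F.cen x hx.1).1 hx.2]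
  exact le_normalizer_inf le_rfl (normalizer_le_normalizer_centralizer L)

theorem CN (F : Fr L g) : 𝐂(Vg g) ≤ 𝐍(L) := F.NV ▸ centralizer_le_normalizer _

theorem tc (F : Fr L g) : TC (Vg g) :=
  ⟨⟨_, _, F.bV⟩, fun h u hu u1 e => F.NV ▸ F.ti u (F.VK hu) (F.bV.sq hu) u1 h (F.VK e)⟩

theorem tiK (F : Fr L g) (hX : IsC (Vg g) X) (h : u ∈ X) (u1 : u ≠ 1) (hu : u ∈ 𝐂(L)) : X = Vg g := by
  obtain ⟨k, rfl⟩ := hX
  obtain ⟨v, hv, rfl⟩ := mem_cj'.1 h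
  exact cj_eq_of_mem_normalizer (F.NV ▸ F.ti v (F.VK hv) (F.bV.sq hv) (fun e => u1 (by simp [e])) k hu)

theorem rlV (F : Fr L g) {s : G} (h : Rl L x s) (hx : x ∈ 𝐂(L)) : s ∈ Vg g := (F.cen _ h.1).1 (h.memK.1 hx)

variable [Finite G]

theorem sg (F : Fr L g) (h : Sg L g c) : Sw g c ∧ c * g wa * c⁻¹ = g wa ∧ c * g wb * c⁻¹ = g wc := by
  have k : ∀ {a b}, c * g a * c⁻¹ = g b → g a ∈ sub g mJ → c * g b * c⁻¹ = g a := fun e ha => by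
    rw [← e]; nth_rewrite 2 [← conj_eq_of_mem_centralizer h.sq (F.inL ha)]; group
  have e3 := k h.e1 memT
  have e4 := k h.e2 memT
  have j : ∀ {a b a' b' p q}, c * g a * c⁻¹ = g a' → c * g b * c⁻¹ = g b' →
      band (band (band (inM mU1 a) (inM mJ b)) (band (inM mU2 a') (inM mJ b')))
        (band (Nat.beq p (cmt a b)) (Nat.beq q (cmt a' b'))) = true →
      c * g p * c⁻¹ = g q := fun e f h => by
    simp only [band_eq_true, Nat.beq_eq] at h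
    rw [h.2.1, h.2.2, ← (F.cmt_spec .one h.1.1.1 h.1.1.2).2.1, ← (F.cmt_spec .two h.1.2.1 h.1.2.2).2.1,
      ← e, ← f]; group
  have c1 : c * g e03 * c⁻¹ = g e03 := j h.e1 e3 (by decide +kernel)
  have c2 : c * g z0 * c⁻¹ = g e13 := j h.e1 e4 (by decide +kernel)
  have c3 : c * g e13 * c⁻¹ = g z0 := j h.e2 e3 (by decide +kernel)
  have c4 : c * g e14 * c⁻¹ = g e14 := j h.e2 e4 (by decide +kernel)
  have hn : c ∈ 𝐍(sub g mJ) := inv_mem_iff.1 (mem_normalizer_of_cj_le (cj_le_iff.2 (F.genT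
    (k4_le (by rw [inv_inv, ← e3]; exact cj_mem _ memT) (by rw [inv_inv, ← e4]; exact cj_mem _ memT))
    (k4_le (by rw [inv_inv, ← h.e1]; exact cj_mem _ memT) (by rw [inv_inv, ← h.e2]; exact cj_mem _ memT)))))
  refine ⟨⟨hn, fun S => ?_⟩, ?_, ?_⟩
  · obtain ⟨_, _, _, _, _, _, S', h1, h2, -⟩ := F.perm hn
    cases S'
    · exact absurd (F.inf .one (h.e1 ▸ h1 _ memT) memT) F.nZ
    · cases S; exacts [h1, h2]
  · nth_rewrite 1 [← F.mul_eq (a := z0) (b := e13) (c := wa)]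
    rw [← conj_mul, c2, c3, F.mul_eq (c := wa)]
  · rw [← F.mul_eq (a := va) (b := z0) (c := wb), ← F.mul_eq (a := e03) (b := e14) (c := va), ← conj_mul,
      ← conj_mul, c1, c2, c4, F.mul_eq (c := va), F.mul_eq (c := wc)]

theorem ts (F : Fr L g) (h : TS L g x) : Sw g x ∧ x * g wa = g wa * x ∧ x * g wb ≠ g wb * x := by
  obtain ⟨t, ht, h⟩ := h
  obtain ⟨h1, h2, h3⟩ := F.sg h
  have k : ∀ y, x * y * x⁻¹ = t⁻¹ * (t * x * y * (t * x)⁻¹) * t := fun y => by group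
  refine ⟨⟨(mul_mem_cancel_left (le_normalizer ht)).1 h1.n, fun S y hy =>
    k y ▸ conj_mem_of_mem_normalizer' (F.normA S.symm ht) (h1.a S y hy)⟩, ?_, fun e => ?_⟩
  · rw [← mul_inv_eq_iff_eq_mul, k, h2, mul_assoc, F.cenZ memT ht, inv_mul_cancel_left]
  · rw [← mul_inv_eq_iff_eq_mul, k, h3, mul_assoc, F.cenZ memT ht, inv_mul_cancel_left] at e
    exact absurd e F.ne

omit [Finite G] in
theorem _root_.H10.HeS.TK.norm (h : TK L g x) (F : Fr L g) : x ∈ 𝐍(sub g mJ) :=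
  let ⟨_, ht, h⟩ := h; h.norm F.inL (le_normalizer ht)

theorem _root_.H10.HeS.TK.cenZ (h : TK L g x) (F : Fr L g) (hy : y ∈ sub g mE) : x * y = y * x :=
  let ⟨_, ht, h⟩ := h; (h.comm (F.ZL hy)).2 (F.cenZ hy ht).symm

theorem _root_.H10.HeS.Sw.not (h : Sw g x) (E : Em g) {m n x1 x2 y1 y2 : ℕ} (S : Sd m n x1 x2 y1 y2)
    (hy : y ∈ sub g m) (ny : y ∉ sub g mE) : x * y * x⁻¹ ∉ sub g m := fun e =>
  ny ((mem_normalizer_iff.1 (E.normZ h.n) y).2 (E.inf S e (h.a S y hy)))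

theorem dec (F : Fr L g) (hx : x ∈ 𝐂(Vg g)) (h : (g wa)⁻¹ * (x * g wa * x⁻¹) ∈ 𝐂(L)) :
    TK L g x ∨ TS L g x := by
  refine (F.aut x hx).imp (fun ⟨l, hl⟩ => ⟨l, F.cenL l hl.1 (hl.cj F.waL ▸ h), hl⟩)
    fun ⟨l, hl, hs⟩ => ⟨l, inv_mem_iff.1 (F.cenL _ (inv_mem hl) ?_), hs⟩
  convert h using 2
  nth_rewrite 1 [← (F.sg hs).2.1]; group

theorem fixw (F : Fr L g) (hx : x ∈ 𝐂(Vg g)) (hu : (g wa)⁻¹ * u ∈ 𝐂(L)) (c : x * u = u * x) :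
    TK L g x ∨ TS L g x := F.dec hx (by
  have := conj_mem_of_mem_normalizer (normalizer_le_normalizer_centralizer L (F.CN hx)) (inv_mem hu)
  convert mul_mem hu this using 1
  calc _ = (g wa)⁻¹ * (x * u * x⁻¹) * (x * ((g wa)⁻¹ * u)⁻¹ * x⁻¹) := by group
    _ = _ := by rw [c, mul_inv_cancel_right])

theorem ts_mul (F : Fr L g) (hx : x ∈ 𝐂(Vg g)) (hy : y ∈ 𝐂(Vg g)) (h1 : TS L g x) (h2 : TS L g y) :
    TK L g (x * y) := by
  obtain ⟨a1, a2, -⟩ := F.ts h1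
  obtain ⟨b1, b2, -⟩ := F.ts h2
  refine (F.fixw (mul_mem hx hy) (u := g wa) (by simpa using one_mem _)
    (by rw [mul_assoc, b2, ← mul_assoc, a2, mul_assoc])).resolve_right fun e => ?_
  refine (F.ts e).1.not F.toEm .one (y := g e02) memT F.nZ ?_
  convert a1.a .two _ (b1.a .one (g e02) memT) using 1; group

theorem exists_hw (F : Fr L g) (hX : IsC (Vg g) X) (ne : X ≠ Vg g) (hc : X ≤ 𝐂(Vg g)) :
    ∃ l ∈ L, ∃ u ∈ X, (l * g wa * l⁻¹)⁻¹ * u ∈ 𝐂(L) := by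
  obtain ⟨x, y, b⟩ := F.tc.b hX
  obtain ⟨u, hu, u1, l, h⟩ : ∃ u ∈ X, u ≠ 1 ∧ ∃ l, Rl L u l := by
    rcases F.aut x (hc b.mx) with h | ⟨l, hl, h1⟩
    · exact ⟨_, b.mx, b.x1, h⟩
    rcases F.aut y (hc b.my) with h | ⟨m, hm, h2⟩
    · exact ⟨_, b.my, b.y1, h⟩
    have c1 := mul_mem (F.LV hl) (hc b.mx)
    obtain ⟨t, -, h⟩ := F.ts_mul c1 (mul_mem (F.LV hm) (hc b.my)) ⟨1, one_mem _, (one_mul (l * x)).symm ▸ h1⟩
      ⟨1, one_mem _, (one_mul (m * y)).symm ▸ h2⟩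
    have := mul_mem (conj_mem_of_mem_normalizer (F.CN c1) hm) hl
    exact ⟨_, b.rot.my, b.xy1, _, mul_mem (inv_mem this) h.1, by convert h.2 using 1; group⟩
  obtain ⟨m, hm, e⟩ := F.clsL l h.1 ((h.mul h).memK.1 (b.sq hu ▸ one_mem _))
    fun e => ne (F.tiK hX hu u1 (h.memK.2 e))
  exact ⟨m, hm, u, hu, by simpa [mul_assoc] using mul_mem e h.2⟩

end Fr

end H10.HeS
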