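import Cfsg.Agent.Lib.Std.He4

/-! Standard subgroups `2².L₃(4)`, part 5: two conjugates of `L` with commuting centres. -/

set_option autoImplicit false

namespace H10.HeS
open H49.He H69 Subgroup

variable {G : Type*} [Group G]

/-- two frames with commuting centres -/
structure Pr (L : Subgroup G) (g : ℕ → G) (L' : Subgroup G) (g' : ℕ → G) : Prop where
  F : Fr L g
  F' : Fr L' g'
  dis : ∀ k ∈ 𝐂(L), k ∈ 𝐂(L') → k * k = 1 → k = 1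
  com : Vg g' ≤ 𝐂(Vg g)
  hw : ∃ u ∈ Vg g', (g wa)⁻¹ * u ∈ 𝐂(L)
  hw' : ∃ u ∈ Vg g, (g' wa)⁻¹ * u ∈ 𝐂(L')

namespace Pr
variable {L L' : Subgroup G} {g g' : ℕ → G} {m n x1 x2 y1 y2 : ℕ} {a s t : G}

theorem symm (P : Pr L g L' g') : Pr L' g' L g :=
  ⟨P.F', P.F, fun k h h' => P.dis k h' h, le_centralizer_iff.1 P.com, P.hw', P.hw⟩

variable [Finite G]

theorem p1 (P : Pr L g L' g') : sub g mJ ≤ 𝐂(Vg g') := by
  obtain ⟨u, hu, hk⟩ := P.hw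
  have F := P.F
  have u1 : u ≠ 1 := fun e => F.waK (by simpa [e] using hk)
  have c : ∀ t ∈ sub g mJ, t * u = u * t := fun t ht =>
    ((Rl.comm ⟨F.waL, hk⟩ (F.inL ht)).2 (F.cenZ memT ht)).symm
  have two := fun s hs t ht => P.F'.bV.two hu u1 (P.F'.tc.cn (.refl _) hu u1 (c s hs))
    (P.F'.tc.cn (.refl _) hu u1 (c t ht)) (c s hs) (c t ht)
  refine le_centralizer_iff.1 fun y hy => ?_
  rcases F.fixw (P.com hy) hk (P.F'.bV.ab hu y hy) with ⟨t, ht, h⟩ | h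
  · have k : ∀ s ∈ sub g mJ, s ∈ 𝐂(Vg g') → t * s = s * t := fun s hs e => (h.comm (F.inL hs)).1 (e y hy)
    have := F.memZ ht fun s hs r hr => (two s hs r hr).imp (k s hs) fun e => e.imp (k r hr) (k _ (mul_mem hs hr))
    exact fun s hs => ((h.comm (F.inL hs)).2 (F.cenZ this hs)).symm
  · obtain ⟨a, ha, a1, e⟩ := (F.bX .one).idx (two (g e02) memT (g e12) memT)
    obtain ⟨h1, h2⟩ := F.nZX .one ha a1
    exact absurd (by rwa [e y hy, mul_inv_cancel_right]) ((F.ts h).1.not F.toEm .one h1 h2)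

theorem p1' (P : Pr L g L' g') (hs : s ∈ sub g' mJ) : TK L g s ∨ TS L g s :=
  let ⟨u, hu, hk⟩ := P.hw
  P.F.fixw (P.symm.p1 hs) hk (P.F'.cenZ ((VW_le g').1 hu) hs).symm

theorem p2 (P : Pr L g L' g') : sub g' mJ ≤ 𝐍(sub g mJ) := fun _ hs =>
  (P.p1' hs).elim (fun h => h.norm P.F) fun h => (P.F.ts h).1.n

theorem p3 (P : Pr L g L' g') (hs : s ∈ sub g' mJ) : TK L g s := (P.p1' hs).resolve_right fun h => by
  have F := P.F
  obtain ⟨h1, -, h3⟩ := F.ts h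
  have hZ : sub g mE ≤ sub g' mJ := F.genZ fun x hx y hy => by
    have a : g x ∈ sub g mU1 := k4_le memT memT (k4_mem hx)
    have b : g y ∈ sub g mU2 := k4_le memT memT (k4_mem hy)
    have a2 := inv_eq_of_mul_eq_one_right (F.ab .one a).1
    have d : g x * (s * g x * s⁻¹) ∈ sub g' mJ := by
      convert mul_mem (conj_mem_of_mem_normalizer (P.symm.p2 ((Sd.one.le g).2.1 a)) hs) (inv_mem hs) using 1
      rw [a2]; group
    convert mul_mem d (conj_mem_of_mem_normalizer (P.symm.p2 ((Sd.two.le g).2.1 b)) (inv_mem d)) using 1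
    rw [← mul_assoc, ← mul_assoc, mul_assoc (g x) _ (g y), (F.ab .two (h1.a .one _ a)).2 _ b]; group
  refine h3 (P.F'.cenZ (P.F'.memZ (hZ memT) fun s hs t ht => ?_) hs).symm
  rcases P.p1' hs with e | e
  · exact Or.inl (e.cenZ F memT).symm
  rcases P.p1' ht with f | f
  · exact Or.inr (Or.inl (f.cenZ F memT).symm)
  exact Or.inr (Or.inr ((F.ts_mul (P.symm.p1 hs) (P.symm.p1 ht) e f).cenZ F memT).symm)

theorem nab (P : Pr L g L' g') (S : Sd m n x1 x2 y1 y2)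
    (h : ∀ a, a ∈ sub g mU1 ∨ a ∈ sub g mU2 → ∀ s ∈ sub g' mJ, Rl L' a s → s ∈ sub g' m) : False := by
  refine P.F.bV.x1 (P.dis _ (P.F.VK P.F.bV.mx) (P.F.genZ (fun x hx y hy => ?_) memT) P.F.bV.xx)
  have a : g x ∈ sub g mU1 := k4_le memT memT (k4_mem hx)
  have b : g y ∈ sub g mU2 := k4_le memT memT (k4_mem hy)
  obtain ⟨s, hs, e⟩ := P.symm.p3 ((Sd.one.le g).2.1 a)
  obtain ⟨t, ht, f⟩ := P.symm.p3 ((Sd.two.le g).2.1 b)
  rw [(e.cmt f).memK, (P.F'.ab S (h _ (Or.inl a) s hs e)).2 _ (h _ (Or.inr b) t ht f), mul_inv_cancel]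
  exact one_mem _

theorem p5 (P : Pr L g L' g') (S : Sd m n x1 x2 y1 y2) (ha : a ∈ sub g m) (na : a ∉ sub g mE)
    (h : Rl L' a s) : s ∉ sub g' mE := fun hs => P.symm.nab S fun y hy t ht e => by
  replace hy : y ∈ sub g' mJ := hy.elim (fun e => (Sd.one.le g').2.1 e) fun e => (Sd.two.le g').2.1 e
  exact P.F.cent' S ha na ht ((e.comm (P.F.inL ((S.le g).2.1 ha))).1
    ((h.comm (P.F'.inL hy)).2 (P.F'.cenZ hs hy)).symm).symm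

theorem sd1 (P : Pr L g L' g') (S : Sd m n x1 x2 y1 y2) {m' n' x1' x2' y1' y2' : ℕ}
    (S' : Sd m' n' x1' x2' y1' y2') (h : Rl L' (g x1) t) (ht : t ∈ sub g' m') (c : g x1 * a = a * g x1)
    (hs : s ∈ sub g' mJ) (e : Rl L' a s) : s ∈ sub g' m' :=
  have k := P.F.nZX S (P.F.bX S).mx (P.F.bX S).x1
  P.F'.cent S' ht (P.p5 S k.1 k.2 h) hs (P.F'.rlV (h.cmt e) (by rw [c, mul_inv_cancel]; exact one_mem _))

theorem sides (P : Pr L g L' g') : ∃ m n x1 x2 y1 y2, Sd m n x1 x2 y1 y2 ∧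
    (∀ a, g e02 * a = a * g e02 → ∀ s ∈ sub g' mJ, Rl L' a s → s ∈ sub g' m) ∧
      ∀ a, g e23 * a = a * g e23 → ∀ s ∈ sub g' mJ, Rl L' a s → s ∈ sub g' n := by
  obtain ⟨s, hs, e⟩ := P.symm.p3 (s := g e02) memT
  obtain ⟨t, ht, f⟩ := P.symm.p3 (s := g e23) memT
  obtain ⟨m, n, x1, x2, y1, y2, S, h⟩ := P.F'.side hs
    (P.F'.rlV (e.mul e) ((P.F.bX .one).xx ▸ one_mem _))
  refine ⟨_, _, _, _, _, _, S, fun a c s hs => P.sd1 .one S e h c hs, fun a c s hs => P.sd1 .two S.symm f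
    ((P.F'.cases S ht (P.F'.rlV (f.mul f) ((P.F.bX .two).xx ▸ one_mem _))).resolve_left fun k =>
      P.nab S fun a ha s hs => ?_) c hs⟩
  exact ha.elim (fun ha => P.sd1 .one S e h ((P.F.ab .one memT).2 a ha) hs)
    fun ha => P.sd1 .two S f k ((P.F.ab .two memT).2 a ha) hs

theorem p6 (P : Pr L g L' g') : sub g' mE ≤ sub g mE := fun z hz => by
  obtain ⟨m, n, x1, x2, y1, y2, S, h1, -⟩ := P.sides
  obtain ⟨s, hs, e⟩ := P.symm.p3 (s := g e02) memT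
  obtain ⟨t, ht, f⟩ := P.symm.p3 (s := g e12) memT
  have b := P.F.bX .one
  have k : ∀ r ∈ [s, t, s * t], ∃ a ∈ k4 (g e02) (g e12), a ≠ 1 ∧ Rl L' a r := by
    simp only [List.forall_mem_cons, List.not_mem_nil, false_imp_iff, implies_true, and_true]
    exact ⟨⟨_, b.mx, b.x1, e⟩, ⟨_, b.my, b.y1, f⟩, _, b.rot.my, b.xy1, e.mul f⟩
  refine P.F.memZ (P.F'.genZ2 S (h1 _ rfl s hs e) (h1 _ b.xy t ht f) (fun r hr => ?_) (fun r hr y hy => ?_) hz)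
    fun s hs _ _ => Or.inl ((P.symm.p3 hs).cenZ P.F' hz).symm
  · obtain ⟨a, ha, a1, e⟩ := k r hr
    exact P.p5 .one (P.F.nZX .one ha a1).1 (P.F.nZX .one ha a1).2 e
  · obtain ⟨a, ha, a1, e⟩ := k r hr
    replace ha := (Sd.one.le g).2.1 (P.F.nZX .one ha a1).1
    rw [mul_inv_rev, ← mul_assoc, ← e.cj (P.F'.inL hy)]
    convert mul_mem ha (conj_mem_of_mem_normalizer (P.p2 hy) (inv_mem ha)) using 1; group

theorem p7 (P : Pr L g L' g') : Vg g' = Wg g := P.F'.bV.eq_of_le P.F.bW fun v hv => by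
  obtain ⟨m, n, x1, x2, y1, y2, S, h1, h2⟩ := P.sides
  rcases (P.F.decZ (P.p6 ((VW_le g').1 hv))).2 with h | h | ⟨x, hx, y, hy, x1, y1, rfl⟩
  · exact P.dis v (P.F.VK h) (P.F'.VK hv) (P.F.bV.sq h) ▸ one_mem _
  · exact h
  obtain ⟨a1, a2⟩ := P.F.nZX .one hx x1
  obtain ⟨b1, b2⟩ := P.F.nZX .two hy y1
  obtain ⟨s, hs, e⟩ := P.symm.p3 ((Sd.one.le g).2.1 a1)
  obtain ⟨t, ht, f⟩ := P.symm.p3 ((Sd.two.le g).2.1 b1)
  exact absurd (P.F'.inf S (P.F'.cent S (h1 _ ((P.F.ab .one memT).2 _ a1) s hs e) (P.p5 .one a1 a2 e) ht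
    (P.F'.rlV (e.cmt f) (P.F'.VK hv))) (h2 _ ((P.F.ab .two memT).2 _ b1) t ht f)) (P.p5 .two b1 b2 f)

theorem k2 (P : Pr L g L' g') {k : G} (hk : k ∈ 𝐂(L)) (h2 : T2 k) : k ∈ Vg g := by
  obtain ⟨m, n, x1, x2, y1, y2, S, h3, h4⟩ := P.sides
  obtain ⟨u, hu, hu'⟩ := P.hw'
  have c : ∀ z ∈ sub g' mE, k * z = z * k := fun z hz => (hk z (P.F.ZL (P.p6 hz))).symm
  obtain ⟨t, ht, e⟩ := (P.F'.fixw (P.F'.bV.cent (c _ memT) (c _ memT)) hu'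
    (hk u (P.F.inL (P.F.VT hu))).symm).resolve_right fun h => (P.F'.ts h).2.2 (c _ memT)
  obtain ⟨v, hv, w, hw, rfl⟩ := (P.F.decZ (P.p6 (P.F'.inf S (h3 k (hk _ (P.F.inL memT)) t ht e)
    (h4 k (hk _ (P.F.inL memT)) t ht e)))).1
  have : v⁻¹ * k = 1 := T2.eq_one (K := 𝐂(L) ⊓ 𝐂(L')) ((T2.of_sq (P.F.bV.sq (inv_mem hv))).mul h2
    (hk _ (P.F.inL (P.F.VT (inv_mem hv))))) ⟨mul_mem (P.F.VK (inv_mem hv)) hk, by
      show _ ∈ 𝐂(L')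
      convert mul_mem (P.F'.VK (P.p7 ▸ hw)) e.2 using 1; group⟩ fun k hk => P.dis k hk.1 hk.2
  exact inv_mul_eq_one.1 this ▸ hv

theorem p8 (P : Pr L g L' g') : sub g' mJ ≤ sub g mJ := fun s hs => by
  obtain ⟨t, ht, e⟩ := P.p3 hs
  have := P.k2 e.2 (T2.mul ⟨2, P.F.pow4 (inv_mem ht)⟩ ⟨2, P.F'.pow4 hs⟩
    ((e.comm (inv_mem e.1)).2 (by group)).symm)
  exact (mul_mem_cancel_left (inv_mem ht)).1 (P.F.VT this)

end Pr

theorem Fr.pair [Finite G] {L X : Subgroup G} {g : ℕ → G} (F : Fr L g) (hX : IsC (Vg g) X) (ne : X ≠ Vg g)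
    (hc : X ≤ 𝐂(Vg g)) : (∀ k ∈ 𝐂(L), T2 k → k ∈ Vg g) ∧ (∃ l ∈ L, X = Wg g ^ᶜ l) ∧
      ∃ h ∈ 𝐍(sub g mJ), Vg g ^ᶜ h = Wg g ∧ Wg g ^ᶜ h = Vg g := by
  obtain ⟨l, hl, u, hu, e⟩ := F.exists_hw hX ne hc
  obtain ⟨h, rfl⟩ := hX
  have F' := F.conj h
  obtain ⟨l', hl', u', hu', e'⟩ := F'.exists_hw (X := Vg g) ⟨h⁻¹, by rw [← Vg_cj, cj_cj_inv]⟩
    (by rw [← Vg_cj]; exact ne.symm) (by rw [← Vg_cj]; exact le_centralizer_iff.1 hc)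
  have v1 : Vg g ^ᶜ l = Vg g := cj_eq_of_mem_centralizer (F.LV hl)
  have v2 : (Vg g ^ᶜ h) ^ᶜ l' = Vg g ^ᶜ h := cj_eq_of_mem_centralizer (Vg_cj g h ▸ F'.LV hl')
  have P : Pr L (fun a => l * g a * l⁻¹) (L ^ᶜ h) fun a => l' * (h * g a * h⁻¹) * l'⁻¹ :=
    ⟨cj_eq_of_mem hl ▸ F.conj l, cj_eq_of_mem hl' ▸ F'.conj l', fun k h1 h2 k2 => by_contra fun k1 => ne (by
      rw [← cj_centralizer, mem_cj] at h2
      exact cj_eq_of_mem_normalizer (F.NV ▸ inv_mem_iff.1 (F.ti k h1 k2 k1 h⁻¹ (by simpa using h2)))),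
      by rw [← Vg_cj, ← Vg_cj, ← Vg_cj, v1, v2]; exact hc,
      ⟨u, by rw [← Vg_cj, ← Vg_cj, v2]; exact hu, e⟩, u', by rw [← Vg_cj, v1]; exact hu', e'⟩
  have p := P.p7
  have q := P.symm.p7
  have r := le_antisymm P.p8 P.symm.p8
  rw [← Vg_cj, ← Vg_cj, ← Wg_cj] at p
  rw [← Vg_cj, ← Wg_cj, ← Wg_cj, v1] at q
  rw [← sub_cj, ← sub_cj, ← sub_cj] at r
  refine ⟨fun k hk k2 => by simpa only [← Vg_cj, v1] using P.k2 hk k2, ⟨l, hl, v2.symm.trans p⟩,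
    l⁻¹ * (l' * h), cj_eq_self_iff.1 ?_, ?_, ?_⟩
  · rw [← cj_cj, ← cj_cj, r, cj_cj_inv]
  · rw [← cj_cj, ← cj_cj, p, cj_cj_inv]
  · rw [← cj_cj, ← cj_cj, ← q, cj_eq_iff, inv_inv, v1]

end H10.HeS
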