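import Cfsg.Agent.Lib.Std.Pc
import Cfsg.Agent.Lib.Ru.Main

/-! Involutions of a Sylow 2-subgroup of the Rudvalis group (generated). -/

set_option autoImplicit false
set_option maxRecDepth 100000
set_option exponentiation.threshold 2000

namespace H10.Std.Ru

open H54 H60 H15.Mdl H15.RuM

def t0 : ℕ := 0x1000000000100503e1e9249e42e7dd0000

def xl : List ℕ := [0x23e3ecb0e7f4b31ae8415e86d79b4e60de172d6ae956b923812dd662f07c2d79203c4b32c862cda063be81819275aa914cc5c71cd5eabe5aba5d39fe1aad3c434c0418368dbda5290aea681b484e3271e463d758de570a102544013eefca1494fa8f,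
  0x39928558d0b9b394406b57c145e97250edceb2abef4f503bc8295784b77cbcce4fd22f64387fb6f650eaf95c4a075b82bdba6cc20fb5166d374d0904981bdbbe36de03c7f8859ed845e711d73cecccb90479467e3eefca1ffdd4070e1c1b7e77d5e5,
  0x451914532b3e3f9388d364d42cc0c9746981a450972404e883e4b07cea2cfba2230aeee232afc120a5b5445cc81f585e51b449ec1154f838ad21051762463a8491a35148d8827a8e0c320612b481ed8cee27fc746b080b17b0adbab22122aa577f74,
  0x59876be398b66da1568634e231b80804b27c5b50727c98970e577b99c9279c0913079e084bd5c8b31b033fcb656c0ae42338fdbdba8f33a5c85bd3f0acc9c6e4bfd3f1d2ae6e8205f48f2cb3401b40415b44165f87da99eef2019f787d4177ce55c5,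
  0x1a48b51f7aeef89c5ee4d4f93839d710ece766c80d764de01b038e4f9be368d84ef14aa9439f966a5c72073c2d5f8103501c6f37ba097fbce1d3e66dba25c054cf524f7d01866dc21cc23ff713e8391a39edd55ded33695abcdf4e81fe147d0682ce,
  0x1add8eea835269380583fb6935ecea43b431442d5b1bd012f28d681847cfa7375a6c73b793abf1e6d69288fd03e81ff50315a56a3c761661bb65b076dc6f5c37fa10cc437f99ff25b2a8eb2abba8e43a8451caa4ea32c648d73b0bf81c5d45ec99db,
  0x48de019b4b110469a27f50847bf0dff6e65c653f3d88d01a4eab4b67c60912cd496857b5358f32aac42c7e13196cecfb60ce1d18d28287616ba891517730897820f9167087a825d238016ff191eb44bc86439284fae757402b281588296613444921,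
  0xe43840a026fcdfe95a3a4da9ced222ab8a241cca37422855214866a66450e7f9ded07a882375cd5f930ea03946f3a5014118c5a6629558a1ed7b67612b06760155ea103bba3959575cb99f10c8b42133c7d25004ac5d951eaa432a1886f362d4e2d6,
  0xff18cc72420a4f3725f74eddb0aa013d5b1aa6683b4c2a8771d2343ad5631fd4f50d4beaf7479debc0cde0e9b5a920c82d861208a35e818098217daca7e5f4c9621408a8e791f4566cc6f22414d8760d1aff02992612b35b0cd96ea3e23274d5a287,
  0x158b7ad7ec2135c76e5d61440c0b5e38cae9ea2a283edaa337ea7eb877785888104128e3df641a504a215ba1f47e7fefe1e4b31df6932338f8822c9c9ff548a74482fc93c89dca40c30de836e4decc79c5585391cc1ad77bb3f3aab6e7b1c3f5cdca,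
  0x727f724a61e6f0c036b1b54d4e565cb006f960f1ab791fcc05365877f1338f6254940d962aa14d5f930e51e8053b0cd96e84455f81b23f75b6e9e356a2f5435a94cdbc1519dd92d4ba38aa0be4eeedded0cb727961927a784eb14ad8fe3961c13115,
  0x431727b63b9aa931d93196e162fb50473f78ba65a337a83d0af8ae75d10f74154f513a0faa880ecc335653ccb692c44d232b9ce3f1576fcac9b7f8b1229731f1063c573fff7bca162ffba89942981178f5985dc7fdc59569abf06a00200041c1e67d,
  0x190aff9c4d791a50243a07feb589d575a99e87340c4ad6b1c491ecb92625b185c4253388c1138663cf8aa03946f2e8b95cd007b65b08efa61cbb07c39d6d6ead1045768f71da2d343a6505c508b9b4c3e5f14f9d206f1bc965cc75bd8c71001744ba,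
  0x399c491d105819333187a6ece15010be8a54bffd87846bdbdb5d19720db3de5eb201a56c5a13e07f3be5727ec70693d7d3332b47035aa171e93cca58ae3ca1b3546ba2cf4938f8786137763ad3eada5bbfea3718e9f63ddc52c1ab7b49cfa6b52d5a]

theorem xl_w : wordsChk o28 (d2_g ++ d2_h) [[15, 15, 15, 15, 15, 15, 15], [16, 16, 16, 16, 16, 16, 16], [17, 17, 17, 17, 17, 17, 17], [16, 17, 16], [16, 15, 2], [16, 17, 16, 1, 5], [16, 17, 16, 16], [16, 17, 1], [16, 17, 16, 16, 1], [16, 15, 2, 4], [16, 15], [16, 15, 2, 16], [16, 17, 16, 1, 5, 9], [16, 1]] xl = true := by decide +kernel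

def lt : List ℕ := d2_g ++ d2_h ++ xl

noncomputable def tb : Tr :=
 (.node 68723 (.node 31355 (.node 14370 (.node 7785 (.node 3655 (.node 1260 (.node 321 (.node 35 (.node 7 (.leaf 11257) (.leaf 1390)) (.node 100 (.leaf 1439152) (.node 101 (.leaf 1708) (.leaf 46380)))) 
 (.node 497 (.node 331 (.leaf 50728) (.leaf 1502)) (.node 1087 (.leaf 1468) (.node 1177 (.leaf 49532) (.leaf 50790))))) (.node 2327 (.node 1335 (.node 1330 (.leaf 48108) (.leaf 44844)) (.node 1513 (.leaf 51074) (.node 1953 (.leaf 1512820) (.leaf 63348)))) 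
 (.node 3223 (.node 2722 (.leaf 48808) (.node 3130 (.leaf 43112) (.leaf 1209))) (.node 3427 (.leaf 43246) (.node 3434 (.leaf 1849) (.leaf 44602)))))) (.node 5462 (.node 4747 (.node 4118 (.node 3995 (.leaf 1083) (.leaf 43240)) (.node 4528 (.leaf 3273) (.node 4585 (.leaf 137) (.leaf 12229)))) 
 (.node 5049 (.node 4867 (.leaf 63140) (.leaf 48466)) (.node 5094 (.leaf 44664) (.node 5223 (.leaf 47274) (.leaf 51104))))) (.node 6077 (.node 5784 (.node 5756 (.leaf 1724) (.leaf 9)) (.node 5982 (.leaf 1954) (.node 6000 (.leaf 1439) (.leaf 34106)))) 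
 (.node 6946 (.node 6422 (.leaf 54648) (.node 6641 (.leaf 54820) (.leaf 55))) (.node 7018 (.leaf 33908) (.node 7136 (.leaf 47292) (.leaf 1069))))))) (.node 11567 (.node 9522 (.node 8568 (.node 8077 (.node 7839 (.leaf 54884) (.leaf 49034)) (.node 8238 (.leaf 1414192) (.node 8258 (.leaf 52592) (.leaf 50540)))) 
 (.node 8951 (.node 8659 (.leaf 1219) (.leaf 1767)) (.node 9114 (.leaf 79) (.node 9463 (.leaf 357) (.leaf 359))))) (.node 10828 (.node 9692 (.node 9578 (.leaf 1787) (.leaf 543)) (.node 10457 (.leaf 2209) (.node 10562 (.leaf 44986) (.leaf 63344)))) 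
 (.node 11194 (.node 10904 (.leaf 48546) (.node 11065 (.leaf 1350) (.leaf 52894))) (.node 11359 (.leaf 85) (.node 11513 (.leaf 44320) (.leaf 3047)))))) (.node 13378 (.node 12244 (.node 11688 (.node 11650 (.leaf 2023) (.leaf 54818)) (.node 11696 (.leaf 3323) (.node 12036 (.leaf 1901) (.leaf 43118)))) 
 (.node 12877 (.node 12475 (.leaf 17) (.node 12521 (.leaf 44222) (.leaf 8639))) (.node 12975 (.leaf 1648) (.node 13295 (.leaf 44472) (.leaf 52776))))) (.node 14127 (.node 13668 (.node 13472 (.leaf 1867) (.leaf 271)) (.node 13689 (.leaf 6139) (.node 13790 (.leaf 48582) (.leaf 48500)))) 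
 (.node 14307 (.node 14225 (.leaf 1091442) (.node 14228 (.leaf 375) (.leaf 63016))) (.node 14324 (.leaf 1084840) (.node 14341 (.leaf 1512) (.leaf 1017)))))))) (.node 21188 (.node 18235 (.node 16383 (.node 15318 (.node 15127 (.node 14465 (.leaf 48312) (.leaf 1956)) (.node 15232 (.leaf 51060) (.node 15260 (.leaf 54824) (.leaf 51058)))) 
 (.node 15754 (.node 15496 (.leaf 33) (.leaf 23)) (.node 16083 (.leaf 44326) (.node 16258 (.leaf 2297) (.leaf 53104))))) (.node 17471 (.node 16711 (.node 16628 (.leaf 1085300) (.leaf 549)) (.node 17175 (.leaf 43502) (.node 17373 (.leaf 1712) (.leaf 48578)))) 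
 (.node 18126 (.node 18006 (.leaf 49588) (.node 18018 (.leaf 48736) (.leaf 1522))) (.node 18138 (.leaf 48766) (.node 18188 (.leaf 1387826) (.leaf 1960)))))) (.node 19443 (.node 18763 (.node 18545 (.node 18330 (.leaf 48450) (.leaf 50720)) (.node 18550 (.leaf 54718) (.node 18749 (.leaf 44598) (.leaf 48)))) 
 (.node 18993 (.node 18791 (.leaf 53032) (.node 18967 (.leaf 377) (.leaf 50548))) (.node 19227 (.leaf 50360) (.node 19419 (.leaf 1518) (.leaf 44666))))) (.node 20617 (.node 19647 (.node 19577 (.leaf 1492722) (.leaf 1402)) (.node 20274 (.leaf 1354) (.node 20349 (.leaf 1346) (.leaf 54942)))) 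
 (.node 20733 (.node 20661 (.leaf 51056) (.node 20678 (.leaf 34094) (.leaf 44194))) (.node 21019 (.leaf 1380212) (.node 21159 (.leaf 1716) (.leaf 1966))))))) (.node 26954 (.node 24172 (.node 23768 (.node 22235 (.node 21972 (.leaf 62566) (.leaf 353)) (.node 23256 (.leaf 3267) (.node 23690 (.leaf 259) (.leaf 50814)))) 
 (.node 23894 (.node 23863 (.leaf 1582) (.leaf 43624)) (.node 24007 (.leaf 289) (.node 24153 (.leaf 50722) (.leaf 62626))))) (.node 24779 (.node 24321 (.node 24207 (.leaf 1546) (.leaf 50674)) (.node 24599 (.leaf 4389) (.node 24688 (.leaf 1079) (.leaf 1855)))) 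
 (.node 26380 (.node 24836 (.leaf 1454) (.node 25676 (.leaf 43630) (.leaf 2559))) (.node 26717 (.leaf 1731) (.node 26921 (.leaf 135) (.leaf 47522)))))) (.node 28824 (.node 27465 (.node 27226 (.node 27134 (.leaf 1419) (.leaf 2271)) (.node 27398 (.leaf 51078) (.node 27410 (.leaf 47350) (.leaf 1788)))) 
 (.node 27745 (.node 27684 (.leaf 569) (.node 27691 (.leaf 161) (.leaf 48098))) (.node 28251 (.leaf 4041) (.node 28458 (.leaf 48492) (.leaf 63076))))) (.node 30317 (.node 29005 (.node 28899 (.leaf 2041) (.leaf 44002)) (.node 29952 (.leaf 1005) (.node 30040 (.leaf 1761) (.leaf 48452)))) 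
 (.node 30586 (.node 30443 (.leaf 2043) (.node 30469 (.leaf 1392) (.leaf 46646))) (.node 30990 (.leaf 52) (.node 31274 (.leaf 2687) (.leaf 43122))))))))) (.node 49373 (.node 39718 (.node 35066 (.node 32590 (.node 31994 (.node 31574 (.node 31373 (.leaf 33898) (.leaf 48802)) (.node 31886 (.leaf 60) (.node 31970 (.leaf 43362) (.leaf 33906)))) 
 (.node 32229 (.node 32077 (.leaf 1091108) (.leaf 62920)) (.node 32474 (.leaf 50600) (.node 32505 (.leaf 2553) (.leaf 1090930))))) (.node 33511 (.node 32716 (.node 32708 (.leaf 2239) (.leaf 52768)) (.node 33037 (.leaf 48778) (.node 33338 (.leaf 37) (.leaf 1658)))) 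
 (.node 34100 (.node 33654 (.leaf 69) (.node 33945 (.leaf 1380) (.leaf 50))) (.node 34247 (.leaf 127) (.node 35048 (.leaf 33914) (.leaf 511)))))) (.node 37486 (.node 35533 (.node 35285 (.node 35230 (.leaf 47536) (.leaf 62434)) (.node 35341 (.leaf 1439538) (.node 35509 (.leaf 339) (.leaf 48228)))) 
 (.node 36011 (.node 35681 (.leaf 1090936) (.node 35747 (.leaf 48646) (.leaf 43130))) (.node 36897 (.leaf 50802) (.node 37355 (.leaf 49012) (.leaf 1386))))) (.node 38186 (.node 37757 (.node 37491 (.leaf 39) (.leaf 62558)) (.node 37971 (.leaf 1588) (.node 38017 (.leaf 1578) (.leaf 47420)))) 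
 (.node 38783 (.node 38264 (.leaf 54758) (.node 38733 (.leaf 47012) (.leaf 759))) (.node 38821 (.leaf 43498) (.node 39633 (.leaf 1799) (.leaf 62788))))))) (.node 45200 (.node 42917 (.node 41239 (.node 39896 (.node 39801 (.leaf 1453) (.leaf 1694)) (.node 40664 (.leaf 50782) (.node 41009 (.leaf 167) (.leaf 1950)))) 
 (.node 41566 (.node 41298 (.leaf 33904) (.leaf 44534)) (.node 41923 (.leaf 48446) (.node 42584 (.leaf 54696) (.leaf 44982))))) (.node 43734 (.node 43205 (.node 42941 (.leaf 1411486) (.leaf 49578)) (.node 43295 (.leaf 47032) (.node 43361 (.leaf 34104) (.leaf 33902)))) 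
 (.node 44570 (.node 43770 (.leaf 49028) (.node 44329 (.leaf 48502) (.leaf 48552))) (.node 44629 (.leaf 571) (.node 44788 (.leaf 59) (.leaf 44132)))))) (.node 47314 (.node 45709 (.node 45402 (.node 45384 (.leaf 4319) (.leaf 2273)) (.node 45584 (.leaf 1710) (.node 45677 (.leaf 16251) (.leaf 8571)))) 
 (.node 46078 (.node 45750 (.leaf 48432) (.node 45850 (.leaf 1412034) (.leaf 1526))) (.node 46211 (.leaf 1379700) (.node 46378 (.leaf 1207) (.leaf 1596))))) (.node 48278 (.node 47851 (.node 47490 (.leaf 1594) (.leaf 493)) (.node 47924 (.leaf 54946) (.node 48107 (.leaf 43108) (.leaf 48776)))) 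
 (.node 49011 (.node 48379 (.leaf 46636) (.node 48806 (.leaf 54752) (.leaf 44192))) (.node 49054 (.leaf 43102) (.node 49291 (.leaf 1530) (.leaf 749)))))))) (.node 57300 (.node 52856 (.node 50967 (.node 50390 (.node 50066 (.node 49444 (.leaf 1085086) (.leaf 48434)) (.node 50190 (.leaf 1084788) (.node 50245 (.leaf 1516) (.leaf 575)))) 
 (.node 50755 (.node 50722 (.leaf 50856) (.leaf 33916)) (.node 50910 (.leaf 50498) (.node 50947 (.leaf 48702) (.leaf 3897))))) (.node 51893 (.node 51229 (.node 51000 (.leaf 1706) (.leaf 2017)) (.node 51448 (.leaf 46390) (.node 51508 (.leaf 3041) (.leaf 48866)))) 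
 (.node 52556 (.node 52396 (.leaf 551) (.node 52455 (.leaf 1084792) (.leaf 62832))) (.node 52624 (.leaf 44294) (.node 52804 (.leaf 3319) (.leaf 48800)))))) (.node 54814 (.node 53602 (.node 53426 (.node 52995 (.leaf 54600) (.leaf 1642)) (.node 53450 (.leaf 52810) (.node 53453 (.leaf 3067) (.leaf 34102)))) 
 (.node 54339 (.node 53959 (.leaf 15) (.node 54038 (.leaf 52600) (.leaf 1540))) (.node 54676 (.leaf 48254) (.node 54719 (.leaf 44984) (.leaf 57))))) (.node 56496 (.node 55541 (.node 55042 (.leaf 1380210) (.leaf 481)) (.node 56247 (.leaf 44360) (.node 56376 (.leaf 43194) (.leaf 50976)))) 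
 (.node 57045 (.node 56627 (.leaf 48386) (.node 56789 (.leaf 1974) (.leaf 287))) (.node 57235 (.leaf 1460) (.node 57250 (.leaf 1776) (.leaf 1916))))))) (.node 62367 (.node 59573 (.node 58600 (.node 57733 (.node 57373 (.leaf 2617) (.leaf 131)) (.node 57750 (.leaf 8569) (.node 57871 (.leaf 101) (.leaf 48740)))) 
 (.node 58828 (.node 58716 (.leaf 46392) (.leaf 48592)) (.node 59034 (.leaf 1396) (.node 59280 (.leaf 1085028) (.leaf 50626))))) (.node 60811 (.node 60154 (.node 59668 (.leaf 97) (.leaf 8319)) (.node 60536 (.leaf 62836) (.node 60546 (.leaf 83) (.leaf 3295)))) 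
 (.node 61987 (.node 61257 (.leaf 62576) (.node 61474 (.leaf 48550) (.leaf 1456))) (.node 62052 (.leaf 1374) (.node 62297 (.leaf 1976) (.leaf 47532)))))) (.node 66619 (.node 63944 (.node 62912 (.node 62715 (.leaf 48580) (.leaf 1785)) (.node 63148 (.leaf 49062) (.node 63879 (.leaf 43120) (.leaf 50798)))) 
 (.node 65535 (.node 64413 (.leaf 54798) (.node 64946 (.leaf 4069) (.leaf 52588))) (.node 65827 (.leaf 63012) (.node 66178 (.leaf 19) (.leaf 50676))))) (.node 67508 (.node 66943 (.node 66822 (.leaf 43614) (.leaf 1379874)) (.node 67173 (.leaf 50544) (.node 67463 (.leaf 1384) (.leaf 50878)))) 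
 (.node 68041 (.node 67721 (.leaf 48650) (.node 67813 (.leaf 43124) (.leaf 1085022))) (.node 68535 (.leaf 34092) (.node 68603 (.leaf 48242) (.leaf 43516)))))))))) (.node 98977 (.node 83488 (.node 75727 (.node 72522 (.node 70015 (.node 69052 (.node 68817 (.node 68773 (.leaf 1650) (.leaf 1826)) (.node 68949 (.leaf 3) (.node 68996 (.leaf 635) (.leaf 43260)))) 
 (.node 69382 (.node 69103 (.leaf 1400) (.leaf 52678)) (.node 69508 (.leaf 507) (.node 69815 (.leaf 1962) (.leaf 1791))))) (.node 71227 (.node 70683 (.node 70597 (.leaf 1471) (.leaf 1)) (.node 70710 (.leaf 2179) (.node 71075 (.leaf 1514) (.leaf 1484)))) 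
 (.node 71624 (.node 71441 (.leaf 8699) (.node 71517 (.leaf 1439154) (.leaf 52546))) (.node 71845 (.leaf 34108) (.node 72386 (.leaf 53026) (.leaf 47034)))))) (.node 74503 (.node 73084 (.node 72671 (.node 72652 (.leaf 301) (.leaf 50850)) (.node 72864 (.leaf 4415) (.node 72983 (.leaf 1902) (.leaf 1584)))) 
 (.node 73375 (.node 73085 (.leaf 1774) (.node 73350 (.leaf 48680) (.leaf 44030))) (.node 73716 (.leaf 43626) (.node 74385 (.leaf 54880) (.leaf 767))))) (.node 75048 (.node 74644 (.node 74541 (.leaf 56876) (.leaf 56)) (.node 74649 (.leaf 47402) (.node 75028 (.leaf 2279) (.leaf 50800)))) 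
 (.node 75433 (.node 75120 (.leaf 48104) (.node 75274 (.leaf 1404) (.leaf 42))) (.node 75555 (.leaf 44510) (.node 75644 (.leaf 46558) (.leaf 48672))))))) (.node 79682 (.node 76695 (.node 76001 (.node 75765 (.node 75755 (.leaf 50552) (.leaf 1520)) (.node 75856 (.leaf 1646) (.node 75898 (.leaf 47534) (.leaf 3781)))) 
 (.node 76053 (.node 76026 (.leaf 1513054) (.leaf 44382)) (.node 76267 (.leaf 1978) (.node 76688 (.leaf 48222) (.leaf 639))))) (.node 77864 (.node 76768 (.node 76716 (.leaf 2465) (.leaf 313)) (.node 77459 (.leaf 2343) (.node 77495 (.leaf 1379662) (.leaf 965)))) 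
 (.node 79394 (.node 78700 (.leaf 3259) (.node 79076 (.leaf 34096) (.leaf 48422))) (.node 79406 (.leaf 2233) (.node 79487 (.leaf 54606) (.leaf 44728)))))) (.node 81272 (.node 80605 (.node 79929 (.node 79874 (.leaf 11) (.leaf 48234)) (.node 80390 (.leaf 46394) (.node 80502 (.leaf 43114) (.leaf 50550)))) 
 (.node 80940 (.node 80646 (.leaf 44588) (.node 80913 (.leaf 365) (.leaf 8953))) (.node 80962 (.leaf 1516914) (.node 81195 (.leaf 10207) (.leaf 267))))) (.node 82274 (.node 81785 (.node 81675 (.leaf 1378) (.leaf 505)) (.node 82064 (.leaf 51082) (.node 82095 (.leaf 1058) (.leaf 279)))) 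
 (.node 82963 (.node 82474 (.leaf 1838) (.node 82510 (.leaf 6119) (.leaf 44198))) (.node 83094 (.leaf 73) (.node 83461 (.leaf 3205) (.leaf 261)))))))) (.node 91135 (.node 87431 (.node 84938 (.node 84271 (.node 83626 (.node 83623 (.leaf 151) (.leaf 48096)) (.node 84078 (.leaf 1506) (.node 84227 (.leaf 44158) (.leaf 44388)))) 
 (.node 84380 (.node 84292 (.leaf 1644) (.leaf 49328)) (.node 84401 (.leaf 1915) (.node 84486 (.leaf 47348) (.leaf 50978))))) (.node 85659 (.node 85266 (.node 85138 (.leaf 48692) (.leaf 1085090)) (.node 85532 (.leaf 52770) (.node 85586 (.leaf 1480) (.leaf 1720)))) 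
 (.node 86232 (.node 85959 (.leaf 44454) (.node 86198 (.leaf 44162) (.leaf 47030))) (.node 86453 (.leaf 48496) (.node 87228 (.leaf 1085092) (.leaf 47272)))))) (.node 89412 (.node 88390 (.node 87893 (.node 87489 (.leaf 1586) (.leaf 383)) (.node 87914 (.leaf 63202) (.node 88012 (.leaf 55174) (.leaf 95)))) 
 (.node 88775 (.node 88613 (.leaf 1580) (.node 88726 (.leaf 1091166) (.leaf 48742))) (.node 89258 (.leaf 33900) (.node 89259 (.leaf 1247) (.leaf 44102))))) (.node 89828 (.node 89557 (.node 89477 (.leaf 145) (.leaf 52900)) (.node 89569 (.leaf 1084964) (.node 89598 (.leaf 32) (.leaf 49008)))) 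
 (.node 90589 (.node 89895 (.leaf 52836) (.node 90038 (.leaf 1448) (.leaf 351))) (.node 90775 (.leaf 521) (.node 90951 (.leaf 52642) (.leaf 9613))))))) (.node 94693 (.node 93170 (.node 91839 (.node 91276 (.node 91256 (.leaf 46572) (.leaf 47284)) (.node 91493 (.leaf 329) (.node 91561 (.leaf 315) (.leaf 119)))) 
 (.node 92600 (.node 92523 (.leaf 1778) (.leaf 48830)) (.node 92623 (.leaf 9607) (.node 93085 (.leaf 1474) (.leaf 1348))))) (.node 93751 (.node 93534 (.node 93289 (.leaf 1508) (.leaf 54)) (.node 93640 (.leaf 44006) (.node 93703 (.leaf 963) (.leaf 44000)))) 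
 (.node 94311 (.node 93933 (.leaf 52772) (.node 93950 (.leaf 1660) (.leaf 4371))) (.node 94436 (.leaf 1568) (.node 94537 (.leaf 48464) (.leaf 1417636)))))) (.node 96332 (.node 95466 (.node 94912 (.node 94883 (.leaf 43258) (.leaf 1968)) (.node 95068 (.leaf 48674) (.node 95364 (.leaf 49032) (.leaf 52830)))) 
 (.node 95930 (.node 95627 (.leaf 0) (.node 95835 (.leaf 1548) (.leaf 54602))) (.node 96223 (.leaf 48498) (.node 96322 (.leaf 1532) (.leaf 44716))))) (.node 97172 (.node 97143 (.node 96723 (.leaf 34090) (.leaf 1930)) (.node 97150 (.leaf 63010) (.node 97158 (.leaf 44012) (.leaf 52552)))) 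
 (.node 98353 (.node 97469 (.leaf 52896) (.node 98008 (.leaf 1770) (.leaf 1023))) (.node 98694 (.leaf 50622) (.node 98896 (.leaf 44470) (.leaf 43132))))))))) (.node 115536 (.node 107153 (.node 102861 (.node 100406 (.node 99384 (.node 99284 (.node 99002 (.leaf 52554) (.leaf 1418178)) (.node 99310 (.leaf 52192) (.node 99373 (.leaf 557) (.leaf 1029)))) 
 (.node 99947 (.node 99768 (.leaf 48416) (.leaf 43490)) (.node 100319 (.leaf 47346) (.node 100335 (.leaf 47282) (.leaf 48574))))) (.node 101713 (.node 101226 (.node 100475 (.leaf 50846) (.leaf 1476)) (.node 101315 (.leaf 52596) (.node 101469 (.leaf 50510) (.leaf 1831)))) 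
 (.node 102299 (.node 101819 (.leaf 183) (.node 101863 (.leaf 48504) (.leaf 44854))) (.node 102664 (.leaf 1714) (.node 102857 (.leaf 47406) (.leaf 503)))))) (.node 105029 (.node 103498 (.node 103008 (.node 102987 (.leaf 52782) (.leaf 1890)) (.node 103335 (.leaf 1418292) (.node 103382 (.leaf 48806) (.leaf 1722)))) 
 (.node 104537 (.node 103639 (.leaf 48804) (.node 103757 (.leaf 1630) (.leaf 44))) (.node 104726 (.leaf 44516) (.node 104924 (.leaf 1064) (.leaf 2221))))) (.node 105959 (.node 105380 (.node 105235 (.leaf 311) (.leaf 55154)) (.node 105431 (.leaf 47412) (.node 105550 (.leaf 48230) (.leaf 47408)))) 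
 (.node 106363 (.node 106099 (.leaf 319) (.node 106251 (.leaf 295) (.leaf 44726))) (.node 106400 (.leaf 567) (.node 106412 (.leaf 121) (.leaf 52898))))))) (.node 110500 (.node 108451 (.node 107875 (.node 107512 (.node 107203 (.leaf 191) (.leaf 1980)) (.node 107635 (.leaf 1834) (.node 107866 (.leaf 1411494) (.leaf 53108)))) 
 (.node 107978 (.node 107976 (.leaf 47548) (.leaf 1592)) (.node 107990 (.leaf 34100) (.node 108356 (.leaf 43644) (.leaf 52648))))) (.node 109167 (.node 108888 (.node 108740 (.leaf 49026) (.leaf 47338)) (.node 108978 (.leaf 1989) (.node 109124 (.leaf 77) (.leaf 44008)))) 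
 (.node 110140 (.node 109391 (.leaf 2527) (.node 109860 (.leaf 50656) (.leaf 2215))) (.node 110228 (.leaf 52832) (.node 110356 (.leaf 1362) (.leaf 1524)))))) (.node 112927 (.node 111794 (.node 111041 (.node 110502 (.leaf 52788) (.leaf 50512)) (.node 111099 (.leaf 81) (.node 111235 (.leaf 62786) (.leaf 1414210)))) 
 (.node 112491 (.node 111873 (.leaf 1898) (.node 112191 (.leaf 44134) (.leaf 545))) (.node 112657 (.leaf 1445) (.node 112740 (.leaf 49518) (.leaf 1972))))) (.node 113617 (.node 113359 (.node 113228 (.leaf 44662) (.leaf 43358)) (.node 113418 (.leaf 48798) (.node 113562 (.leaf 43618) (.leaf 43386)))) 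
 (.node 113918 (.node 113683 (.leaf 47344) (.node 113740 (.leaf 1197) (.leaf 47356))) (.node 114091 (.leaf 1084834) (.node 114476 (.leaf 44460) (.leaf 50804)))))))) (.node 123892 (.node 119716 (.node 118046 (.node 117148 (.node 116098 (.node 115901 (.leaf 45) (.leaf 581)) (.node 116128 (.leaf 62) (.node 117009 (.leaf 103) (.leaf 54770)))) 
 (.node 117579 (.node 117408 (.leaf 1358) (.leaf 44300)) (.node 117999 (.leaf 1656) (.node 118010 (.leaf 1970) (.leaf 2303))))) (.node 118909 (.node 118375 (.node 118339 (.leaf 46764) (.leaf 763)) (.node 118528 (.leaf 47278) (.node 118629 (.leaf 52594) (.leaf 49056)))) 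
 (.node 119302 (.node 119156 (.leaf 1478) (.node 119159 (.leaf 33910) (.leaf 48584))) (.node 119466 (.leaf 1825) (.node 119496 (.leaf 631) (.leaf 54644)))))) (.node 122875 (.node 120967 (.node 120545 (.node 120041 (.leaf 44972) (.leaf 1015)) (.node 120619 (.leaf 48462) (.node 120761 (.leaf 48734) (.leaf 50848)))) 
 (.node 121956 (.node 121361 (.leaf 379) (.node 121614 (.leaf 48676) (.leaf 2039))) (.node 122283 (.leaf 1765) (.node 122401 (.leaf 1718) (.leaf 43368))))) (.node 123358 (.node 123075 (.node 122963 (.leaf 1570) (.leaf 31)) (.node 123082 (.leaf 34098) (.node 123309 (.leaf 44126) (.leaf 269)))) 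
 (.node 123575 (.node 123424 (.leaf 1157) (.node 123571 (.leaf 48120) (.leaf 5))) (.node 123582 (.leaf 46648) (.node 123840 (.leaf 52838) (.leaf 1380000))))))) (.node 128906 (.node 126008 (.node 124790 (.node 124336 (.node 124056 (.leaf 4089) (.leaf 48548)) (.node 124376 (.leaf 1379702) (.node 124397 (.leaf 53158) (.leaf 58)))) 
 (.node 125211 (.node 124979 (.leaf 52986) (.leaf 44652)) (.node 125533 (.leaf 2535) (.node 125787 (.leaf 47410) (.leaf 185))))) (.node 127452 (.node 126892 (.node 126547 (.leaf 9997) (.leaf 50500)) (.node 126918 (.leaf 1394) (.node 127306 (.leaf 48240) (.leaf 54878)))) 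
 (.node 128186 (.node 128021 (.leaf 44108) (.node 128057 (.leaf 54640) (.leaf 46))) (.node 128698 (.leaf 55010) (.node 128729 (.leaf 44318) (.leaf 1654)))))) (.node 130002 (.node 129544 (.node 129218 (.node 128934 (.leaf 139) (.leaf 43106)) (.node 129255 (.leaf 1450) (.node 129301 (.leaf 1852) (.leaf 44350)))) 
 (.node 129635 (.node 129547 (.leaf 44216) (.node 129561 (.leaf 47280) (.leaf 1735))) (.node 129765 (.leaf 1412236) (.node 129847 (.leaf 1652) (.leaf 1388))))) (.node 130509 (.node 130171 (.node 130120 (.leaf 47290) (.leaf 159)) (.node 130427 (.leaf 123) (.node 130504 (.leaf 71) (.leaf 49030)))) 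
 (.node 130602 (.node 130545 (.leaf 1091172) (.node 130589 (.leaf 1572) (.leaf 47342))) (.node 130767 (.leaf 4373) (.node 130780 (.leaf 63) (.leaf 49086)))))))))))

def cA : ℕ := 0x9f3249a90040bb86a8934ea3208ba594194c81cbc26d2f72d64b81611e298df7bf3a3f09a34b08e0cab7d6b353550194f69e23f06442c5d318b46d0b207033a99a5bcc192ae6933ec360e9a2982db0a5a0000010e2b6cfa2fae7534b1c9e5723d384

def cB : ℕ := 0xa457e4d098f7d0ed5e9f41dfb6d645c378db4e5a6a1df9e566e87df0fc80958b0cdce9cbb633a66f6e81f46058a05722146fda93a9e98a6eb0ca97675085b2c76dce8db42fe7cd1004c9f9de89e18d7fcac3ef97087058fc362c8df9c1c9009c795c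

noncomputable def cls (lt : List ℕ) (y : ℕ) (fl : Bool) : Bool :=
  force (tb.get (Nat.mod y 131073)) fun c => force (pword o28 lt 16 (Nat.shiftRight c 1) o28.one) fun u =>
    sel (Nat.beq (Nat.land c 1) 0) (o28.cj u y cA) (band fl (o28.cj u y cB))

noncomputable def chk (lt : List ℕ) (g1 g2 g3 x : ℕ) : Bool :=
  band (force (o28.mul x x) fun y => sel (o28.isOne y) (bor (o28.isOne x) (cls lt x true))
      (bimp (o28.isOne (o28.mul y y)) (cls lt y false)))
    (bimp (o28.comm x g2) (bimp (o28.comm x g1) (bimp (o28.comm x g3) (bor (o28.isOne x) (o28.eqv x cA)))))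

noncomputable def chkAt (k a : ℕ) : Bool :=
  enumA o28 (chk lt (nth d2_g 1) (nth d2_g 2) (nth d2_g 3)) ((List.range' (k + 1) (14 - k)).map (nth d2_g)) a

theorem chk0 : chkAt 1 o28.one = true := by decide +kernel

theorem chk1 : chkAt 1 (o28.mul o28.one (nth d2_g 1)) = true := by decide +kernel

theorem chk_all : chkAt 0 o28.one = true := by
  show band (chkAt 1 o28.one) (chkAt 1 (o28.mul o28.one (nth d2_g 1))) = true
  rw [chk0, chk1]; rfl

end H10.Std.Ru
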