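import Cfsg.Agent.Lib.Std.He1
import Cfsg.Agent.Lib.ClGeo.F4
import Cfsg.Agent.Lib.LocStruct.SylowIn

/-! Standard subgroups `L₃(4)`, part 1: coordinates on a Sylow 2-subgroup. -/

set_option autoImplicit false
set_option maxRecDepth 100000
set_option synthInstance.maxSize 100000

namespace H10.Sz
open H69 Subgroup
open H30 (F4)
open H10.HeS (T2)

instance (priority := high) decAllF4 (P : F4 → Prop) [DecidablePred P] : Decidable (∀ x, P x) :=
  decidable_of_iff _ F4.forall_iff.symm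

instance (priority := high) decExF4 (P : F4 → Prop) [DecidablePred P] : Decidable (∃ x, P x) :=
  decidable_of_iff (P 0 ∨ P 1 ∨ P F4.w ∨ P F4.v) ⟨by rintro (h | h | h | h) <;> exact ⟨_, h⟩, by
    rintro ⟨x, h⟩; cases x; exacts [.inl h, .inr (.inl h), .inr (.inr (.inl h)), .inr (.inr (.inr h))]⟩

scoped notation "ω" => H30.F4.w
scoped notation "ϖ" => H30.F4.v

theorem aa (x : F4) : x + x = 0 := by revert x; decide
theorem aa' (x y : F4) : x + (x + y) = y := by revert x y; decide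
theorem ae {x y : F4} : x + y = 0 ↔ x = y := by revert x y; decide
theorem cas (x : F4) : x = 0 ∨ x = 1 ∨ x = ω ∨ x = ϖ := by revert x; decide

/-- additive maps are sums of a linear and a semilinear part -/
theorem add_form (f : F4 → F4) (h : ∀ x y, f (x + y) = f x + f y) :
    ∃ α β, ∀ x, f x = α * x + β * (x * x) := by
  have h0 : f 0 = 0 := by simpa [aa] using h 0 0
  have h3 : f ϖ = f 1 + f ω := h 1 ω
  obtain ⟨α, β, h1, h2, h4⟩ := (by decide : ∀ a b : F4, ∃ α β : F4, a = α * 1 + β * (1 * 1) ∧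
    b = α * ω + β * (ω * ω) ∧ a + b = α * ϖ + β * (ϖ * ϖ)) (f 1) (f ω)
  exact ⟨α, β, F4.forall_iff.2 ⟨by simp [h0], h1, h2, h3.trans h4⟩⟩

/-- the Frobenius map or the identity -/
def th (f : Bool) (x : F4) : F4 := if f then x * x else x
/-- first coordinate of the image -/
def c1 (s f : Bool) (l m x a : F4) : F4 := if s then m * th f a else l * th f x
/-- second coordinate of the image -/
def c2 (s f : Bool) (l m x a : F4) : F4 := if s then l * th f x else m * th f a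

theorem pigeon {A B C : Type*} [AddCommGroup A] [Fintype A] (P : A → Prop) (τ : A → B) (c : A → C)
    (S : Finset B) (F : Finset C) (h1 : ∀ u u', τ u = τ u' → P (u - u'))
    (h2 : ∀ u u', P u → P u' → c u = c u' → u = u') (h3 : ∀ u, τ u ∈ S) (h4 : ∀ u, P u → c u ∈ F) :
    Fintype.card A ≤ S.card * F.card := by
  classical
  let ρ : A → A := fun u => Function.invFun τ (τ u)
  have hρ : ∀ u, τ (ρ u) = τ u := fun u => Function.invFun_eq ⟨u, rfl⟩
  rw [← Finset.card_product, ← Finset.card_univ]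
  refine Finset.card_le_card_of_injOn (fun u => (τ u, c (u - ρ u))) (fun u _ =>
    Finset.mem_coe.2 (Finset.mem_product.2 ⟨h3 u, h4 _ (h1 _ _ (hρ u).symm)⟩)) fun u _ v _ e => ?_
  obtain ⟨e1, e2⟩ := Prod.ext_iff.1 e
  have := h2 _ _ (h1 _ _ (hρ u).symm) (h1 _ _ (hρ v).symm) e2
  simp only at e1
  rw [show ρ u = ρ v by simp only [ρ, e1]] at this
  exact sub_left_injective this

/-- coordinates on a group of order 64 -/
structure Pm (G : Type*) [Group G] where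
  p : F4 → F4 → F4 → G
  mul : ∀ x a e x' a' e', p x a e * p x' a' e' = p (x + x') (a + a') (e + e' + a * x')
  inj : ∀ x a e, p x a e = 1 → x = 0 ∧ a = 0 ∧ e = 0

variable {G : Type*} [Group G]

namespace Pm
variable (X : Pm G)

theorem p_zero : X.p 0 0 0 = 1 := by
  have := X.mul 0 0 0 0 0 0
  simpa using this

theorem p_inv (x a e : F4) : (X.p x a e)⁻¹ = X.p x a (e + a * x) :=
  inv_eq_of_mul_eq_one_right (by rw [X.mul, aa, aa, aa', aa, p_zero])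

theorem p_inj {x a e x' a' e' : F4} (h : X.p x a e = X.p x' a' e') : x = x' ∧ a = a' ∧ e = e' := by
  have := mul_inv_eq_one.2 h
  rw [p_inv, X.mul] at this
  obtain ⟨h1, h2, h3⟩ := X.inj _ _ _ this
  obtain rfl := ae.1 h1
  obtain rfl := ae.1 h2
  exact ⟨rfl, rfl, by clear * - h3; decide +revert⟩

theorem p_eq {x a e x' a' e' : F4} : X.p x a e = X.p x' a' e' ↔ x = x' ∧ a = a' ∧ e = e' :=
  ⟨X.p_inj, by rintro ⟨rfl, rfl, rfl⟩; rfl⟩

theorem p_one {x a e : F4} : X.p x a e = 1 ↔ x = 0 ∧ a = 0 ∧ e = 0 := by rw [← X.p_zero, p_eq]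

theorem p_conj (x a e x' a' e' : F4) :
    X.p x a e * X.p x' a' e' * (X.p x a e)⁻¹ = X.p x' a' (e' + a * x' + a' * x) := by
  rw [p_inv, X.mul, X.mul, p_eq]
  revert x a e x' a' e'; decide

theorem p_sq (x a e : F4) : X.p x a e * X.p x a e = X.p 0 0 (a * x) := by
  rw [X.mul, aa, aa, aa, zero_add]

theorem p_comm {x a e x' a' e' : F4} :
    X.p x a e * X.p x' a' e' = X.p x' a' e' * X.p x a e ↔ a * x' = a' * x := by
  rw [X.mul, X.mul, p_eq]
  simp [add_comm]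

theorem z_mul (e x a e' : F4) : X.p 0 0 e * X.p x a e' = X.p x a (e + e') := by simp [X.mul]
theorem mul_z (x a e e' : F4) : X.p x a e * X.p 0 0 e' = X.p x a (e + e') := by simp [X.mul]
theorem z_comm (e x a e' : F4) : X.p 0 0 e * X.p x a e' = X.p x a e' * X.p 0 0 e := by
  rw [z_mul, mul_z, add_comm]
theorem z_inv (e : F4) : (X.p 0 0 e)⁻¹ = X.p 0 0 e := by simp [p_inv]
theorem z_sq (e : F4) : X.p 0 0 e * X.p 0 0 e = 1 := by simp [p_sq, p_zero]
theorem v_mul (x e x' e' : F4) : X.p x 0 e * X.p x' 0 e' = X.p (x + x') 0 (e + e') := by simp [X.mul]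
theorem v_inv (x e : F4) : (X.p x 0 e)⁻¹ = X.p x 0 e := by simp [p_inv]
theorem v_sq (x e : F4) : X.p x 0 e * X.p x 0 e = 1 := by simp [p_sq, p_zero]
theorem w_mul (a e a' e' : F4) : X.p 0 a e * X.p 0 a' e' = X.p 0 (a + a') (e + e') := by simp [X.mul]
theorem w_inv (a e : F4) : (X.p 0 a e)⁻¹ = X.p 0 a e := by simp [p_inv]
theorem w_sq (a e : F4) : X.p 0 a e * X.p 0 a e = 1 := by simp [p_sq, p_zero]
theorem dec (x a e : F4) : X.p x a e = X.p x 0 0 * X.p 0 a 0 * X.p 0 0 e := by simp [X.mul]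
theorem z_ne {e : F4} (h : e ≠ 0) : X.p 0 0 e ≠ 1 := fun k => h (X.inj _ _ _ k).2.2

theorem t2 (x a e : F4) : T2 (X.p x a e) :=
  ⟨2, by rw [show 2 ^ 2 = 2 * 2 from rfl, pow_mul, sq, sq, p_sq, z_sq]⟩

/-- the whole group -/
def T : Subgroup G where
  carrier := {g | ∃ x a e, g = X.p x a e}
  mul_mem' := by rintro _ _ ⟨x, a, e, rfl⟩ ⟨x', a', e', rfl⟩; exact ⟨_, _, _, X.mul ..⟩
  one_mem' := ⟨0, 0, 0, X.p_zero.symm⟩
  inv_mem' := by rintro _ ⟨x, a, e, rfl⟩; exact ⟨_, _, _, X.p_inv ..⟩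

/-- the centre -/
def Z : Subgroup G where
  carrier := {g | ∃ e, g = X.p 0 0 e}
  mul_mem' := by rintro _ _ ⟨e, rfl⟩ ⟨e', rfl⟩; exact ⟨_, X.z_mul ..⟩
  one_mem' := ⟨0, X.p_zero.symm⟩
  inv_mem' := by rintro _ ⟨e, rfl⟩; exact ⟨_, X.z_inv _⟩

theorem p_T (x a e : F4) : X.p x a e ∈ X.T := ⟨_, _, _, rfl⟩
theorem z_Z (e : F4) : X.p 0 0 e ∈ X.Z := ⟨_, rfl⟩
theorem Z_T : X.Z ≤ X.T := by rintro _ ⟨e, rfl⟩; exact X.p_T ..
theorem isP_T : IsPGroup 2 X.T := isPGroup_iff_mem.2 (by rintro _ ⟨x, a, e, rfl⟩; exact X.t2 ..)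

/-- the two sides exchanged -/
def swap : Pm G where
  p x a e := X.p a x (e + a * x)
  mul x a e x' a' e' := by rw [X.mul, p_eq]; revert x a e x' a' e'; decide
  inj x a e h := by
    obtain ⟨rfl, rfl, h⟩ := X.inj _ _ _ h
    simpa using h

theorem swap_p (x a e : F4) : X.swap.p x a e = X.p a x (e + a * x) := rfl
theorem swap_T : X.swap.T = X.T := by
  ext g
  exact ⟨fun ⟨_, _, _, h⟩ => ⟨_, _, _, h⟩, fun ⟨x, a, e, h⟩ =>
    ⟨a, x, e + x * a, by rw [h, swap_p, add_assoc, aa, add_zero]⟩⟩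

/-- the conjugate coordinates -/
def cj (g : G) : Pm G where
  p x a e := g * X.p x a e * g⁻¹
  mul x a e x' a' e' := by rw [← X.mul]; group
  inj x a e h := X.inj _ _ _ (by simpa using h)

theorem cj_T (g : G) : (X.cj g).T = X.T ^ᶜ g := by
  ext y
  rw [mem_cj']
  exact ⟨fun ⟨_, _, _, h⟩ => ⟨_, X.p_T .., h⟩, fun ⟨_, ⟨_, _, _, h⟩, k⟩ => ⟨_, _, _, h ▸ k⟩⟩

/-- the action of an element normalising the group -/
structure Act (y : G) (s f : Bool) (l m : F4) : Prop where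
  l0 : l ≠ 0
  m0 : m ≠ 0
  t : ∀ x a e, ∃ e', y * X.p x a e * y⁻¹ = X.p (c1 s f l m x a) (c2 s f l m x a) e'
  z : ∀ e, y * X.p 0 0 e * y⁻¹ = X.p 0 0 (l * m * th f e)

variable {X}

theorem cm_of {y : G} {x a e x' a' e' u b c u' b' c' : F4} (h : y * X.p x a e * y⁻¹ = X.p u b c)
    (h' : y * X.p x' a' e' * y⁻¹ = X.p u' b' c') :
    y * X.p 0 0 (a * x' + a' * x) * y⁻¹ = X.p 0 0 (b * u' + b' * u) := by
  have k : ∀ x a e x' a' e', X.p 0 0 (a * x' + a' * x) =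
      X.p x a e * X.p x' a' e' * (X.p x a e)⁻¹ * (X.p x' a' e')⁻¹ := fun x a e x' a' e' => by
    rw [p_conj, p_inv, X.mul, p_eq]; revert x a x' a' e'; decide
  rw [k x a e x' a' e', k u b c u' b' c', ← h, ← h']; group

theorem mul_of {y : G} {x a e x' a' e' u b c u' b' c' : F4} (h : y * X.p x a e * y⁻¹ = X.p u b c)
    (h' : y * X.p x' a' e' * y⁻¹ = X.p u' b' c') :
    y * X.p (x + x') (a + a') (e + e' + a * x') * y⁻¹ = X.p (u + u') (b + b') (c + c' + b * u') := by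
  rw [← X.mul, ← X.mul, ← h, ← h']; group

theorem act_of {y : G} (h : ∀ x a e, y * X.p x a e * y⁻¹ ∈ X.T) : ∃ s f l m, X.Act y s f l m := by
  obtain ⟨x1, a1, e1, h1⟩ := h 1 0 0
  obtain ⟨x2, a2, e2, h2⟩ := h ω 0 0
  obtain ⟨x3, a3, e3, h3⟩ := h 0 1 0
  obtain ⟨x4, a4, e4, h4⟩ := h 0 ω 0
  have sq : ∀ {x a e u b c}, y * X.p x a e * y⁻¹ = X.p u b c → a * x = 0 → b * u = 0 := fun {x a e u b c} k k' => by
    have : X.p u b c * X.p u b c = 1 := by
      rw [← k, conj_mul, p_sq, k', p_zero]; group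
    rw [p_sq] at this
    exact (X.inj _ _ _ this).2.2
  have ne : ∀ {e c}, y * X.p 0 0 e * y⁻¹ = X.p 0 0 c → e ≠ 0 → c ≠ 0 := fun {e c} k k' q =>
    X.z_ne k' (by rw [q, p_zero] at k; simpa using k)
  have z1 := cm_of h1 h3
  have z2 := cm_of h2 h3
  have z2' := cm_of h1 h4
  have z3 := cm_of h2 h4
  have h12 := mul_of h1 h2
  have h34 := mul_of h3 h4
  have z12 := mul_of z1 z2
  simp only [zero_mul, mul_one, zero_add, add_zero, one_mul, mul_zero] at z1 z2 z2' z3 h12 h34 z12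
  obtain ⟨s, f, l, m, l0, m0, ⟨rfl, rfl⟩, ⟨rfl, rfl⟩, ⟨rfl, rfl⟩, rfl, rfl⟩ :=
    (by decide +kernel : ∀ x1 a1, a1 * x1 = 0 → ∀ x2 a2, a2 * x2 = 0 →
    (a1 + a2) * (x1 + x2) = 0 → ∀ x3 a3, a3 * x3 = 0 → a1 * x3 + a3 * x1 ≠ 0 → a2 * x3 + a3 * x2 ≠ 0 →
    ∀ x4 a4 : F4, a4 * x4 = 0 → (a3 + a4) * (x3 + x4) = 0 → a2 * x3 + a3 * x2 = a1 * x4 + a4 * x1 →
    a2 * x4 + a4 * x2 ≠ 0 → a2 * x4 + a4 * x2 = a1 * x3 + a3 * x1 + (a2 * x3 + a3 * x2) →
    ∃ s f l m, l ≠ 0 ∧ m ≠ 0 ∧ (x1 = c1 s f l m 1 0 ∧ a1 = c2 s f l m 1 0) ∧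
      (x2 = c1 s f l m ω 0 ∧ a2 = c2 s f l m ω 0) ∧ (x3 = c1 s f l m 0 1 ∧ a3 = c2 s f l m 0 1) ∧
      x4 = c1 s f l m 0 ω ∧ a4 = c2 s f l m 0 ω) x1 a1 (sq h1 rfl) x2 a2 (sq h2 rfl) (sq h12 rfl) x3 a3
      (sq h3 rfl) (ne z1 (by decide)) (ne z2 (by decide)) x4 a4 (sq h4 rfl) (sq h34 rfl)
      (X.p_inj (z2.symm.trans z2')).2.2 (ne z3 (by decide)) (X.p_inj (z3.symm.trans z12)).2.2
  have hz : ∀ e, y * X.p 0 0 e * y⁻¹ = X.p 0 0 (l * m * th f e) := F4.forall_iff.2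
    ⟨by simp [th, p_zero], z1.trans (by congr 1; clear * -; decide +revert),
      z2.trans (by congr 1; clear * -; decide +revert), z3.trans (by congr 1; clear * -; decide +revert)⟩
  have o : y * X.p 0 0 0 * y⁻¹ = X.p 0 0 0 := by simp [p_zero]
  have hv : ∀ x, ∃ e', y * X.p x 0 0 * y⁻¹ = X.p (c1 s f l m x 0) (c2 s f l m x 0) e' := F4.forall_iff.2
    ⟨⟨0, o.trans (by congr 1 <;> (clear * -; decide +revert))⟩, ⟨_, h1⟩, ⟨_, h2⟩,
      ⟨_, h12.trans (by congr 1 <;> (clear * -; decide +revert))⟩⟩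
  have hw : ∀ a, ∃ e', y * X.p 0 a 0 * y⁻¹ = X.p (c1 s f l m 0 a) (c2 s f l m 0 a) e' := F4.forall_iff.2
    ⟨⟨0, o.trans (by congr 1 <;> (clear * -; decide +revert))⟩, ⟨_, h3⟩, ⟨_, h4⟩,
      ⟨_, h34.trans (by congr 1 <;> (clear * -; decide +revert))⟩⟩
  refine ⟨s, f, l, m, l0, m0, fun x a e => ?_, hz⟩
  obtain ⟨_, k1⟩ := hv x
  obtain ⟨_, k2⟩ := hw a
  have := mul_of (mul_of k1 k2) (hz e)
  simp only [zero_mul, zero_add, add_zero, mul_zero] at this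
  exact ⟨_, this.trans (by congr 1 <;> (clear * -; decide +revert +kernel))⟩

namespace Act
variable {y y' : G} {s f s' f' : Bool} {l m l' m' : F4}

theorem mul (h : X.Act y s f l m) (h' : X.Act y' s' f' l' m') : X.Act (y * y') (s ^^ s') (f ^^ f')
    ((if s' then m else l) * th f l') ((if s' then l else m) * th f m') := by
  have nz : ∀ (s f : Bool) (l m u : F4), l ≠ 0 → m ≠ 0 → u ≠ 0 → (if s then l else m) * th f u ≠ 0 := by decide
  refine ⟨nz _ _ _ _ _ h.m0 h.l0 h'.l0, nz _ _ _ _ _ h.l0 h.m0 h'.m0, fun x a e => ?_, fun e => ?_⟩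
  · obtain ⟨e', k⟩ := h'.t x a e
    obtain ⟨e'', k'⟩ := h.t (c1 s' f' l' m' x a) (c2 s' f' l' m' x a) e'
    refine ⟨e'', ?_⟩
    rw [mul_inv_rev, show y * y' * X.p x a e * (y'⁻¹ * y⁻¹) = y * (y' * X.p x a e * y'⁻¹) * y⁻¹ by group, k, k']
    congr 1 <;> (clear * -; cases s <;> cases s' <;> simp only [c1, c2] <;> simp <;> decide +revert +kernel)
  · rw [mul_inv_rev, show y * y' * X.p 0 0 e * (y'⁻¹ * y⁻¹) = y * (y' * X.p 0 0 e * y'⁻¹) * y⁻¹ by group, h'.z, h.z]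
    congr 1; clear * -; revert s' f f' l m l' m' e; decide +kernel

theorem uniq (h : X.Act y s f l m) (h' : X.Act y s' f' l' m') : s = s' ∧ f = f' ∧ l = l' ∧ m = m' := by
  obtain ⟨_, h1⟩ := h.t 1 0 0
  obtain ⟨_, h2⟩ := h.t ω 0 0
  obtain ⟨_, h3⟩ := h.t 0 1 0
  obtain ⟨_, k1⟩ := h'.t 1 0 0
  obtain ⟨_, k2⟩ := h'.t ω 0 0
  obtain ⟨_, k3⟩ := h'.t 0 1 0
  obtain ⟨a1, a2, -⟩ := X.p_inj (h1.symm.trans k1)
  obtain ⟨a3, a4, -⟩ := X.p_inj (h2.symm.trans k2)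
  obtain ⟨a5, a6, -⟩ := X.p_inj (h3.symm.trans k3)
  have := h.l0
  clear h h' h1 h2 h3 k1 k2 k3
  revert s f s' f' l m l' m'; decide +kernel

theorem of_triv (h1 : ∀ x a e, ∃ e', y * X.p x a e * y⁻¹ = X.p x a e')
    (h2 : ∀ e, y * X.p 0 0 e * y⁻¹ = X.p 0 0 e) : X.Act y false false 1 1 :=
  ⟨one_ne_zero, one_ne_zero, by simpa [c1, c2, th] using h1, by simpa [th] using h2⟩

theorem triv (h : X.Act y false false 1 1) : (∀ x a e, ∃ e', y * X.p x a e * y⁻¹ = X.p x a e') ∧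
    ∀ e, y * X.p 0 0 e * y⁻¹ = X.p 0 0 e :=
  ⟨by simpa [c1, c2, th] using h.t, by simpa [th] using h.z⟩

theorem one : X.Act 1 false false 1 1 := of_triv (fun _ _ e => ⟨e, by simp⟩) (by simp)

theorem of_T (h : y ∈ X.T) : X.Act y false false 1 1 := by
  obtain ⟨x, a, e, rfl⟩ := h
  exact of_triv (fun _ _ _ => ⟨_, X.p_conj ..⟩) fun e' => by simp [p_conj]

theorem pow (h : X.Act y false false l m) (n : ℕ) : X.Act (y ^ n) false false (l ^ n) (m ^ n) := by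
  induction n with
  | zero => simpa using one
  | succ n ih => simpa [th, pow_succ] using ih.mul h

theorem cube (h : X.Act y false false l m) : X.Act (y ^ 3) false false 1 1 := by
  have := h.pow 3
  rwa [show l ^ 3 = 1 by have := h.l0; clear * - this; revert l; decide,
    show m ^ 3 = 1 by have := h.m0; clear * - this; revert m; decide] at this

theorem two (h : X.Act y false false l m) (t : T2 y) : l = 1 ∧ m = 1 := by
  obtain ⟨n, e⟩ := t
  obtain ⟨-, -, a, b⟩ := (h.pow (2 ^ n)).uniq (e ▸ one)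
  have k : ∀ u : F4, u ≠ 0 → u ^ 2 ^ n = 1 → u = 1 := fun u u0 e =>
    (pow_eq_one_iff_of_coprime (Nat.Coprime.pow_right n (by decide : Nat.Coprime 3 2))).1
      ⟨by clear * - u0; revert u; decide, e⟩
  exact ⟨k l h.l0 a, k m h.m0 b⟩

theorem norm [Finite G] (h : X.Act y s f l m) : y ∈ 𝐍(X.T) := mem_normalizer_of_cj_le fun _ hg => by
  obtain ⟨_, ⟨x, a, e, rfl⟩, rfl⟩ := mem_cj'.1 hg
  obtain ⟨_, k⟩ := h.t x a e
  exact k ▸ X.p_T ..

end Act

theorem act_of_norm {y : G} (h : y ∈ 𝐍(X.T)) : ∃ s f l m, X.Act y s f l m :=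
  act_of fun _ _ _ => conj_mem_of_mem_normalizer h (X.p_T ..)

end Pm

/-- a four-group in coordinates -/
def fam (a b : G) : F4 → G
  | .o => 1 | .i => a | .w => b | .v => a * b

theorem fam_add {a b : G} (h1 : a * a = 1) (h2 : b * b = 1) (h3 : a * b = b * a) (x y : F4) :
    fam a b (x + y) = fam a b x * fam a b y := by
  have a1 : ∀ u, a * (a * u) = u := fun u => by rw [← mul_assoc, h1, one_mul]
  have a2 : ∀ u, b * (a * u) = a * (b * u) := fun u => by rw [← mul_assoc, ← h3, mul_assoc]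
  cases x <;> cases y <;> simp [HAdd.hAdd, Add.add, F4.add, fam, mul_assoc, a1, a2, h1, h2, ← h3]

end H10.Sz
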