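import Cfsg.Agent.Lib.Std.Sz9

/-! Standard subgroups `L₃(4)`, part 10: the normaliser of `P` and a Sylow 2-subgroup. -/

set_option autoImplicit false
set_option maxRecDepth 100000
set_option synthInstance.maxSize 100000
set_option linter.unusedSectionVars false

namespace H10.Sz
open H69 Subgroup Cfsg
open H30 (F4)
open H10.HeS (T2)

/-- the action of an element fixing `V` and `W` -/
def ac (s f : Bool) (m μ : F4) (v : Vc) : Vc := (m * th f v.1, m * th f v.2.1,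
  m * (μ * μ) * th f (if s then v.2.2.2 else v.2.2.1), m * μ * th f (if s then v.2.2.1 else v.2.2.2))

variable {G : Type*} [Group G] [Finite G]

namespace Su
open Hy H1
variable {X : Su G}

theorem q_comm {v w : Vc} {e f : F4} : X.q v e * X.q w f = X.q w f * X.q v e ↔ bf v w + bf w v = 0 := by
  rw [← mul_inv_eq_iff_eq_mul, q_cj, q_eq]; simp
theorem Ac.ex {g : G} (h : g ∈ 𝐍(X.P)) : ∃ F, X.Ac g F := by
  choose F f q using fun v => conj_mem_of_mem_normalizer h (X.q_P v 0)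
  refine ⟨F, fun v e => ?_⟩
  obtain ⟨w, f', k⟩ := conj_mem_of_mem_normalizer h (X.q_P 0 e)
  obtain rfl : w = 0 := (by decide +kernel : ∀ w, (∀ u, bf w u + bf u w = 0) → w = 0) w fun u => by
    obtain ⟨_, _, a⟩ := conj_mem_of_mem_normalizer (inv_mem h) (X.q_P u 0)
    rw [← q_comm (X := X) (e := f') (f := 0), ← k, ← cjv a, inv_inv, conj_mul, conj_mul, zq, qz]
  exact ⟨_, by rw [← zero_add e, ← qz, cjs, q, k, qz]⟩
theorem Ac.cf {g : G} {F : Vc → Vc} (h : X.Ac g F) (v w : Vc) :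
    bf (F v) (F w) + bf (F w) (F v) = 0 ↔ bf v w + bf w v = 0 := by
  obtain ⟨_, a⟩ := h v 0
  obtain ⟨_, b⟩ := h w 0
  rw [← q_comm (X := X), ← a, ← b, conj_mul, conj_mul, cji, q_comm]
theorem Ac.dg {g : G} {F : Vc → Vc} (h : X.Ac g F) {v : Vc} (k : dg v) : dg (F v) := by
  obtain ⟨_, a⟩ := h v 0
  obtain ⟨j, -, x, e, b⟩ := to_v (X := X) 0 k
  exact dg_of (g := g * j⁻¹) (X.p_L ..) (X.v_sq ..) (by rw [cjm, cjv b, a])
theorem Ac.add {g : G} {F : Vc → Vc} (h : X.Ac g F) (v w : Vc) : F (v + w) = F v + F w := by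
  obtain ⟨_, a⟩ := h v 0
  obtain ⟨_, b⟩ := h w 0
  obtain ⟨_, c⟩ := h (v + w) (0 + 0 + bf v w)
  rw [← q_mul, cjs, a, b, q_mul, q_eq] at c
  exact c.1.symm
theorem Ac.zero {g : G} {F : Vc → Vc} (h : X.Ac g F) : F 0 = 0 := by simpa using h.add 0 0
theorem P_Z {g : G} (h : g ∈ 𝐍(X.P)) : g ∈ 𝐍(X.Z) := mem_normalizer_of_cj_le fun _ hg => by
  obtain ⟨_, ⟨e, rfl⟩, rfl⟩ := mem_cj'.1 hg
  obtain ⟨F, a⟩ := Ac.ex h
  obtain ⟨f, b⟩ := a 0 e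
  exact ⟨f, by rwa [a.zero, q_z, q_z] at b⟩

theorem nV {g : G} {F : Vc → Vc} (h : X.Ac g F) {x : F4} (k : F (1, 0, 0, 0) = (x, 0, 0, 0)) : g ∈ 𝐍(X.V) :=
  mem_normalizer_of_cj_le fun _ hg => by
    obtain ⟨_, ⟨u, e, rfl⟩, rfl⟩ := mem_cj'.1 hg
    obtain ⟨f, b⟩ := h (u, 0, 0, 0) e
    have a1 := (h.cf (1, 0, 0, 0) (u, 0, 0, 0)).2 (by simp [bf])
    have a2 := mt (h.cf (1, 0, 0, 0) (0, 1, 0, 0)).1 (by decide)
    rw [k] at a1 a2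
    obtain ⟨x', c⟩ := (by decide +kernel : ∀ x v, x ≠ 0 → Sz.dg v → bf (x, 0, 0, 0) v + bf v (x, 0, 0, 0) = 0 →
      ∃ x', v = (x', 0, 0, 0)) x _ (by rintro rfl; exact a2 (by simp [bf])) (h.dg (.inl ⟨rfl, rfl, rfl⟩)) a1
    exact ⟨x', f, by rwa [c, q_p, q_p] at b⟩
theorem nf1 {g : G} (h : g ∈ 𝐍(X.P)) : ∃ k ∈ X.CX, k * g ∈ 𝐍(X.V) := by
  obtain ⟨F, a⟩ := Ac.ex h
  obtain ⟨u, x, hu⟩ := (by decide +kernel : ∀ v, dg v → ∃ u x, wm u v = (x, 0, 0, 0)) _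
    (a.dg (v := (1, 0, 0, 0)) (.inl ⟨rfl, rfl, rfl⟩))
  exact ⟨_, wd_CX u, nV ((Ac.wd u).mul a) hu⟩
theorem Ac.v {g : G} {F : Vc → Vc} (h : X.Ac g F) (k : g ∈ 𝐍(X.V)) (x : F4) : ∃ x', F (x, 0, 0, 0) = (x', 0, 0, 0) := by
  obtain ⟨f, a⟩ := h (x, 0, 0, 0) 0
  obtain ⟨x', e, b⟩ := conj_mem_of_mem_normalizer k (v_V (X := X) x 0)
  rw [q_p, b, ← q_p, q_eq] at a
  exact ⟨x', a.1.symm⟩

variable (X) in
/-- the group `R D Z` -/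
def T' : Pm G where
  p c b e := X.q (0, 0, c, b) e
  mul c b e c' b' e' := by simp [q_mul, bf, mul_comm]
  inj c b e h := by simpa [← X.q_one, q_eq, Prod.ext_iff, and_assoc] using h

theorem nf0 {g : G} (h : g ∈ 𝐍(X.P)) (hV : g ∈ 𝐍(X.V)) : ∃ u s f m μ, μ ≠ 0 ∧ X.Ac g (fun v => ym u (ac s f m μ v)) ∧
    ∀ e, g * X.q 0 e * g⁻¹ = X.q 0 (m * m * th f e) := by
  obtain ⟨F, a⟩ := Ac.ex h
  obtain ⟨x, hx⟩ := a.v hV 1
  obtain ⟨u, b, b0, hu⟩ := (by decide +kernel : ∀ x v, dg v → bf (x, 0, 0, 0) v + bf v (x, 0, 0, 0) ≠ 0 →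
    ∃ u b, b ≠ 0 ∧ ym u v = (0, b, 0, 0)) x _ (a.dg (v := (0, 1, 0, 0)) (by decide))
    (hx ▸ mt (a.cf _ _).1 (by decide))
  have a1 := (Ac.y u).mul a
  have hV1 := mul_mem (nV (Ac.y (X := X) u) (x := 1) (by simp [ym])) hV
  obtain ⟨g, rfl⟩ : ∃ k, g = X.y u * k := ⟨X.y u * g, by rw [← mul_assoc, X.sd.y2, one_mul]⟩
  rw [← mul_assoc, X.sd.y2, one_mul] at a1 hV1
  change (fun v => ym u (F v)) _ = _ at hu
  generalize (fun v => ym u (F v)) = K at a1 hu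
  obtain ⟨x1, hx1⟩ := a1.v hV1 1
  have x0 : x1 ≠ 0 := by rintro rfl; exact mt (a1.cf (1, 0, 0, 0) (0, 1, 0, 0)).1 (by decide) (by simp [hx1, bf])
  obtain ⟨s1, f, l, m, k1⟩ := Pm.act_of (X := X.toPm) (y := g) fun x a e => by
    obtain ⟨e', k⟩ := a1 ((x, 0, 0, 0) + (0, a, 0, 0)) e
    obtain ⟨x', k1⟩ := a1.v hV1 x
    obtain ⟨a', k2⟩ := (by decide +kernel : ∀ b v, b ≠ 0 → dg v → bf (0, b, 0, 0) v + bf v (0, b, 0, 0) = 0 →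
      ∃ a, v = (0, a, 0, 0)) b _ b0 (a1.dg (v := (0, a, 0, 0)) (.inr ⟨0, by simp⟩))
      (hu ▸ (a1.cf _ _).2 (by simp [bf]))
    rw [a1.add, k1, k2] at k
    simp only [Prod.mk_add_mk, add_zero, zero_add, q_p] at k
    exact k ▸ X.p_T ..
  obtain ⟨s, f', l', m', k2⟩ := Pm.act_of (X := X.T') (y := g) fun c d e => by
    obtain ⟨e', k⟩ := a1 (0, 0, c, d) e
    have h1 := (a1.cf (1, 0, 0, 0) (0, 0, c, d)).2 (by simp [bf])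
    have h2 := (a1.cf (0, 1, 0, 0) (0, 0, c, d)).2 (by simp [bf])
    rw [hx1] at h1
    rw [hu] at h2
    refine ⟨(K (0, 0, c, d)).2.2.1, (K (0, 0, c, d)).2.2.2, e', k.trans ?_⟩
    generalize K (0, 0, c, d) = v at h1 h2
    obtain ⟨v1, v2, v3⟩ := v
    obtain rfl : v2 = 0 := by simpa [bf, x0] using h1
    obtain rfl : v1 = 0 := by simpa [bf, b0] using h2
    rfl
  have e1 : ∀ x a, K (x, a, 0, 0) = (c1 s1 f l m x a, c2 s1 f l m x a, 0, 0) := fun x a => by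
    obtain ⟨_, k⟩ := a1 (x, a, 0, 0) 0
    obtain ⟨_, k'⟩ := k1.t x a 0
    rw [q_p, k', ← q_p, q_eq] at k; exact k.1.symm
  have e2 : ∀ x a, K (0, 0, x, a) = (0, 0, c1 s f' l' m' x a, c2 s f' l' m' x a) := fun x a => by
    obtain ⟨_, k⟩ := a1 (0, 0, x, a) 0
    obtain ⟨_, k'⟩ := k2.t x a 0
    exact (X.q_eq.1 (k.symm.trans k')).1
  have e3 : ∀ v : Vc, K v = (c1 s1 f l m v.1 v.2.1, c2 s1 f l m v.1 v.2.1, c1 s f' l' m' v.2.2.1 v.2.2.2,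
      c2 s f' l' m' v.2.2.1 v.2.2.2) := fun ⟨x, a, c, d⟩ => by
    simpa only [e1, e2, Prod.mk_add_mk, add_zero, zero_add] using a1.add (x, a, 0, 0) (0, 0, c, d)
  have e4 : ∀ e, l * m * th f e = l' * m' * th f' e := fun e =>
    (X.q_eq.1 ((X.q_z _).trans ((k1.z e).symm.trans (X.q_z e ▸ show g * X.q 0 e * g⁻¹ = X.q 0 _ from k2.z e)))).2
  obtain rfl : s1 = false := by
    have := (e1 1 0).symm.trans hx1
    cases s1
    · rfl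
    · simpa [c2, th, k1.l0] using congrArg (·.2.1) this
  obtain ⟨rfl, rfl, μ, μ0, k⟩ := (by decide +kernel : ∀ s f f' l m l' m', l ≠ 0 → m ≠ 0 →
      l * m * th f 1 = l' * m' * th f' 1 → l * m * th f ω = l' * m' * th f' ω →
      dg (c1 false f l m 1 1, c2 false f l m 1 1, c1 s f' l' m' 1 1, c2 s f' l' m' 1 1) → f = f' ∧ l = m ∧ ∃ μ, μ ≠ 0 ∧
      ∀ v : Vc, (c1 false f l m v.1 v.2.1, c2 false f l m v.1 v.2.1, c1 s f' l' m' v.2.2.1 v.2.2.2,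
        c2 s f' l' m' v.2.2.1 v.2.2.2) = ac s f m μ v) s f f' l m l' m' k1.l0 k1.m0 (e4 1) (e4 ω)
      (by simpa only [e3] using a1.dg (v := (1, 1, 1, 1)) (by decide))
  exact ⟨u, s, f, l, μ, μ0, (Ac.y u).mul (a1.congr fun v => (e3 v).trans (k v)), fun e => by
    rw [cjm, q_z, k1.z, ← q_z, Cz.y]⟩

variable (X) in
/-- the normaliser of the flag -/
def N0 : Subgroup G := 𝐍(X.P) ⊓ 𝐍(X.V) ⊓ centralizer {X.q 0 1}
variable (X) in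
/-- the type of an element of `N0` -/
def Ty (g : G) (s f : Bool) : Prop := g ∈ X.N0 ∧ ∃ u μ, μ ≠ 0 ∧ X.Ac g (fun v => ym u (ac s f 1 μ v)) ∧
  ∀ e, g * X.q 0 e * g⁻¹ = X.q 0 (th f e)

theorem cz1 {g a : G} : g ∈ centralizer {a} ↔ g * a * g⁻¹ = a :=
  mem_centralizer_singleton_iff.trans mul_inv_eq_iff_eq_mul.symm
theorem Ty.ex {g : G} (h : g ∈ X.N0) : ∃ s f, X.Ty g s f := by
  obtain ⟨u, s, f, m, μ, μ0, a, b⟩ := nf0 h.1.1 h.1.2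
  obtain rfl : m = 1 := (by decide : ∀ f m, 1 = m * m * th f 1 → m = 1) f m (X.q_eq.1 ((cz1.1 h.2).symm.trans (b 1))).2
  exact ⟨s, f, h, u, μ, μ0, a, by simpa using b⟩
theorem Ty.mul' {g g' : G} {s f s' f' s'' f'' : Bool} (h : X.Ty g s f) (h' : X.Ty g' s' f') (h'' : X.Ty (g * g') s'' f'') :
    s'' = (s ^^ s') ∧ f'' = (f ^^ f') := by
  obtain ⟨-, u, μ, μ0, a, b⟩ := h
  obtain ⟨-, u', μ', μ0', a', b'⟩ := h'
  obtain ⟨-, u'', μ'', μ0'', a'', b''⟩ := h''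
  have k1 := congrArg (·.2.2.1) ((a.mul a').uniq a'' (0, 0, 1, 0))
  have k2 := b'' ω
  rw [cjm, b', b, q_eq] at k2
  refine ⟨?_, (by decide : ∀ f f' f'', th f (th f' ω) = th f'' ω → f'' = (f ^^ f')) _ _ _ k2.2⟩
  clear a a' a'' b b' b'' k2
  cases s <;> cases s' <;> cases s'' <;> cases f <;> cases f' <;> cases f'' <;> simp_all [ym, ac, th]
theorem Ty.mul {g g' : G} {s f s' f' : Bool} (h : X.Ty g s f) (h' : X.Ty g' s' f') : X.Ty (g * g') (s ^^ s') (f ^^ f') := by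
  obtain ⟨s'', f'', k⟩ := Ty.ex (mul_mem h.1 h'.1)
  obtain ⟨rfl, rfl⟩ := h.mul' h' k
  exact k
theorem M_N0 : X.M ≤ X.N0 := by
  rintro _ ⟨v, e, u, rfl⟩
  have := (Ac.of_P (X.q_P v e)).mul (Ac.y u)
  exact ⟨⟨this.norm, nV this (x := 1) (by simp [ym])⟩, cz1.2 ((Cz.of_P (X.q_P ..)).mul (.y u) 1)⟩
theorem Ty.of_M {g : G} (h : g ∈ X.M) : X.Ty g false false := ⟨M_N0 h, by
  obtain ⟨v, e, u, rfl⟩ := h
  exact ⟨u, 1, one_ne_zero, ((Ac.of_P (X.q_P v e)).mul (Ac.y u)).congr fun v => by simp [ac, th],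
    (Cz.of_P (X.q_P ..)).mul (.y u)⟩⟩
theorem Ty.uniq {g : G} {s f s' f' : Bool} (h : X.Ty g s f) (h' : X.Ty g s' f') : s = s' ∧ f = f' := by
  simpa using h'.mul' (.of_M (one_mem _)) (by rwa [mul_one])
theorem Ty.inv {g : G} {s f : Bool} (h : X.Ty g s f) : X.Ty g⁻¹ s f := by
  obtain ⟨s', f', k⟩ := Ty.ex (inv_mem h.1)
  obtain ⟨h1, h2⟩ := h.mul' k (.of_M (by simp))
  convert k <;> revert h1 h2 <;> cases s <;> cases s' <;> cases f <;> cases f' <;> simp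
theorem Ty.cj {g k : G} {s f : Bool} (h : X.Ty g s f) (hk : k ∈ X.N0) : X.Ty (k * g * k⁻¹) s f := by
  obtain ⟨s', f', a⟩ := Ty.ex hk
  convert (a.mul h).mul a.inv <;> cases s <;> cases s' <;> cases f <;> cases f' <;> rfl
theorem Ty.cz {g : G} {s f : Bool} (h : X.Ty g s f) (k : X.Cz g) : f = false := by
  obtain ⟨-, -, -, -, -, b⟩ := h
  have := (X.q_eq.1 ((k ω).symm.trans (b ω))).2
  revert this; cases f <;> decide

theorem nY {k : G} (h : k ∈ 𝐍(X.P)) (hV : k ∈ 𝐍(X.V)) : k ∈ 𝐍(X.Y) := mem_normalizer_of_cj_le fun _ hg => by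
  obtain ⟨_, hg', rfl⟩ := mem_cj'.1 hg
  refine tr (cj_eq_self_iff.2 hV) one_ne_zero ?_ hg'
  obtain ⟨⟨x, a, c, b⟩, e, q⟩ := conj_mem_of_mem_normalizer' h (X.r_P 1)
  obtain ⟨x', e', q'⟩ := conj_mem_of_mem_normalizer hV (v_V (X := X) 1 0)
  have : X.q (x, a, c, b) e * X.q (1, 0, 0, 0) 0 = X.q (1, 0, 0, 0) 0 * X.q (x, a, c, b) e := by
    rw [← q, q_p, ← cji k, cjs k _ (X.p ..), cjs k (X.p ..), q', show k * (k⁻¹ * X.r 1 * k) * k⁻¹ = X.r 1 by group, rp X.Φ1]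
  obtain rfl : a = 0 := by simpa [q_comm, bf] using this
  exact q ▸ q_Y ..
theorem y_Y (u : F4) : X.y u ∈ X.Y := ⟨0, 0, 0, 0, u, by rw [show X.q (0, 0, 0, 0) 0 = 1 from X.q_one, one_mul]⟩
theorem nM {k : G} (h : k ∈ X.N0) : k ∈ 𝐍(X.M) := mem_normalizer_of_cj_le fun _ hg => by
  obtain ⟨_, ⟨v, e, u, rfl⟩, rfl⟩ := mem_cj'.1 hg
  rw [cjs]
  exact mul_mem (P_M (conj_mem_of_mem_normalizer h.1.1 (X.q_P ..)))
    (Y_M (conj_mem_of_mem_normalizer (nY h.1.1 h.1.2) (y_Y u)))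
theorem Ty.ff {g : G} (h : X.Ty g false false) (t : T2 g) : g ∈ X.M := by
  obtain ⟨h, u, μ, μ0, a, b⟩ := h
  have t' : T2 (X.y u * g) := .of_mem (isPGroup_sup_of_le_normalizer_right t.pg isP_M (zpowers_le.2 (nM h)))
    (mul_mem (mem_sup_right (y_M u)) (mem_sup_left (mem_zpowers g)))
  have a' := ((Ac.y u).mul a).congr (K := ac false false 1 μ) fun v => by generalize ac false false 1 μ v = w; clear * -; decide +revert
  obtain ⟨-, rfl⟩ := Pm.Act.two (X := X.T') (l := μ * μ) (m := μ) ⟨mul_ne_zero μ0 μ0, μ0, fun x c e => by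
    simpa [ac, c1, c2, th, T'] using a' (0, 0, x, c) e, fun e => by
      have := (Cz.y u).mul (fun e => b e) e
      rwa [show μ * μ * μ * th false e = e by clear * - μ0; decide +revert]⟩ t'
  exact (mul_mem_cancel_left (y_M u)).1 (P_M (memP2 (a'.congr fun v => by simp [ac, th]) t'))

variable (X) in
/-- an element of `C(z)` mapping `W` to `V` -/
def k0 : G := X.n * (X.p 0 1 0 * (X.y' 1 * (X.y 1 * X.m)))
variable (X) in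
/-- a conjugate of `z` not centralising `Z` -/
def τ : G := X.k0 * X.p 1 0 0 * X.k0⁻¹

theorem k0_w (a e : F4) : X.k0 * X.p 0 a e * X.k0⁻¹ = X.p (a + e * e + e) 0 e := by
  rw [k0, cjm, cjm, cjm, cjm, X.m_p, ← q_p X 0 e, ya, yb, ← q_p, q_cj, ← X.n_p, cji, ← q_p, q_eq]
  clear * -; decide +revert
theorem k0_z : X.k0 * X.q 0 1 * X.k0⁻¹ = X.q 0 1 := by rw [q_z, k0_w]; rfl
theorem k0_r (c : F4) : ∃ x, X.k0 * X.r c * X.k0⁻¹ = X.p x 0 c * X.y c := by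
  obtain ⟨α, hα⟩ := X.sd.n
  refine ⟨c * c + c + α * c, ?_⟩
  rw [k0, cjm, cjm, cjm, cjm, X.kc (rK (X.all c)) X.m_L, ← q_r0, ya, yb, ← q_p, q_cj,
    show X.q _ _ = X.p c 0 (c * c + c) * X.d c by rw [← q_p, ← q_d, q_mul, q_eq]; clear * -; decide +revert,
    cjs, X.n_p, hα, (X.sd.B c).cm, ← mul_assoc, X.v_mul, add_zero]
theorem k0_CO : X.k0 ∈ X.CO :=
  mul_mem (L_CO X.n_L) (mul_mem (p_CO _ _ _) (mul_mem (y'_CO 1) (mul_mem (y_CO 1) (L_CO X.m_L))))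
theorem k0_V : X.swap.V ^ᶜ X.k0 = X.V := V_eq fun x e => by
  obtain ⟨a, f, q⟩ := mem_W.1 (v_V (X := X.swap) x e)
  exact ⟨_, _, q ▸ k0_w a f⟩
theorem k0_Y' {g : G} (h : g ∈ X.Y) : X.k0⁻¹ * g * X.k0⁻¹⁻¹ ∈ X.swap.Y :=
  tr (by rw [← k0_V, cj_cj_inv]) one_ne_zero (let ⟨x, q⟩ := k0_r (X := X) 1; ⟨x, 0, 0, 1, 1, by
    rw [inv_inv, q_p]; exact q⟩) h
theorem k0_Y {g : G} (h : g ∈ X.swap.Y) : X.k0 * g * X.k0⁻¹ ∈ X.Y :=
  tr k0_V one_ne_zero (by simpa using k0_Y' (r_Y (X := X) 1)) h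
theorem k0_n {g : G} (h : g ∈ 𝐍(X.P)) (hW : g ∈ 𝐍(X.swap.V)) :
    X.k0 * g * X.k0⁻¹ ∈ 𝐍(X.V) ∧ X.k0 * g * X.k0⁻¹ * X.r 1 * (X.k0 * g * X.k0⁻¹)⁻¹ ∈ X.M :=
  ⟨by rw [← k0_V, ← cj_normalizer]; exact cj_mem _ hW, by
    rw [cjm, cjm]
    exact Y_M (k0_Y (conj_mem_of_mem_normalizer (nY (X.swap_P ▸ h) hW) (k0_Y' (r_Y 1))))⟩
theorem P_V {g : G} (h : g ∈ X.P) : g ∈ 𝐍(X.V) := nV (.of_P h) rfl
theorem τ2 : X.τ * X.τ = 1 := by rw [τ, conj_mul, X.v_sq]; simp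
theorem τ_inv : X.τ⁻¹ = X.τ := inv_eq_of_mul_eq_one_left τ2
theorem τ_v (x e : F4) : X.τ * X.p x 0 e * X.τ⁻¹ = X.p (x * x) 0 (x + e * e) := by
  have := k0_w (X := X) (x + e * e + e) e
  rw [show x + e * e + e + e * e + e = x by clear * -; decide +revert] at this
  rw [← this, τ, cjc, X.p_conj, k0_w, X.p_eq]; clear * -; decide +revert
theorem τ_z (e : F4) : X.τ * X.q 0 e * X.τ⁻¹ = X.q 0 (e * e) := by simp [q_z, τ_v]
theorem τ_CO : X.τ ∈ X.CO := nCO' k0_CO (p_CO _ _ _)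
theorem nZ {g : G} (h : ∀ e, ∃ f, g * X.q 0 e * g⁻¹ = X.q 0 f) : g ∈ 𝐍(X.Z) := mem_normalizer_of_cj_le fun _ hg => by
  obtain ⟨_, ⟨e, rfl⟩, rfl⟩ := mem_cj'.1 hg
  exact (h e).imp fun f a => by rwa [q_z, q_z] at a
theorem τ_N0 : X.τ ∈ X.N0 :=
  have := k0_n (le_normalizer (X.p_P 1 0 0)) (P_V (X.swap_P ▸ X.p_P 1 0 0))
  ⟨⟨npM (nZ fun e => ⟨_, τ_z e⟩) one_ne_zero this.2, this.1⟩, cz1.2 (by simpa using τ_z (X := X) 1)⟩
theorem τ_y (c : F4) : ∃ x, X.k0 * X.q (1, 0, c, 0) 0 * X.k0⁻¹ = X.p x 0 c * X.y c * X.τ := by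
  obtain ⟨x, q⟩ := k0_r (X := X) c
  exact ⟨x, by rw [← q, τ, conj_mul, ← q_r0, ← q_p, q_mul]; simp [bf]⟩

variable (X) in
/-- elements acting semilinearly -/
def Sl (i : G) (u : F4) : Prop := X.Ac i (fun v => ym u (ac true true 1 1 v)) ∧ ∀ e, i * X.q 0 e * i⁻¹ = X.q 0 (e * e)

theorem τ_sl : ∃ u, X.Sl X.τ u := by
  obtain ⟨s, f, -, u, μ, μ0, a, b⟩ := Ty.ex (τ_N0 (X := X))
  obtain rfl : f = true := by
    have := (X.q_eq.1 ((τ_z ω).symm.trans (b ω))).2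
    revert this; cases f <;> decide
  have k : ∀ c, ym c (ym u (ac s true 1 μ (0, 1, 0, 0))) = ym u (ac s true 1 μ (ym c (0, 1, 0, 0))) := fun c => by
    obtain ⟨x, q⟩ := k0_r (X := X) c
    have h1 := (Ac.of_P (X.p_P x 0 c)).mul (Ac.y c)
    have h2 : X.p x 0 c * X.y c * X.τ = X.τ * (X.p x 0 c * X.y c) := by rw [← q, τ, conj_mul, conj_mul, rp (X.all c)]
    exact (h1.mul a).uniq (h2 ▸ a.mul h1) _
  obtain ⟨rfl, rfl⟩ : s = true ∧ μ = 1 := by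
    have k1 := k 1
    have k2 := k ω
    clear * - k1 k2 μ0; decide +revert
  exact ⟨u, a, τ_z⟩
theorem τ_ty : X.Ty X.τ true true := let ⟨u, a, b⟩ := τ_sl (X := X); ⟨τ_N0, u, 1, one_ne_zero, a, b⟩
theorem Sl.mul {i : G} {u : F4} (h : X.Sl i u) (v : Vc) (e c : F4) : X.Sl (X.q v e * X.y c * i) (c + u) :=
  ⟨(((Ac.of_P (X.q_P v e)).mul (Ac.y c)).mul h.1).congr fun w => by
    generalize ac true true 1 1 w = w; clear * -; decide +revert +kernel,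
    fun f => by rw [cjm, h.2, (Cz.of_P (X.q_P ..)).mul (.y c)]⟩
theorem Sl.fix {i : G} {u : F4} (h : X.Sl i u) (i2 : i * i = 1) {v : Vc} (k : ym u (ac true true 1 1 v) = v) :
    ∃ e, i * X.q v e * i⁻¹ = X.q v e := by
  obtain ⟨f, a⟩ := h.1 v 0
  have b : ∀ e, i * X.q v e * i⁻¹ = X.q v (f + e * e) := fun e => by
    rw [← zero_add e, ← qz, cjs, a, h.2, qz, zero_add]; exact congrArg (X.q · _) k
  have c := b (f + 0 * 0)
  rw [← b, ← cjm, i2, one_mul, inv_one, mul_one, q_eq] at c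
  exact ⟨f * ω, (b _).trans (by congr 1; have := c.2; clear * - this; decide +revert)⟩
theorem Sl.cls {i π : G} {u : F4} (h : X.Sl i u) (i2 : i * i = 1) (hπ : π ∈ X.P) (k : π * i * (π * i) = 1) :
    ∃ a ∈ X.P, a * i * a⁻¹ = π * i := by
  obtain ⟨v, e, rfl⟩ := hπ
  have ii := inv_eq_of_mul_eq_one_left i2
  have s : ∀ a b : G, a * i * b = a * (i * b * i⁻¹) * i := fun a b => by group
  obtain ⟨f, a⟩ := h.1 v e
  have k1 := k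
  rw [← mul_assoc, s, mul_assoc, i2, mul_one, a, q_mul, ← X.q_one, q_eq] at k1
  obtain ⟨w, hw⟩ := (by decide +kernel : ∀ u v, v + ym u (ac true true 1 1 v) = 0 →
    ∃ w, w = (ω * v.1, ω * v.2.1, ω * v.2.2.1, ω * v.2.2.2) ∧ w + ym u (ac true true 1 1 w) = v) u v k1.1
  obtain ⟨f', b⟩ := h.1 w (0 + bf w w)
  obtain ⟨d, c⟩ : ∃ d, X.q v e * i = X.q 0 d * (X.q w 0 * i * (X.q w 0)⁻¹) :=
    ⟨_, by rw [q_inv, s, b, q_mul, hw.2, ← mul_assoc, zq, aa']⟩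
  have j1 : ∀ e, X.q w 0 * i * (X.q w 0)⁻¹ * X.q 0 e * (X.q w 0 * i * (X.q w 0)⁻¹)⁻¹ = X.q 0 (e * e) := fun e => by
    rw [cjm, cjm, Cz.of_P (inv_mem (X.q_P ..)), h.2, Cz.of_P (X.q_P ..)]
  have j2 : X.q w 0 * i * (X.q w 0)⁻¹ * (X.q w 0 * i * (X.q w 0)⁻¹) = 1 := by rw [conj_mul, i2]; simp
  refine ⟨X.q 0 (d * ω) * X.q w 0, mul_mem (X.q_P ..) (X.q_P ..), ?_⟩
  rw [c] at k ⊢
  rw [cjm]
  generalize X.q w 0 * i * (X.q w 0)⁻¹ = j at *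
  rw [← mul_assoc, mul_assoc _ j, ← inv_mul_cancel_right (j * _) j, j1, ← mul_assoc, mul_assoc, j2, mul_one, zq,
    ← X.q_one, q_eq] at k
  rw [q_inv, mul_assoc, ← inv_mul_cancel_right (j * _) j, j1, ← mul_assoc, zq]
  congr 2; have := k.2; clear * - this; decide +revert

variable (X) in
/-- the Sylow 2-subgroup -/
def S : Subgroup G := zpowers X.τ ⊔ X.M
theorem mem_ext {M : Subgroup G} {t g : G} (t2 : t * t = 1) (h : t ∈ 𝐍(M)) :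
    g ∈ zpowers t ⊔ M ↔ g ∈ M ∨ ∃ m ∈ M, g = m * t := by
  refine ⟨fun k => ?_, fun k => k.elim mem_sup_right (by
    rintro ⟨m, hm, rfl⟩; exact mul_mem (mem_sup_right hm) (mem_sup_left (mem_zpowers t)))⟩
  obtain ⟨_, ⟨n, rfl⟩, m, hm, rfl⟩ := (mem_sup_of_le_normalizer_right (zpowers_le.2 h)).1 k
  have h2 : t ^ (2 : ℤ) = 1 := by rw [zpow_two, t2]
  rcases Int.even_or_odd' n with ⟨k, rfl | rfl⟩
  · exact .inl (by simpa [zpow_mul, h2] using hm)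
  · exact .inr ⟨_, conj_mem_of_mem_normalizer h hm, by simp [zpow_add, zpow_mul, h2]⟩
theorem mem_S {g : G} : g ∈ X.S ↔ g ∈ X.M ∨ ∃ m ∈ X.M, g = m * X.τ := mem_ext τ2 (nM τ_N0)
theorem M_S : X.M ≤ X.S := le_sup_right
theorem τ_S : X.τ ∈ X.S := mem_sup_left (mem_zpowers _)
theorem isP_S : IsPGroup 2 X.S := isPGroup_sup_of_le_normalizer_right (T2.of_sq τ2).pg isP_M (zpowers_le.2 (nM τ_N0))
theorem S_N0 : X.S ≤ X.N0 := sup_le (zpowers_le.2 τ_N0) M_N0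
theorem S_CO : X.S ≤ X.CO := sup_le (zpowers_le.2 τ_CO) (M_CX.trans CX_CO)
theorem S_ty {g : G} (h : g ∈ X.S) : ∃ b, X.Ty g b b := by
  rcases mem_S.1 h with h | ⟨m, k, rfl⟩
  exacts [⟨_, .of_M h⟩, ⟨_, (Ty.of_M k).mul τ_ty⟩]
theorem Ty.bb {g : G} {b : Bool} (h : X.Ty g b b) {U : Subgroup G} (hU : IsPGroup 2 U) (h1 : X.τ ∈ U) (h2 : g ∈ U) :
    g ∈ X.S := by
  cases b
  · exact M_S (h.ff (.of_mem hU h2))
  · exact (mul_mem_cancel_right τ_S).1 (M_S ((h.mul τ_ty).ff (.of_mem hU (mul_mem h2 h1))))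

theorem invM {v : Vc} {e u : F4} (u0 : u ≠ 0) (h : X.q v e * X.y u * (X.q v e * X.y u) = 1) :
    ∃ k ∈ X.CO, k * (X.q v e * X.y u) * k⁻¹ = X.r 1 := by
  obtain ⟨-, x, b, rfl⟩ := sq_M u0 (h.trans X.q_one.symm)
  obtain ⟨α, hα⟩ := X.sd.n
  obtain ⟨x', e', q⟩ : ∃ x' e', X.q (0, b * (u * u), 0, 0) 0 * (X.q (x, 0, b * u, b) e * X.y u) *
      (X.q (0, b * (u * u), 0, 0) 0)⁻¹ = X.p x' 0 e' * X.y u := by
    obtain ⟨x', k⟩ := (by decide : ∀ x b u : F4, u ≠ 0 → ∃ x', ((0, b * (u * u), 0, 0) : Vc) + (x, 0, b * u, b) +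
      ym u (0, b * (u * u), 0, 0) = (x', 0, 0, 0)) x b u u0
    exact ⟨x', _, by rw [q_inv, ← mul_assoc, q_mul, mul_assoc, ← inv_mul_cancel_right (X.y u * _) (X.y u), ya,
      ← mul_assoc, q_mul, k, q_p]⟩
  obtain ⟨k, hk, q'⟩ := to_r (X := X) (v := (e', 0, 0, u)) (x' + α * u) (by simp [bf]) (by simp [dg, u0])
  refine ⟨k * (X.n⁻¹ * X.q (0, b * (u * u), 0, 0) 0), mul_mem (CX_CO hk) (mul_mem (inv_mem (L_CO X.n_L)) (X.q_CO _ _)), ?_⟩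
  rw [cjm, cjm, q, ← q', cji]
  refine cjv ?_
  rw [show X.q (e', 0, 0, u) (x' + α * u) = X.p e' 0 (x' + α * u) * X.d u by rw [← q_p, ← q_d, q_mul]; simp [bf],
    cjs, X.n_p, hα, (X.sd.B u).cm, ← mul_assoc, X.v_mul, add_assoc, aa, add_zero, add_zero]
theorem invT {v : Vc} {e u : F4} (h : X.q v e * X.y u * X.τ * (X.q v e * X.y u * X.τ) = 1) :
    ∃ a ∈ X.P, X.q v e * X.y u * X.τ = a * X.k0 * X.q (1, 0, u, 0) 0 * (a * X.k0)⁻¹ := by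
  obtain ⟨x, q⟩ := τ_y (X := X) u
  obtain ⟨u0, s⟩ := τ_sl (X := X)
  have k : X.q v e * X.y u * X.τ = X.q v e * (X.p x 0 u)⁻¹ * (X.p x 0 u * X.y u * X.τ) := by group
  obtain ⟨a, ha, b⟩ := (X.q_p x 0 u ▸ s.mul (x, 0, 0, 0) u u).cls (by rw [← q, conj_mul, q_sq]; simp [bf, q_one])
    (mul_mem (X.q_P v e) (inv_mem (X.p_P ..))) (k ▸ h)
  exact ⟨a, ha, by rw [k, ← b, cjm, q]⟩
theorem invP {v : Vc} {e : F4} (h : X.q v e * X.q v e = 1) (h1 : X.q v e ≠ 1) :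
    ∃ k ∈ X.CO, k * X.q v e * k⁻¹ = X.q 0 1 ∨ k * X.q v e * k⁻¹ = X.r 1 := by
  by_cases d : dg v
  · obtain ⟨k, hk, x, f, q⟩ := to_v (X := X) e d
    obtain ⟨l, hl, q'⟩ := X.cls _ (X.p_L x 0 f) (X.v_sq ..) fun a => h1 (conj_eq_one_iff.1 (q.trans a))
    exact ⟨l⁻¹ * k, mul_mem (inv_mem (L_CO hl)) (CX_CO hk), .inl (by rw [cjm, q, q_z]; exact cjv q')⟩
  · exact (to_r e (sq0 h) d).imp fun _ k => ⟨CX_CO k.1, .inr k.2⟩
theorem invS {i : G} (h : i ∈ X.S) (i2 : i * i = 1) (i1 : i ≠ 1) :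
    ∃ k ∈ X.CO, k * i * k⁻¹ = X.q 0 1 ∨ k * i * k⁻¹ = X.r 1 := by
  rcases mem_S.1 h with ⟨v, e, u, rfl⟩ | ⟨_, ⟨v, e, u, rfl⟩, rfl⟩
  · by_cases u0 : u = 0
    · subst u0; rw [X.sd.y0, mul_one] at *; exact invP i2 i1
    · exact (invM u0 i2).imp fun _ k => ⟨k.1, .inr k.2⟩
  · obtain ⟨a, ha, q⟩ := invT i2
    obtain ⟨k, hk, q'⟩ := invP (X := X) (v := (1, 0, u, 0)) (e := 0) (by rw [q_sq]; simp [bf, q_one])
      (by rw [← X.q_one, Ne, q_eq]; simp)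
    exact ⟨k * (a * X.k0)⁻¹, mul_mem hk (inv_mem (mul_mem (X.P_CO ha) k0_CO)), by rwa [cjm k, cjv q.symm]⟩

theorem z_of {s : G} (t : T2 s) (h : ∀ v e, ∃ f, (f = 0 ∨ f = 1) ∧ s * X.q v e * s⁻¹ = X.q v (e + f)) :
    ∃ e, s = X.q 0 e := by
  obtain ⟨w, e, rfl⟩ := memP2 (fun v e => (h v e).elim fun _ k => ⟨_, k.2⟩) t
  obtain rfl : w = 0 := (by decide +kernel : ∀ w, (∀ u, bf w u + bf u w = 0 ∨ bf w u + bf u w = 1) → w = 0) w fun u => by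
    obtain ⟨f, a, b⟩ := h u 0
    rw [q_cj, q_eq, add_right_inj] at b
    exact b.2 ▸ a
  exact ⟨e, rfl⟩
theorem three {a b : G} (ha : a ∈ X.N0) (hb : b ∈ X.N0) :
    (∃ s, X.Ty a s s) ∨ (∃ s, X.Ty b s s) ∨ ∃ s, X.Ty (a * b) s s := by
  obtain ⟨s, f, h⟩ := Ty.ex ha
  obtain ⟨s', f', h'⟩ := Ty.ex hb
  rcases (by decide : ∀ s f s' f' : Bool, s = f ∨ s' = f' ∨ (s ^^ s') = (f ^^ f')) s f s' f' with rfl | rfl | e
  exacts [.inl ⟨_, h⟩, .inr (.inl ⟨_, h'⟩), .inr (.inr ⟨_, e ▸ h.mul h'⟩)]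

theorem syl {U : Subgroup G} (hU : IsSylowIn 2 U X.N0) (h : X.S ≤ U) : IsSylowIn 2 U ⊤ := by
  refine isSylowIn_of_normalizer le_top (hU.mono (le_inf le_top le_normalizer) fun k hk => ?_)
  replace hk := hk.2
  have mU : ∀ {g}, g ∈ X.M → g ∈ U := fun a => h (M_S a)
  have c : ∀ {g}, g ∈ U → k * g * k⁻¹ ∈ U := conj_mem_of_mem_normalizer hk
  have c' : ∀ {g}, g ∈ U → k * (k⁻¹ * g * k) * k⁻¹ = g ∧ k⁻¹ * g * k ∈ U := fun a =>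
    ⟨by group, conj_mem_of_mem_normalizer' hk a⟩
  have hz : k * X.q 0 1 * k⁻¹ = X.q 0 1 := by
    have cm : ∀ g ∈ U, k * X.q 0 1 * k⁻¹ * g * (k * X.q 0 1 * k⁻¹)⁻¹ = g := fun g a => by
      rw [← (c' a).1, cjc, cji, mul_inv_eq_iff_eq_mul, mem_centralizer_singleton_iff.1 (hU.le (c' a).2).2]
    obtain ⟨e, q⟩ := z_of ((X.q_t2 0 1).conj k) fun v e => ⟨0, .inl rfl, by rw [cm _ (mU (P_M (X.q_P ..))), add_zero]⟩
    have := τ_z (X := X) e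
    rw [← mul_inv_eq_iff_eq_mul.1 (q ▸ cm _ (h τ_S) : X.q 0 e * X.τ * (X.q 0 e)⁻¹ = _), mul_inv_cancel_right, q_eq] at this
    have e0 : e ≠ 0 := by rintro rfl; rw [q_one, conj_eq_one_iff, ← X.q_one, q_eq] at q; exact one_ne_zero q.2
    rw [q, mul_left_cancel₀ e0 (this.2.symm.trans (mul_one e).symm)]
  have hZ : k ∈ 𝐍(X.Z) := by
    obtain ⟨e, q⟩ := z_of ((X.q_t2 0 ω).conj k) fun v e => by
      obtain ⟨a, b⟩ := c' (mU (P_M (X.q_P v e)))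
      obtain ⟨s, f, -, -, -, -, -, d⟩ := Ty.ex (inv_mem (hU.le b))
      have := d ω
      rw [inv_inv, mul_assoc, inv_mul_eq_iff_eq_mul, ← mul_inv_eq_iff_eq_mul] at this
      cases f
      · exact ⟨0, .inl rfl, by
          rw [add_zero, ← a, cjc, cji, mul_inv_eq_iff_eq_mul]; exact (mul_inv_eq_iff_eq_mul.1 this)⟩
      · refine ⟨1, .inr rfl, ?_⟩
        rw [← qz, ← hz, ← a, cjc, conj_mul, cji, mul_inv_eq_iff_eq_mul, mul_assoc _ (X.q 0 1), zq]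
        exact (mul_inv_eq_iff_eq_mul.1 this)
    exact nZ (H30.F4.forall_iff.2 ⟨⟨0, by simp [q_one]⟩, ⟨_, hz⟩, ⟨_, q⟩, ⟨e + 1, by
      rw [show X.q 0 H30.F4.v = X.q 0 ω * X.q 0 1 from (X.qz 0 ω 1).symm, cjs, q, hz, qz]⟩⟩)
  have cM : ∀ f : F4 → G, (∀ c, f c ∈ X.M) → f 1 * f ω = f ϖ → ∃ c, c ≠ 0 ∧ k * f c * k⁻¹ ∈ X.M := fun f a b => by
    have z : ∀ c s, X.Ty (k * f c * k⁻¹) s s → k * f c * k⁻¹ ∈ X.M := fun c' s t => by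
      obtain rfl := t.cz (cz_iff.2 (conj_mem_of_mem_normalizer (normalizer_le_normalizer_centralizer _ hZ)
        (cz_iff.1 (CX_Z (M_CX (a c'))))))
      exact t.ff ((M_t2 (a c')).conj k)
    rcases three (hU.le (c (mU (a 1)))) (hU.le (c (mU (a ω)))) with ⟨s, t⟩ | ⟨s, t⟩ | ⟨s, t⟩
    exacts [⟨1, by decide, z _ s t⟩, ⟨ω, by decide, z _ s t⟩, ⟨ϖ, by decide, z _ s (by rwa [conj_mul, b] at t)⟩]
  obtain ⟨c1, c0, q⟩ := cM X.r (fun c => P_M (X.r_P c)) (X.r_mul _ _ (X.all _) (X.all _))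
  have hP := npM hZ c0 q
  obtain ⟨u, u0, v, e, u', q⟩ := cM X.y y_M (X.sd.mul ..)
  obtain ⟨F, a⟩ := Ac.ex hP
  have a1 := (q ▸ (Ac.of_P (X.q_P v e)).mul (Ac.y u') : X.Ac (k * X.y u * k⁻¹) _).mul a
  rw [inv_mul_cancel_right] at a1
  have a2 := (a.mul (Ac.y u)).uniq a1
  have u1 : u' ≠ 0 := by
    rintro rfl
    have := (a.cf (ym u (0, 0, 1, 0) + (0, 0, 1, 0)) (0, 1, 0, 0)).1 (by
      rw [a.add, a2, show id (ym 0 (F _)) = F (0, 0, 1, 0) by simp [ym], vv]; simp [bf])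
    exact u0 (by simpa [ym, bf, aa] using this)
  obtain ⟨x, b⟩ := (by decide +kernel : ∀ u v, u ≠ 0 → dg v → v = id (ym u v) → ∃ x, v = (x, 0, 0, 0)) u' _ u1
    (a.dg (v := (1, 0, 0, 0)) (.inl ⟨rfl, rfl, rfl⟩)) (by simpa [ym] using a2 (1, 0, 0, 0))
  exact ⟨⟨hP, nV a b⟩, cz1.2 hz⟩

end Su

end H10.Sz
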