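import Cfsg.Agent.Lib.Std.Sz12

/-! Standard subgroups `L₃(4)`, part 13: the centraliser of `Z` and the group `Q`. -/

set_option autoImplicit false
set_option maxRecDepth 100000
set_option synthInstance.maxSize 100000
set_option linter.unusedSectionVars false

namespace H10.Sz
open H69 Subgroup Cfsg
open H30 (F4)
open H10.HeS (T2)

/-- the inverse action of a word -/
def wi (u v : Vc) : Vc := yn u.2.2.2 (ym u.2.2.1 (yn u.2.1 (ym u.1 v)))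
/-- the action of `τ` -/
def tau : Vc → Vc := ac true true 1 1

theorem ym_ym : ∀ u v, ym u (ym u v) = v := by decide +kernel
theorem yn_yn : ∀ u v, yn u (yn u v) = v := by decide +kernel
theorem ym0 : ∀ v, ym 0 v = v := by decide +kernel

variable {G : Type*} [Group G] [Finite G] [IsSimpleGroup G]

namespace Su
open Hy H1
variable {X : Su G}

theorem mem_Z {g : G} : g ∈ X.Z ↔ ∃ e, g = X.q 0 e := by simp only [q_z]; rfl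
theorem qZ {v : Vc} {e : F4} (h : X.q v e ∈ X.Z) : v = 0 := let ⟨_, k⟩ := mem_Z.1 h; (X.q_eq.1 k).1
theorem Ty.zz {g : G} (h : g ∈ 𝐍(X.P)) (hV : g ∈ 𝐍(X.V)) (hz : X.Cz g) :
    ∃ u μ, μ ≠ 0 ∧ X.Ac g fun v => ym u (ac false false 1 μ v) := by
  obtain ⟨s, f, t⟩ := Ty.ex ⟨⟨h, hV⟩, cz1.2 (hz 1)⟩
  obtain rfl := t.cz hz
  obtain rfl := t.eq
  exact let ⟨_, u, μ, a, b, _⟩ := t; ⟨u, μ, a, b⟩

theorem CZ_N : 𝐂(X.Z) ≤ 𝐍(X.P) := by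
  haveI := Fact.mk Nat.prime_two
  have cx : X.CX ≤ 𝐂(X.Z) ⊓ 𝐍(X.P) := fun _ h => ⟨cz_iff.1 (CX_Z h), CX_N h⟩
  have toM : ∀ x ∈ 𝐂(X.Z), ∀ a ∈ X.P, x * a * x⁻¹ ∈ 𝐍(X.P) → ∃ k ∈ 𝐂(X.Z) ⊓ 𝐍(X.P), k * x * a * (k * x)⁻¹ ∈ X.M :=
    fun x hx a ha h => by
      obtain ⟨k, hk, q⟩ := (M_syl.mono (M_CX.trans cx) inf_le_left).exists_cj_le ((M_t2 (P_M ha)).conj x).pg
        (zpowers_le.2 (mem_inf.2 ⟨mul_mem (mul_mem hx (cz_iff.1 (.of_P ha))) (inv_mem hx), h⟩))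
      exact ⟨k, hk, cjm k x a ▸ q (cj_mem k (mem_zpowers _))⟩
  have f1 : ∀ x ∈ 𝐂(X.Z), x * X.r 1 * x⁻¹ ∈ 𝐍(X.P) → x ∈ 𝐍(X.P) := fun x hx h => by
    obtain ⟨k, hk, q⟩ := toM x hx _ (X.r_P 1) h
    exact (mul_mem_cancel_left (mem_inf.1 hk).2).1 (npM (centralizer_le_normalizer _ (mul_mem hk.1 hx)) one_ne_zero q)
  have rc : ∀ c, c ≠ 0 → ∃ k ∈ 𝐂(X.Z) ⊓ 𝐍(X.P), k * X.r 1 * k⁻¹ = X.r c := fun c hc =>
    let ⟨k, hk, q⟩ := to_r (X := X) (v := (0, 0, c, 0)) 0 (by simp [bf]) (by simp [dg, hc, eq_comm])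
    ⟨k⁻¹, cx (inv_mem hk), cjv (X.q_r0 c ▸ q)⟩
  obtain ⟨k2, h2, e2⟩ := rc ω (by decide)
  obtain ⟨k3, h3, e3⟩ := rc ϖ (by decide)
  refine top2 (Z := X.Z) (centralizer_le_normalizer _) (by rintro _ ⟨e, rfl⟩; exact X.p_P ..)
    (by rintro _ ⟨e, rfl⟩; exact X.z_sq e) (fun _ h => (cx (P_CX h)).1) (X.r_P 1)
    (by rintro _ ⟨v, e, rfl⟩; exact mem_Z.2 ⟨_, X.q_sq ..⟩) f1 (.inl ?_) h2 h3
    (by rw [e2, e3]; exact X.r_mul _ _ (X.all _) (X.all _)) (fun h => absurd (qZ (X.q_r0 1 ▸ h)) (by decide))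
    fun N h1 h2 h3 => ?_
  · rintro _ ⟨v, e, rfl⟩ x hx h
    obtain ⟨k, hk, w, f, u, q⟩ := toM x hx _ (X.q_P v e) h
    by_cases u0 : u = 0
    · rw [u0, X.sd.y0, mul_one, cjm] at q
      exact cjv q ▸ conj_mem_of_mem_normalizer (inv_mem hk.2) (X.q_P ..)
    have s := q ▸ (show k * x * X.q v e * (k * x)⁻¹ * (k * x * X.q v e * (k * x)⁻¹) = X.q 0 (bf v v) by
      rw [conj_mul, q_sq, cz_iff.2 (mul_mem hk.1 hx)])
    have b := (sq_M u0 s).1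
    obtain ⟨j, -, a⟩ := invM u0 (by rw [s, b, q_one])
    obtain ⟨l, hl, c⟩ := to_r (X := X) e b fun d => nD_q e d (St.D.of_conj (St.D.of_conj (q ▸ a ▸ D_r one_ne_zero)))
    exact conj_mem_of_mem_normalizer ((mul_mem_cancel_right (inv_mem (CX_N hl))).1 (f1 _ (mul_mem hx (inv_mem (cx hl).1))
      (by rwa [cjm, cjv c]))) (X.q_P ..)
  by_cases ex : ∃ u, u ≠ 0 ∧ X.y u ∈ N
  · obtain ⟨u, u0, h⟩ := ex
    refine .inr ⟨_, h, X.sd.y2 u, _, X.q_P (0, 0, 1, 0) 0, fun k => ?_⟩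
    rw [ya, q_inv, q_mul] at k
    exact u0 (by simpa [ym] using congrArg Prod.fst (qZ k))
  push Not at ex
  have A1 : ∀ n ∈ N, ∀ u, X.Ac n (ym u) → u = 0 := fun n hn u a => by_contra fun u0 => by
    obtain ⟨v, e, o, ho, q⟩ := memP ((a.mul (Ac.y u)).congr (ym_ym u))
    have : X.y u * o ∈ N := by
      rw [← mul_mem_cancel_left (h2 (X.q_P v e)), ← y_CO u o ho, ← mul_assoc, ← q, mul_assoc, X.sd.y2, mul_one]; exact hn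
    have := pow_mem this (orderOf o)
    rw [(show Commute o _ from y_CO u o ho).symm.mul_pow, pow_orderOf_eq_one, mul_one,
      odd_ind (p := (· = X.y u)) rfl (fun _ k => by rw [k, X.sd.y2, one_mul]) ho.1] at this
    exact ex u u0 this
  have A2 : ∀ n ∈ N, n ∈ 𝐍(X.V) → X.Ac n id := fun n hn hV => by
    obtain ⟨u, μ, μ0, a⟩ := Ty.zz (h1 hn).2 hV (cz_iff.2 (h1 hn).1)
    have b := a.inv (K := fun v => ac false false 1 (μ * μ) (ym u v)) (by clear * - μ0; decide +revert +kernel)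
    obtain rfl : μ = 1 := ae.1 (A1 _ (mul_mem hn (h3 _ (cx (y_CX 1)) _ (inv_mem hn))) (μ + 1)
      ((a.mul (((Ac.y 1).mul b).mul ((Ac.y 1).inv (ym_ym 1)))).congr (by clear * - μ0; decide +revert +kernel)))
    obtain rfl := A1 n hn u (a.congr fun v => by simp [ac, th])
    exact a.congr fun v => by simp [ac, th, ym0]
  have A3 : ∀ n ∈ N, X.Ac n id := fun n hn => by
    obtain ⟨F, a⟩ := Ac.ex (h1 hn).2
    rcases (by decide +kernel : ∀ v, dg v → (∃ x, v = (x, 0, 0, 0)) ∨ ∃ u x, wm (1, 1, 1, 0) (ym u v) = (x, 0, 0, 0)) _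
      (a.dg (v := (1, 0, 0, 0)) (.inl ⟨rfl, rfl, rfl⟩)) with ⟨x, k⟩ | ⟨u, x, k⟩
    · exact A2 n hn (nV a k)
    have hn' := h3 _ (cx (y_CX u)) n hn
    have a1 := (Ac.wd (1, 1, 1, 0)).mul (((Ac.y u).mul a).mul ((Ac.y u).inv (ym_ym u)))
    generalize X.y u * n * (X.y u)⁻¹ = n' at *
    obtain ⟨u', μ, μ0, b⟩ := Ty.zz a1.norm (nV a1 (x := x) (by simpa [ym] using k))
      ((CX_Z (wd_CX _)).mul (cz_iff.2 (h1 hn').1))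
    have c := ((Ac.wd (1, 1, 1, 0)).inv (K := wi (1, 1, 1, 0)) fun v => by simp [wm, wi, ym_ym, yn_yn]).mul b
    rw [inv_mul_cancel_left] at c
    obtain ⟨w, x, k1, k2⟩ := (by decide +kernel : ∀ u μ, μ ≠ 0 → ∃ w x,
      (fun F : Vc → Vc => F (wm w (F (wi w (1, 0, 0, 0)))) = (x, 0, 0, 0) ∧ ¬ (F (wm w (F (wi w (0, 1, 0, 0)))) = (0, 1, 0, 0) ∧
        F (wm w (F (wi w (0, 0, 1, 0)))) = (0, 0, 1, 0))) fun v => wi (1, 1, 1, 0) (ym u (ac false false 1 μ v))) u' μ μ0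
    have d := c.mul (((Ac.wd w).mul c).mul ((Ac.wd w).inv (K := wi w) fun v => by simp [wm, wi, ym_ym, yn_yn]))
    have := d.uniq (A2 _ (mul_mem hn' (h3 _ (cx (wd_CX w)) _ hn')) (nV d k1))
    exact absurd ⟨this _, this _⟩ k2
  refine .inl fun n hn => ⟨?_, memP2 (A3 n hn)⟩
  rintro _ ⟨v, e, rfl⟩
  obtain ⟨f, q⟩ := A3 n hn v e
  exact mem_Z.2 ⟨_, by rw [q, q_inv, q_mul, id, vv]⟩

theorem CZ {c : G} (h : X.Cz c) : ∃ k ∈ X.CX, ∃ o, X.Od o ∧ c = k * o := by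
  have hP := CZ_N (cz_iff.1 h)
  obtain ⟨k, hk, hV⟩ := nf1 hP
  obtain ⟨u, μ, μ0, a⟩ := Ty.zz (mul_mem (CX_N hk) hP) hV ((CX_Z hk).mul h)
  obtain ⟨w, hw⟩ := (by decide +kernel : ∀ μ, μ ≠ 0 → ∃ w, ∀ v, wm w (ac false false 1 μ v) = v) μ μ0
  obtain ⟨v, e, o, ho, q⟩ := memP (((Ac.wd w).mul ((Ac.y u).mul a)).congr fun v => by simp only [ym_ym, hw, id])
  exact ⟨(X.wd w * (X.y u * k))⁻¹ * X.q v e, mul_mem (inv_mem (mul_mem (wd_CX w) (mul_mem (y_CX u) hk)))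
    (P_CX (X.q_P ..)), o, ho, by rw [mul_assoc, ← q]; group⟩

theorem τ_ac : X.Ac X.τ tau := τ_sl0.1.congr fun _ => ym0 _
variable (X) in
/-- the group `Q ∩ P` -/
def Q0 : Subgroup G where
  carrier := {g | ∃ v e, tau v = v ∧ g = X.q v e}
  mul_mem' := by
    rintro _ _ ⟨v, e, h, rfl⟩ ⟨w, f, k, rfl⟩; exact ⟨_, _, by rw [(τ_ac (X := X)).add, h, k], X.q_mul ..⟩
  one_mem' := ⟨_, _, by decide, X.q_one.symm⟩
  inv_mem' := by rintro _ ⟨v, e, h, rfl⟩; exact ⟨_, _, h, X.q_inv ..⟩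
variable (X) in
/-- the extraspecial group -/
def Q : Subgroup G := zpowers X.τ ⊔ X.Q0

theorem nQ0 {g : G} {F : Vc → Vc} (h : X.Ac g F) (k : ∀ v, tau (F v) = F (tau v)) : g ∈ 𝐍(X.Q0) :=
  mem_normalizer_of_cj_le fun _ hg => by
    obtain ⟨_, ⟨v, e, a, rfl⟩, rfl⟩ := mem_cj'.1 hg
    exact let ⟨f, b⟩ := h v e; ⟨_, f, by rw [k, a], b⟩
theorem mem_Q {g : G} : g ∈ X.Q ↔ g ∈ X.Q0 ∨ ∃ m ∈ X.Q0, g = m * X.τ := mem_ext τ2 (nQ0 τ_ac fun _ => rfl)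
theorem q_Q {v : Vc} (h : tau v = v) (e : F4) : X.q v e ∈ X.Q := mem_Q.2 (.inl ⟨v, e, h, rfl⟩)
theorem τ_Q : X.τ ∈ X.Q := mem_sup_left (mem_zpowers _)
theorem Q_le {U : Subgroup G} (h : X.τ ∈ U) (k : ∀ v e, tau v = v → X.q v e ∈ U) : X.Q ≤ U :=
  sup_le (zpowers_le.2 h) (by rintro _ ⟨v, e, a, rfl⟩; exact k v e a)
theorem Q_S : X.Q ≤ X.S := Q_le τ_S fun _ _ _ => M_S (P_M (X.q_P ..))
theorem nQ {g : G} (h : g ∈ 𝐍(X.Q0)) (k : g * X.τ * g⁻¹ ∈ X.Q) : g ∈ 𝐍(X.Q) := mem_normalizer_of_cj_le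
  (cj_le_iff.2 (Q_le (mem_cj.2 (by simpa using k)) fun v e a => mem_cj.2 (by
    simpa using mem_Q.2 (.inl (conj_mem_of_mem_normalizer h ⟨v, e, a, rfl⟩)))))
theorem P_Q : X.P ≤ 𝐍(X.Q) := fun g h => nQ (nQ0 (.of_P h) fun _ => rfl) (by
  obtain ⟨v, e, rfl⟩ := h
  obtain ⟨f, a⟩ := τ_ac (X := X) v (e + bf v v)
  rw [q_inv, mul_assoc, ← inv_mul_cancel_right (X.τ * _) X.τ, a, ← mul_assoc, q_mul]
  exact mul_mem (q_Q (by clear * -; decide +revert +kernel) _) τ_Q)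
theorem nQ' {g : G} {F : Vc → Vc} (h : X.Ac g F) (k : ∀ v, tau (F v) = F (tau v)) (k2 : ∀ v, F (F v) = v) :
    g ∈ 𝐍(X.Q) := nQ (nQ0 h k) (by
  obtain ⟨v, e, o, ho, q⟩ := memP ((((h.mul τ_ac).mul (h.inv k2)).mul τ_ac).congr fun v => by
    rw [← k, k2]; clear * -; decide +revert +kernel)
  have m := mul_mem (M_S (P_M (X.q_P v e))) τ_S
  have a : g * X.τ * g⁻¹ = X.q v e * X.τ * o := by rw [mul_assoc _ _ o, ← τ_CO o ho, ← mul_assoc, ← q, mul_assoc _ X.τ X.τ, τ2, mul_one]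
  have s : g * X.τ * g⁻¹ * (g * X.τ * g⁻¹) = 1 := by rw [conj_mul, τ2]; simp
  rw [od_one (S_CO m) (.of_mem isP_S m) ho (a ▸ .of_sq s), mul_one] at a
  obtain ⟨b, hb, c⟩ := τ_sl0.cls τ2 (X.q_P v e) (a ▸ s)
  exact a ▸ c ▸ conj_mem_of_mem_normalizer (P_Q hb) τ_Q)
theorem CX_Q : X.CX ≤ 𝐍(X.Q) := CX_le P_Q (fun u => nQ' (Ac.y u) (by clear * -; decide +revert +kernel) (ym_ym u))
  fun u => nQ' (Ac.y' u) (by clear * -; decide +revert +kernel) (yn_yn u)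
theorem S_Q : X.S ≤ 𝐍(X.Q) := sup_le (zpowers_le.2 (le_normalizer τ_Q)) (M_CX.trans CX_Q)
theorem od_Q {o : G} (h : X.Od o) : o ∈ 𝐂(X.Q) := fun _ k => (S_CO (Q_S k) o h).symm
theorem CZ_Q {c : G} (h : X.Cz c) : c ∈ 𝐍(X.Q) := by
  obtain ⟨k, hk, o, ho, rfl⟩ := CZ h; exact mul_mem (CX_Q hk) (centralizer_le_normalizer _ (od_Q ho))
theorem cz_of {c : G} (h : c ∈ centralizer {X.q 0 1}) (k : c * X.q 0 ω * c⁻¹ = X.q 0 ω) : X.Cz c :=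
  F4.forall_iff.2 ⟨by simp [q_one], cz1.1 h, k, by rw [show X.q 0 ϖ = _ from (X.qz 0 ω 1).symm, cjs, k, cz1.1 h]⟩
theorem CX_H : X.CX ≤ centralizer {X.q 0 1} := fun _ h => cz1.2 (CX_Z h 1)
theorem S_H : X.S ≤ centralizer {X.q 0 1} := fun _ h => (S_N0 h).2

variable (X) in
/-- conjugates of `z ω` in the centraliser of `z` -/
def Gz (i : G) : Prop := ∃ k ∈ centralizer {X.q 0 1}, k * X.q 0 ω * k⁻¹ = i
theorem Gz.cj {i k : G} (h : X.Gz i) (hk : k ∈ centralizer {X.q 0 1}) : X.Gz (k * i * k⁻¹) :=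
  let ⟨j, a, b⟩ := h; ⟨k * j, mul_mem hk a, by rw [cjm, b]⟩
theorem Gz.sq {i : G} (h : X.Gz i) : i * i = 1 := by
  obtain ⟨k, -, rfl⟩ := h; rw [conj_mul, q_sq]; simp [bf, q_one]
theorem Gz.nD {i : G} (h : X.Gz i) : ¬ X.D i := by obtain ⟨k, -, rfl⟩ := h; exact fun d => nDz ω d.of_conj
theorem k0_t : X.k0 * X.q 0 ω * X.k0⁻¹ = X.p 1 0 ω := by rw [q_z, k0_w]; rfl
theorem w_v (a e : F4) : X.p 0 a 0 * X.p 1 0 e * (X.p 0 a 0)⁻¹ = X.p 1 0 (e + a) := by simp [X.p_conj]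
theorem Gz.v (e : F4) : X.Gz (X.p 1 0 e) := by
  simpa [w_v, aa'] using Gz.cj ⟨_, cz1.2 k0_z, k0_t⟩ (CX_H (P_CX (X.p_P 0 (ω + e) 0)))

theorem Gz.h2v {x e : F4} (h : X.Gz (X.p x 0 e)) : x = 0 ∨ x = 1 := by
  haveI := Fact.mk Nat.prime_two
  obtain ⟨k, hk, q⟩ := h
  obtain ⟨c, hc, a⟩ := M_syl.exists_cj_le (isPGroup_cj (isP_M.to_le (Y_M (X := X))) k⁻¹) fun _ hg' => by
    obtain ⟨g, hg, rfl⟩ := mem_cj'.1 hg'
    refine cz_iff.1 (cz_of (mul_mem (mul_mem (inv_mem hk) (S_H (M_S (Y_M hg)))) (inv_mem (inv_mem hk))) ?_)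
    rw [← cjv q, cjc, Y_v hg]
  have a1 : c * k⁻¹ * X.q 0 1 * (c * k⁻¹)⁻¹ = X.q 0 1 := by rw [cjm, cz1.1 (inv_mem hk), cz_iff.2 hc]
  have a2 : c * k⁻¹ * X.p x 0 e * (c * k⁻¹)⁻¹ = X.q 0 ω := by rw [cjm, cjv q, cz_iff.2 hc]
  have b : ∀ g ∈ X.Y, c * k⁻¹ * g * (c * k⁻¹)⁻¹ ∈ X.M := fun g hg => cjm c k⁻¹ g ▸ a (cj_mem c (cj_mem k⁻¹ hg))
  generalize c * k⁻¹ = j at a1 a2 b
  have d : ∀ g ∈ X.Y, ∀ f, f ≠ 0 → j * (g * g) * j⁻¹ = X.q 0 f → j * g * j⁻¹ ∈ X.P := fun g hg f f0 h => by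
    obtain ⟨v, e, u, q⟩ := b g hg
    by_cases u0 : u = 0
    · exact ⟨v, e, by rw [q, u0, X.sd.y0, mul_one]⟩
    · exact absurd (sq_M u0 (by rwa [← q, conj_mul])).1 f0
  by_contra n
  obtain ⟨c, b, u, k1, k2, k3⟩ := (by decide : ∀ x e : F4, ¬ (x = 0 ∨ x = 1) → ∃ c b u : F4, c * u + b * (u * u) = x ∧
    c * b + b * b * u = e ∧ ¬ ((1 + c) * u + (1 + b) * (u * u) = 0 ∨ (1 + c) * u + (1 + b) * (u * u) = x)) x e n
  have hY : X.q (0, 0, c, b) 0 * X.y u ∈ X.Y := ⟨_, _, _, _, _, rfl⟩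
  obtain ⟨v, f, a⟩ := mul_mem (d _ (q_Y 0 1 1 0) 1 one_ne_zero (by rw [q_sq]; exact a1)) (d _ hY ω (by decide) (by
    rw [Y_mul, aa u, X.sd.y0, mul_one, aa c, aa b, q_p, ← a2]; simp [k1, k2]))
  obtain ⟨e', a3⟩ : ∃ e', j * X.p ((1 + c) * u + (1 + b) * (u * u)) 0 e' * j⁻¹ = X.q 0 (bf v v) :=
    ⟨_, by rw [← X.q_sq v f, ← a, conj_mul, conj_mul, ← mul_assoc (X.q _ _), q_mul, Prod.mk_add_mk, Prod.mk_add_mk, Prod.mk_add_mk,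
      add_zero, Y_mul, aa u, X.sd.y0, mul_one, aa (1 + c), aa (1 + b), q_p, aa, zero_add]⟩
  rcases cas (bf v v) with k | k | k | k <;> rw [k] at a3
  · rw [q_one, conj_eq_one_iff, X.p_one] at a3; exact k3 (.inl a3.1)
  · rw [← a1, cji, q_z, X.p_eq] at a3; exact k3 (.inl a3.1)
  · rw [← a2, cji, X.p_eq] at a3; exact k3 (.inr a3.1)
  · rw [show X.q 0 ϖ = _ from (X.qz 0 ω 1).symm, ← a1, ← a2, conj_mul, cji, q_z, X.mul_z, X.p_eq] at a3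
    exact k3 (.inr a3.1)

theorem Gz.cases {i : G} (h : X.Gz i) (hS : i ∈ X.S) : ∃ k ∈ X.CX, k * i * k⁻¹ = X.q 0 ω ∨ k * i * k⁻¹ = X.q 0 ϖ ∨
    k * i * k⁻¹ = X.p 1 0 ω ∨ k * i * k⁻¹ = X.τ := by
  rcases mem_S.1 hS with ⟨v, e, u, rfl⟩ | ⟨_, ⟨v, e, u, rfl⟩, rfl⟩
  · obtain rfl : u = 0 := by_contra fun u0 => let ⟨_, _, q⟩ := invM u0 h.sq; h.nD (.of_conj (q ▸ D_r one_ne_zero))
    rw [X.sd.y0, mul_one] at *
    obtain ⟨k, hk, x, f, q⟩ := to_v (X := X) e (by_contra fun d => h.nD (D_q e (sq0 h.sq) d))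
    have := q ▸ h.cj (CX_H hk)
    rcases this.h2v with rfl | rfl
    · obtain ⟨j, hj, a⟩ := this
      rw [← q_z] at q a
      rcases cas f with rfl | rfl | rfl | rfl
      · rw [q_one, conj_eq_one_iff, ← X.q_one, q_eq] at a; exact absurd a.2 (by decide)
      · rw [← cz1.1 hj, cji, q_eq] at a; exact absurd a.2 (by decide)
      exacts [⟨k, hk, .inl q⟩, ⟨k, hk, .inr (.inl q)⟩]
    · exact ⟨_, mul_mem (P_CX (X.p_P 0 (f + ω) 0)) hk, .inr (.inr (.inl (by rw [cjm, q, w_v, aa'])))⟩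
  · obtain ⟨a, ha, q⟩ := invT h.sq
    obtain rfl : u = 0 := by_contra fun u0 => h.nD (q ▸ (D_q 0 (by simp [bf]) (by simp [dg, u0])).conj _)
    exact ⟨a⁻¹, P_CX (inv_mem ha), .inr (.inr (.inr (cjv (by rw [q, cjm, q_p]; rfl))))⟩
theorem Gz.Q {i : G} (h : X.Gz i) (hS : i ∈ X.S) : i ∈ X.Q := by
  obtain ⟨k, hk, q⟩ := h.cases hS
  have : k * i * k⁻¹ ∈ X.Q := by
    rcases q with q | q | q | q <;> rw [q]
    exacts [q_Q (by decide) _, q_Q (by decide) _, X.q_p 1 0 ω ▸ q_Q (by decide) _, τ_Q]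
  simpa [mul_assoc] using conj_mem_of_mem_normalizer' (CX_Q hk) this
theorem Qgen {U : Subgroup G} (h : ∀ i ∈ X.Q, X.Gz i → i ∈ U) : X.Q ≤ U := by
  have a : ∀ e, X.p 1 0 e ∈ U := fun e => h _ (X.q_p 1 0 e ▸ q_Q (by decide) _) (.v e)
  have b : ∀ v e, tau v = v → dg v → X.q v e ∈ U := fun v e k d => by
    by_cases v0 : v = 0
    · simpa [X.v_mul, aa, v0, q_z] using mul_mem (a 0) (a e)
    obtain ⟨u, hu⟩ := (by decide +kernel : ∀ v, tau v = v → dg v → v ≠ 0 → ∃ u, wm u v = (1, 0, 0, 0)) v k d v0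
    obtain ⟨f, q⟩ := Ac.wd (X := X) u v e
    exact h _ (q_Q k e) (cjv q ▸ (hu ▸ X.q_p 1 0 f ▸ Gz.v f : X.Gz (X.q (wm u v) f)).cj (CX_H (inv_mem (wd_CX u))))
  refine Q_le (h _ τ_Q ((Gz.v 0).cj (cz1.2 k0_z))) fun v e k => ?_
  obtain ⟨w, k1, k2, k3, k4⟩ := (by decide +kernel : ∀ v, tau v = v → ∃ w, tau w = w ∧ dg w ∧ tau (w + v) = w + v ∧
    dg (w + v)) v k
  simpa [q_mul, ← add_assoc, vv, aa, add_assoc e] using mul_mem (b w e k1 k2) (b _ (bf w (w + v)) k3 k4)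

theorem k0_Q : X.k0 ∈ 𝐍(X.Q) := by
  have hτ : X.k0 * X.τ * X.k0⁻¹ ∈ X.S := by
    have a := k0_n (X := X) τ_N0.1.1 (mem_normalizer_of_cj_le fun _ hg' => by
      obtain ⟨_, hg, rfl⟩ := mem_cj'.1 hg'
      obtain ⟨a, e, rfl⟩ := mem_W.1 hg
      obtain ⟨f, q⟩ := τ_ac (X := X) (0, a, 0, 0) e
      exact mem_W.2 ⟨a * a, f, by simpa [tau, ac, th, q_p] using q⟩)
    obtain ⟨κ, q⟩ := τ_sl0.fix (X := X) τ2 (v := (0, 1, 0, 0)) (by decide)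
    have b : ∀ e, X.τ * X.p 0 1 e * X.τ⁻¹ = X.p 0 1 (κ + (κ + e) * (κ + e)) := fun e => by
      rw [← aa' κ e, ← q_p, ← qz, cjs, q, τ_z, qz, q_p, aa']
    have c : ∀ e, X.k0 * X.p 0 (e * e + e) e * X.k0⁻¹ = X.q 0 e := fun e => by rw [k0_w, q_z, add_assoc, aa]
    have d : ∀ e, e * e + e = 1 → ∃ f, X.k0 * X.τ * X.k0⁻¹ * X.q 0 e * (X.k0 * X.τ * X.k0⁻¹)⁻¹ = X.q 0 f := fun e k =>
      ⟨κ + (κ + e) * (κ + e), by
        rw [← c e, cjc, k, b, k0_w, q_z]; congr 1; clear * - k; decide +revert⟩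
    have hz := cz1.1 (mul_mem (mul_mem (cz1.2 k0_z) (τ_N0 (X := X)).2) (inv_mem (cz1.2 k0_z)))
    exact N0_S ⟨⟨npM (nZ (F4.forall_iff.2 ⟨⟨0, by simp [q_one]⟩, ⟨_, hz⟩, d _ rfl, d _ rfl⟩)) one_ne_zero a.2, a.1⟩,
      cz1.2 hz⟩ ((T2.of_sq τ2).conj _)
  have hQ : X.Q ≤ X.S ^ᶜ X.k0⁻¹ := Q_le (mem_cj.2 (by simpa using hτ)) fun ⟨x, a, c, b⟩ e k => mem_cj.2 (by
    have h1 : ∀ e, X.k0 * X.q (0, a, c, b) e * X.k0⁻¹ ∈ X.S := fun e =>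
      M_S (Y_M (k0_Y (by simpa [swap_q] using q_Y (X := X.swap) a c b e)))
    rcases (by decide +kernel : ∀ v, tau v = v → v.1 = 0 ∨ v.1 = 1) _ k with rfl | rfl
    · simpa using h1 e
    · simpa [τ, conj_mul, ← q_p, q_mul, bf, add_assoc, aa] using mul_mem (h1 (e + a)) τ_S)
  exact mem_normalizer_of_cj_le (cj_le_iff.2 (Qgen fun i hi h => mem_cj.2 (by
    simpa using (h.cj (cz1.2 k0_z)).Q (by simpa using mem_cj.1 (hQ hi)))))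

end Su

end H10.Sz
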