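import Cfsg.Agent.Lib.Std.Sz14
import Cfsg.Agent.Lib.W3.Main
import Cfsg.Agent.S0243
import Cfsg.Agent.S0280
import Cfsg.Agent.S0364
import Cfsg.Agent.S1695

/-! Standard subgroups `L₃(4)`, part 15: the Suzuki group. -/

set_option autoImplicit false
set_option maxRecDepth 100000
set_option synthInstance.maxSize 100000
set_option linter.unusedSectionVars false

namespace H10.Sz
open H69 Subgroup Cfsg
open H30 (F4)
open H10.HeS (T2)

variable {G : Type*} [Group G] [Finite G] [IsSimpleGroup G]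

namespace Su
open Hy H1
variable {X : Su G}

theorem od_one' {o : G} (ho : X.Od o) : o = 1 := by
  haveI := Fact.mk Nat.prime_two
  by_contra o1
  have nO : ∀ g, (∀ o, X.Od o → X.Od (g * o * g⁻¹)) → g ∈ 𝐍(Subgroup.closure {o | X.Od o}) := fun g h =>
    mem_normalizer_of_cj_le (cj_le_iff.2 ((closure_le _).2 fun o ho => mem_cj.2 (by simpa using Subgroup.subset_closure (k := {o | X.Od o}) (h o ho))))
  have co : X.CO ≤ 𝐍(Subgroup.closure {o | X.Od o}) := fun g hg => nO g fun o ho => by rwa [← hg o ho, mul_inv_cancel_right]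
  have c1 : ∀ g, g * X.q 0 1 * g⁻¹ = X.q 0 1 → g ∈ 𝐍(Subgroup.closure {o | X.Od o}) := fun g hg => nO g fun o ho => by
    obtain ⟨e, o', -, h, q⟩ := cenQ (conj_mem_of_mem_normalizer (normalizer_le_normalizer_centralizer _ (H_Q (cz1.2 hg)))
      (od_Q ho))
    refine od one_ne_zero (mem_of_sq (by rw [ord_cj]; exact ho.1) ?_) (by rw [ord_cj]; exact ho.1) ?_
    · rw [q, mul_assoc, ← mul_assoc o', X.q_CO _ _ o' h, ← mul_assoc, ← mul_assoc, q_sq]
      simpa [bf, q_one] using mul_mem h.K h.K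
    · rw [q, cjm, h.2.2 1 X.Φ1, q_z, X.kc (rK X.Φ1) (X.p_L ..)]
  have c2 : ∀ g, g * X.r 1 * g⁻¹ = X.r 1 → g ∈ 𝐍(Subgroup.closure {o | X.Od o}) := fun g hg => nO g fun o ho =>
    od one_ne_zero (X.cK (rr one_ne_zero hg) ho.K) (by rw [ord_cj]; exact ho.1) (by rw [← hg, cjc, ho.2.2 1 X.Φ1])
  have ne : ∀ g, g * X.q 0 1 * g⁻¹ ≠ X.r 1 := fun g k => nDz 1 (St.D.of_conj (k ▸ D_r one_ne_zero))
  have cl : ∀ i ∈ 𝐍(Subgroup.closure {o | X.Od o}), i * i = 1 → i ≠ 1 → ∃ k ∈ 𝐍(Subgroup.closure {o | X.Od o}),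
      k * i * k⁻¹ = X.q 0 1 ∨ k * i * k⁻¹ = X.r 1 := fun i hi i2 i1 => by
    obtain ⟨k, hk, q⟩ := toS (S_CO.trans co) hi (.of_sq i2)
    obtain ⟨j, hj, q'⟩ := invS q (by rw [conj_mul, i2]; simp) (by simpa using i1)
    exact ⟨j * k, mul_mem (co hj) hk, by rwa [cjm]⟩
  have z1 : X.q 0 1 ≠ 1 := X.q_z 1 ▸ X.z_ne one_ne_zero
  refine (conj_of_se (H := 𝐍(Subgroup.closure {o | X.Od o})) ⟨fun e => ?_, ?_, fun g hg => ?_⟩ z2 z1 (r2 X.Φ1)
    (r_ne X.Φ1 one_ne_zero)).elim ne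
  · rcases (normalizer_eq_top_iff.1 e).eq_bot_or_eq_top with k | k
    · exact o1 (mem_bot.1 (k ▸ Subgroup.subset_closure ho))
    · exact one_ne_zero (X.pK (x := 0) (a := 0) (e := 1) ((closure_le _).2 (fun _ h => Od.K h) (k ▸ mem_top _))).2.2
  · exact even_iff_two_dvd.2 (H95.orderOf_eq_two_of z2 z1 ▸ orderOf_dvd_natCard _ (c1 _ (by simp)))
  · rw [← Nat.not_even_iff_odd, even_iff_two_dvd]
    intro h2
    obtain ⟨t, ht⟩ := exists_prime_orderOf_dvd_card' 2 h2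
    have t2 : (t : G) * t = 1 := congrArg Subtype.val (show t * t = 1 by rw [← sq, ← ht, pow_orderOf_eq_one])
    have t1 : (t : G) ≠ 1 := fun e => by rw [Subtype.ext (a1 := t) (a2 := 1) e, orderOf_one] at ht; omega
    obtain ⟨k, hk, a⟩ := cl t t.2.1 t2 t1
    obtain ⟨j, hj, b⟩ := cl (g⁻¹ * t * g⁻¹⁻¹) (by simpa using mem_cj.1 t.2.2) (by rw [conj_mul, t2]; simp)
      (fun e => t1 ((cji g⁻¹).1 (e.trans (by simp))))
    have c : ∀ a, k * t * k⁻¹ = a → j * g⁻¹ * k⁻¹ * a * (j * g⁻¹ * k⁻¹)⁻¹ = j * (g⁻¹ * t * g⁻¹⁻¹) * j⁻¹ :=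
      fun a e => by rw [← e]; group
    refine hg (inv_mem_iff.1 ((mul_mem_cancel_left hj).1 ((mul_mem_cancel_right (inv_mem hk)).1 ?_)))
    rcases a with a | a <;> rcases b with b | b
    exacts [c1 _ ((c _ a).trans b), absurd ((c _ a).trans b) (ne _), absurd (cjv ((c _ a).trans b)) (ne _),
      c2 _ ((c _ a).trans b)]

theorem l3 : H95.L3 X.Q (X.q 0 1) := by
  have c : ∀ g, (∀ x ∈ X.Q, x * g = g * x) → g = 1 ∨ g = X.q 0 1 := fun g h => by
    obtain ⟨e, o, a, b, rfl⟩ := cenQ (g := g) h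
    rw [od_one' b, mul_one]
    exact a.imp (by rintro rfl; exact X.q_one) (by rintro rfl; rfl)
  exact ⟨⟨q_Q (by decide) 1, X.q_z 1 ▸ X.z_ne one_ne_zero, z2, fun _ h => mem_centralizer_singleton_iff.1 (Q_H h),
    fun x hx y hy => (cjQ hx hy).imp mul_inv_eq_iff_eq_mul.1 fun k => by
      rw [mul_inv_eq_iff_eq_mul.1 k, mul_assoc, mem_centralizer_singleton_iff.1 (Q_H (mul_mem hy hx))],
    fun x _ h => c x fun y hy => (h y hy).symm, _, q_Q (v := (1, 0, 0, 0)) (by decide) 0, _,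
    q_Q (v := (0, 1, 0, 0)) (by decide) 0, by rw [Ne, q_comm]; decide⟩, c,
    fun g h => H_Q (mem_centralizer_singleton_iff.2 h)⟩

theorem card_fx : Nat.card (Bool × {v // tau v = v} × F4) = 2 ^ 7 := by
  rw [Nat.card_eq_fintype_card]; decide +kernel

theorem card_Q : Nat.card X.Q = 2 ^ 7 := by
  refine (Nat.card_congr (Equiv.ofBijective (fun u : Bool × {v // tau v = v} × F4 =>
    (⟨X.q u.2.1 u.2.2 * cond u.1 X.τ 1, mul_mem (q_Q u.2.1.2 _) (by cases u.1; exacts [one_mem _, τ_Q])⟩ : X.Q))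
      ⟨?_, ?_⟩)).symm.trans card_fx
  · rintro ⟨b, v, e⟩ ⟨b', v', e'⟩ h
    replace h := congrArg Subtype.val h
    cases b <;> cases b' <;> simp only [cond, mul_one, mul_left_inj] at h
    · simpa [Subtype.ext_iff, q_eq] using h
    · exact absurd ((mul_mem_cancel_left (X.q_P ..)).1 (h ▸ X.q_P ..)) τ_P
    · exact absurd ((mul_mem_cancel_left (X.q_P ..)).1 (h.symm ▸ X.q_P ..)) τ_P
    · simpa [Subtype.ext_iff, q_eq] using h
  · rintro ⟨g, hg⟩
    rcases mem_Q.1 hg with ⟨v, e, k, rfl⟩ | ⟨_, ⟨v, e, k, rfl⟩, rfl⟩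
    exacts [⟨(false, ⟨v, k⟩, e), Subtype.ext (mul_one _)⟩, ⟨(true, ⟨v, k⟩, e), rfl⟩]

theorem card_M : Nat.card X.M = 2 ^ 12 := by
  refine (Nat.card_congr (Equiv.ofBijective (fun u : Vc × F4 × F4 => (⟨X.q u.1 u.2.1 * X.y u.2.2, _, _, _, rfl⟩ : X.M))
    ⟨fun ⟨v, e, u⟩ ⟨v', e', u'⟩ h => ?_, fun ⟨_, v, e, u, rfl⟩ => ⟨(v, e, u), rfl⟩⟩)).symm.trans ?_
  · replace h : X.q v e * X.y u = X.q v' e' * X.y u' := congrArg Subtype.val h
    obtain rfl : u = u' := by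
      have : ym u (0, 0, 1, 0) = ym u' (0, 0, 1, 0) :=
        ((Ac.of_P (X.q_P ..)).mul (Ac.y u)).uniq (h ▸ (Ac.of_P (X.q_P ..)).mul (Ac.y u')) (0, 0, 1, 0)
      simpa [ym] using congrArg Prod.fst this
    simpa [q_eq] using h
  · have : Nat.card F4 = 4 := Nat.card_eq_fintype_card.trans F4.card_eq
    simp only [Nat.card_prod, this]; rfl

theorem o2 {U : Subgroup G} (hU : IsPGroup 2 U) (h1 : U ≤ centralizer {X.q 0 1}) (h2 : centralizer {X.q 0 1} ≤ 𝐍(U)) :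
    U ≤ X.Q := by
  haveI := Fact.mk Nat.prime_two
  have US := (S_syl.mono S_H le_top).le_of_le_normalizer hU h1 (S_H.trans h2)
  by_contra n
  obtain ⟨a, ha, b, c⟩ := grow isP_S hU (S_H.trans h2) n
  obtain ⟨b, hb, rfl⟩ := topS (US ha) b c
  have := US (conj_mem_of_mem_normalizer (h2 (cz1.2 k0_z)) ha)
  rw [cjs, mul_mem_cancel_right (Q_S (conj_mem_of_mem_normalizer k0_Q hb))] at this
  have := conj_mem_of_mem_normalizer (P_Z (S_N0 this).1.1) (X.z_Z ω)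
  rw [show X.p 0 0 ω = _ from (k0_w 1 ω).symm, cjc, X.p_conj, k0_w, ← q_p] at this
  exact absurd (qZ this) (by decide)

theorem card_l5 : Nat.card (Matrix.ProjectiveSpecialLinearGroup (Fin 5) (ZMod 2)) = 9999360 := by
  have := Cfsg.Agent.S0243.result (F := ZMod 2) (q := 2) (ZMod.card 2) 5 (by norm_num)
  rwa [show ∏ i : Fin 5, (2 ^ 5 - 2 ^ (i : ℕ)) = 9999360 by decide, show 2 - 1 = 1 from rfl, Nat.gcd_one_right, one_mul,
    one_mul] at this

theorem card_u5 : Nat.card (PSU 5 F4 2) = 13685760 := by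
  have h : ∀ n : ℕ, Nat.gcd 5 (2 + 1) * ((2 + 1) * n) = 2 ^ (5 * (5 - 1) / 2) *
      ∏ i ∈ Finset.range 5, (if Even i then 2 ^ (i + 1) + 1 else 2 ^ (i + 1) - 1) → n = 13685760 := fun n this => by
    simp only [Finset.prod_range_succ, Finset.prod_range_zero] at this
    norm_num [Nat.even_iff] at this
    omega
  exact h _ (Cfsg.Agent.S0280.result (F := F4) (q := 2) (F4.card_eq.trans (by norm_num)) 5 (by norm_num))

theorem suz (X : Su G) : Spor.IsoSuz G := by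
  have l := l3 (X := X)
  have hQ := l.toES.le_centralizer
  have no : ∀ {Y : Type} [Group Y] {n : ℕ}, Nonempty (G ≃* Y) → Nat.card Y = n → ¬ 2 ^ 12 ∣ n → False :=
    fun ⟨f⟩ k h => h (by rw [← k, ← Nat.card_congr f.toEquiv, ← card_M (X := X)]; exact card_subgroup_dvd_card _)
  haveI : (X.Q.subgroupOf (centralizer {X.q 0 1})).Normal :=
    ⟨fun a ha g => (conj_mem_of_mem_normalizer (A := X.Q) (H_Q g.2) ha :)⟩
  rcases H75.W3.main l.toES.orderOf_eq (X.Q.subgroupOf _) (H95.L3.fStar_eq (by rwa [map_subgroupOf_eq_of_le hQ])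
    (map_le_iff_le_comap.1 (o2 (H1.isPGroup_pCore.map _) (map_subtype_le _) fun g hg =>
      le_normalizer_map _ ⟨⟨g, hg⟩, le_normalizer_of_normal (mem_top _), rfl⟩)))
    (l.toES.subgroupOf hQ).isExtraspecial ((Nat.card_congr (subgroupOfEquivOfLe hQ).toEquiv).trans card_Q)
    with k | k | k | k | k
  · exact (no k card_l5 (by norm_num)).elim
  · exact (no k card_u5 (by norm_num)).elim
  · exact (no k Cfsg.Agent.S0364.result (by norm_num)).elim
  · exact (no k Cfsg.Agent.S1695.result.2 (by norm_num)).elim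
  · exact k

end Su

end H10.Sz
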