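import Cfsg.Agent.Lib.Std.Sz1
import Cfsg.Prelude.Def_Local

/-! Standard subgroups `L₃(4)`, part 2: the normaliser. -/

set_option autoImplicit false
set_option maxRecDepth 100000
set_option synthInstance.maxSize 100000
set_option linter.unusedSectionVars false

namespace H10.Sz
open H69 Subgroup Cfsg
open H30 (F4)
open H10.HeS (T2)

/-- a standard subgroup `L₃(4)` in coordinates -/
structure St (G : Type*) [Group G] extends Pm G where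
  L : Subgroup G
  hL : IsStandardSubgroup L
  simple : ∀ M : Subgroup G, M ≤ L → L ≤ 𝐍(M) → M = ⊥ ∨ M = L
  p_L : ∀ x a e, p x a e ∈ L
  h : G
  h_L : h ∈ L
  h3 : h * h * h = 1
  h_p : ∀ x a e, h * p x a e * h⁻¹ = p (ϖ * x) (ϖ * a) (ω * e)
  n : G
  n_L : n ∈ L
  n2 : n * n = 1
  n_p : ∀ x e, n * p x 0 e * n⁻¹ = p e 0 x
  m : G
  m_L : m ∈ L
  m2 : m * m = 1
  m_p : ∀ a e, m * p 0 a e * m⁻¹ = p 0 e a
  cls : ∀ l ∈ L, l * l = 1 → l ≠ 1 → ∃ k ∈ L, k * p 0 0 1 * k⁻¹ = l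
  cen : ∀ l ∈ L, l * p 0 0 1 = p 0 0 1 * l → l ∈ toPm.T
  aut : ∀ y ∈ 𝐍(L), toPm.Act y false false 1 1 → ∃ t ∈ toPm.T, t⁻¹ * y ∈ 𝐂(L)
  gen : ∀ M : Subgroup G, toPm.T ≤ M → h ∈ M → n ∈ M → m ∈ M → L ≤ M

variable {G : Type*} [Group G]

theorem cji (g : G) {a b : G} : g * a * g⁻¹ = g * b * g⁻¹ ↔ a = b := by simp

theorem Pm.Act.swap {X : Pm G} {y : G} {s f : Bool} {l m : F4} (h : X.Act y s f l m) :
    X.swap.Act y s f m l := by
  refine ⟨h.m0, h.l0, fun x a e => ?_, fun e => ?_⟩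
  · obtain ⟨e', k⟩ := h.t a x (e + a * x)
    refine ⟨e' + c2 s f m l x a * c1 s f m l x a, ?_⟩
    rw [Pm.swap_p, Pm.swap_p, k, add_assoc, aa, add_zero]
    cases s <;> rfl
  · simpa [Pm.swap_p, mul_comm] using h.z e

theorem Pm.swap_swap (X : Pm G) : X.swap.swap = X := by
  cases X
  simp only [Pm.swap, Pm.mk.injEq]
  funext x a e
  rw [add_assoc, mul_comm a, aa, add_zero]

theorem std_cj {L : Subgroup G} (h : IsStandardSubgroup L) (g : G) : IsStandardSubgroup (L ^ᶜ g) := by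
  obtain ⟨h1, ⟨h2, h3⟩, h4, h5⟩ := h
  have k : ∀ (A : Subgroup G) y, (A ^ᶜ g) ^ᶜ y = (A ^ᶜ (g⁻¹ * y * g)) ^ᶜ g := fun A y => by
    rw [cj_cj, cj_cj]; congr 2; group
  refine ⟨?_, ⟨?_, fun y hy => ?_⟩, fun y hy e => ?_, ?_⟩
  · have e := L.equivMapOfInjective (MulAut.conj g).toMonoidHom (MulAut.conj g).injective
    refine ⟨haveI := h1.1; Group.IsPerfect.ofSurjective (f := e.toMonoidHom) e.surjective, ?_⟩
    haveI := h1.2
    exact (QuotientGroup.congr _ _ e (by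
      ext y
      constructor
      · rintro ⟨a, ha, rfl⟩
        refine mem_center_iff.2 fun b => ?_
        obtain ⟨b, rfl⟩ := e.surjective b
        exact (map_mul e ..).symm.trans ((congrArg e (mem_center_iff.1 ha b)).trans (map_mul e ..))
      · exact fun hy => ⟨e.symm y, mem_center_iff.2 fun b => e.injective (by
          rw [map_mul, map_mul, e.apply_symm_apply, mem_center_iff.1 hy]), e.apply_symm_apply y⟩)).symm.isSimpleGroup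
  · rwa [← cj_centralizer, card_cj]
  · rw [← cj_centralizer] at hy ⊢
    rw [k, ← cj_inf, card_cj]
    exact h3 _ (by rwa [← cj_normalizer, mem_cj] at hy)
  · rw [k] at hy e
    rw [← cj_commutator, cj_eq_bot_iff] at e
    exact h4 _ (fun q => hy (by rw [q])) e
  · rw [← cj_centralizer, ← cj_normalizer, ← cj_normalizer, h5]

namespace St
variable (Y : St G)

/-- the two sides exchanged -/
def swap : St G :=
  { Y with
    toPm := Y.toPm.swap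
    p_L := fun _ _ _ => Y.p_L ..
    h_p := fun x a e => by simp only [Pm.swap_p, Y.h_p, Pm.p_eq]; clear * -; decide +revert
    n := Y.m, n_L := Y.m_L, n2 := Y.m2, n_p := fun x e => by simp [Pm.swap_p, Y.m_p]
    m := Y.n, m_L := Y.n_L, m2 := Y.n2, m_p := fun x e => by simp [Pm.swap_p, Y.n_p]
    cls := by simpa [Pm.swap_p] using Y.cls
    cen := by simpa [Pm.swap_p, Pm.swap_T] using Y.cen
    aut := fun y hy a => by
      rw [Pm.swap_T]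
      exact Y.aut y hy (by simpa [Pm.swap_swap] using a.swap)
    gen := fun M h1 h2 h3 h4 => Y.gen M (Y.swap_T ▸ h1) h2 h4 h3 }

/-- the conjugate frame -/
def cj (g : G) : St G where
  toPm := Y.toPm.cj g
  L := Y.L ^ᶜ g
  hL := std_cj Y.hL g
  simple M h1 h2 := (Y.simple (M ^ᶜ g⁻¹) (cj_le_iff.2 (by simpa using h1))
    (by rw [← cj_normalizer, le_cj_iff]; simpa using h2)).imp cj_eq_bot_iff.1 fun e => by rw [← e, cj_inv_cj]
  p_L _ _ _ := cj_mem g (Y.p_L ..)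
  h := g * Y.h * g⁻¹
  h_L := cj_mem g Y.h_L
  h3 := by rw [conj_mul, conj_mul, Y.h3]; group
  h_p x a e := by simp only [Pm.cj, ← Y.h_p]; group
  n := g * Y.n * g⁻¹
  n_L := cj_mem g Y.n_L
  n2 := by rw [conj_mul, Y.n2]; group
  n_p x e := by simp only [Pm.cj]; rw [← Y.n_p x e]; group
  m := g * Y.m * g⁻¹
  m_L := cj_mem g Y.m_L
  m2 := by rw [conj_mul, Y.m2]; group
  m_p x e := by simp only [Pm.cj]; rw [← Y.m_p x e]; group
  cls l hl h2 h1 := by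
    obtain ⟨l, hl', rfl⟩ := mem_cj'.1 hl
    obtain ⟨k, hk, rfl⟩ := Y.cls l hl' (by simpa [conj_mul] using h2) (by simpa using h1)
    exact ⟨_, cj_mem g hk, by simp only [Pm.cj]; group⟩
  cen l hl h := by
    obtain ⟨l, hl', rfl⟩ := mem_cj'.1 hl
    rw [Pm.cj_T]
    exact cj_mem g (Y.cen l hl' (by simpa [Pm.cj, conj_mul] using h))
  aut y hy a := by
    rw [← cj_normalizer, mem_cj] at hy
    have k : ∀ u v : G, y * (g * u * g⁻¹) * y⁻¹ = g * v * g⁻¹ → g⁻¹ * y * g * u * (g⁻¹ * y * g)⁻¹ = v :=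
      fun u v e => by rw [← cji g, ← e]; group
    obtain ⟨t, ht, e⟩ := Y.aut _ hy (.of_triv (fun x b e => (a.triv.1 x b e).imp fun _ => k _ _)
      fun e => k _ _ (a.triv.2 e))
    refine ⟨_, Y.cj_T g ▸ cj_mem g ht, ?_⟩
    rw [← cj_centralizer, mem_cj]
    convert e using 1; group
  gen M h1 h2 h3 h4 := cj_le_iff.2 (Y.gen _ (cj_le_iff.1 (Y.cj_T g ▸ h1)) (by rwa [mem_cj, inv_inv])
    (by rwa [mem_cj, inv_inv]) (by rwa [mem_cj, inv_inv]))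

theorem T_L : Y.T ≤ Y.L := by rintro _ ⟨x, a, e, rfl⟩; exact Y.p_L ..
theorem LN {l : G} (h : l ∈ Y.L) : l ∈ 𝐍(Y.L) := le_normalizer h
theorem KN {k : G} (h : k ∈ 𝐂(Y.L)) : k ∈ 𝐍(Y.L) := centralizer_le_normalizer _ h
theorem cK {y k : G} (hy : y ∈ 𝐍(Y.L)) (hk : k ∈ 𝐂(Y.L)) : y * k * y⁻¹ ∈ 𝐂(Y.L) :=
  conj_mem_of_mem_normalizer (normalizer_le_normalizer_centralizer _ hy) hk
theorem cL {y l : G} (hy : y ∈ 𝐍(Y.L)) (hl : l ∈ Y.L) : y * l * y⁻¹ ∈ Y.L := conj_mem_of_mem_normalizer hy hl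
theorem pk {k : G} (hk : k ∈ 𝐂(Y.L)) (x a e : F4) : Y.p x a e * k = k * Y.p x a e := hk _ (Y.p_L ..)
theorem kc {k l : G} (hk : k ∈ 𝐂(Y.L)) (hl : l ∈ Y.L) : l * k * l⁻¹ = k := by rw [hk l hl]; group
theorem act_h : Y.Act Y.h false false ϖ ϖ := ⟨by decide, by decide, fun _ _ _ => ⟨_, Y.h_p ..⟩,
  fun e => by rw [Y.h_p]; congr 1⟩
theorem h_z (e : F4) : Y.h * Y.p 0 0 e * Y.h⁻¹ = Y.p 0 0 (ω * e) := Y.h_p ..
theorem h_inv : Y.h⁻¹ = Y.h * Y.h := inv_eq_of_mul_eq_one_left Y.h3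
theorem act_K {k : G} (hk : k ∈ 𝐂(Y.L)) : Y.Act k false false 1 1 :=
  .of_triv (fun _ _ e => ⟨e, conj_eq_of_mem_centralizer hk (Y.p_L ..)⟩)
    fun _ => conj_eq_of_mem_centralizer hk (Y.p_L ..)

theorem hz {e : F4} (he : e ≠ 0) : ∃ j : ℕ, Y.h ^ j * Y.p 0 0 1 * (Y.h ^ j)⁻¹ = Y.p 0 0 e := by
  rcases cas e with rfl | rfl | rfl | rfl
  · exact absurd rfl he
  · exact ⟨0, by simp⟩
  · exact ⟨1, by simp [h_z]⟩
  · exact ⟨2, by rw [sq, mul_inv_rev, ← mul_assoc, mul_assoc Y.h, mul_assoc Y.h, h_z, h_z]; rfl⟩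

theorem cen' {l : G} (hl : l ∈ Y.L) {e : F4} (he : e ≠ 0) (c : l * Y.p 0 0 e = Y.p 0 0 e * l) : l ∈ Y.T := by
  obtain ⟨j, k⟩ := Y.hz he
  obtain ⟨x, a, e', q⟩ := Y.cen ((Y.h ^ j)⁻¹ * l * Y.h ^ j)
    (mul_mem (mul_mem (inv_mem (pow_mem Y.h_L j)) hl) (pow_mem Y.h_L j)) (by
      rw [← cji (Y.h ^ j), ← conj_mul, ← conj_mul (a := Y.p 0 0 1), k]
      simpa [mul_assoc] using c)
  obtain ⟨_, q'⟩ := (Y.act_h.pow j).t x a e'
  exact ⟨_, _, _, by rw [← q', ← q]; group⟩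

theorem LK {l : G} (hl : l ∈ Y.L) (hk : l ∈ 𝐂(Y.L)) : l = 1 := by
  obtain ⟨x, a, e, rfl⟩ := Y.cen l hl (Y.pk hk ..).symm
  have h1 := Y.p_comm.1 (Y.pk hk 1 0 0)
  have h2 := Y.p_comm.1 (Y.pk hk 0 1 0)
  simp only [zero_mul, mul_one, one_mul, mul_zero] at h1 h2
  subst h1 h2
  have := Y.kc hk Y.n_L
  rw [Y.n_p] at this
  rw [← (Y.p_inj this).2.2, Y.p_zero]

theorem pK {x a e : F4} (h : Y.p x a e ∈ 𝐂(Y.L)) : x = 0 ∧ a = 0 ∧ e = 0 := Y.inj _ _ _ (Y.LK (Y.p_L ..) h)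

theorem uq {l k l' k' : G} (hl : l ∈ Y.L) (hk : k ∈ 𝐂(Y.L)) (hl' : l' ∈ Y.L) (hk' : k' ∈ 𝐂(Y.L))
    (e : l * k = l' * k') : l = l' ∧ k = k' := by
  have : l'⁻¹ * l = 1 := Y.LK (mul_mem (inv_mem hl') hl) (by
    rw [show l'⁻¹ * l = k' * k⁻¹ by rw [eq_mul_inv_iff_mul_eq, mul_assoc, e]; group]
    exact mul_mem hk' (inv_mem hk))
  obtain rfl := inv_mul_eq_one.1 this
  exact ⟨rfl, mul_left_cancel e⟩

theorem fix {y l k : G} (hy : y ∈ 𝐍(Y.L)) (hl : l ∈ Y.L) (hk : k ∈ 𝐂(Y.L))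
    (e : y * (l * k) * y⁻¹ = l * k) : y * l * y⁻¹ = l ∧ y * k * y⁻¹ = k :=
  Y.uq (Y.cL hy hl) (Y.cK hy hk) hl hk (by rw [← e]; group)

theorem sq_dec {l k : G} (hl : l ∈ Y.L) (hk : k ∈ 𝐂(Y.L)) (e : l * k * (l * k) = 1) :
    l * l = 1 ∧ k * k = 1 :=
  Y.uq (mul_mem hl hl) (mul_mem hk hk) (one_mem _) (one_mem _) (by
    rw [mul_one, ← e, mul_assoc, mul_assoc, ← mul_assoc k l, ← hk l hl, mul_assoc])

/-- inner elements -/
def In (y : G) : Prop := ∃ l ∈ Y.L, ∃ k ∈ 𝐂(Y.L), y = l * k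

/-- the type of an automorphism -/
def Ty (y : G) (s f : Bool) : Prop := y ∈ 𝐍(Y.L) ∧ ∃ l ∈ Y.L, ∃ a b, Y.Act (l * y) s f a b

/-- conjugates of involutions of the centraliser -/
def D (i : G) : Prop := ∃ g k, k ∈ 𝐂(Y.L) ∧ k * k = 1 ∧ k ≠ 1 ∧ i = g * k * g⁻¹

variable {Y}

theorem D.conj {i : G} (h : Y.D i) (y : G) : Y.D (y * i * y⁻¹) :=
  let ⟨g, k, h1, h2, h3, h4⟩ := h; ⟨y * g, k, h1, h2, h3, by rw [h4]; group⟩
theorem D.of_conj {i y : G} (h : Y.D (y * i * y⁻¹)) : Y.D i := by simpa [mul_assoc] using h.conj y⁻¹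
theorem D.sq {i : G} (h : Y.D i) : i * i = 1 := by
  obtain ⟨g, k, -, h2, -, rfl⟩ := h; rw [conj_mul, h2]; group
theorem D.ne {i : G} (h : Y.D i) : i ≠ 1 := by
  obtain ⟨g, k, -, -, h3, rfl⟩ := h; simpa using h3
theorem D.of_K {k : G} (hk : k ∈ 𝐂(Y.L)) (h2 : k * k = 1) (h1 : k ≠ 1) : Y.D k := ⟨1, k, hk, h2, h1, by simp⟩
theorem D.of_cj {g i : G} (hi : i ∈ 𝐂((Y.cj g).L)) (h2 : i * i = 1) (h1 : i ≠ 1) : Y.D i :=
  ⟨g, g⁻¹ * i * g, mem_cj.1 (by rwa [cj_centralizer]), by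
    rw [← cji g, ← conj_mul]; simpa [mul_assoc] using h2,
    fun e => h1 (by rw [← cji g] at e; simpa [mul_assoc] using e), by group⟩
theorem D.cj {i : G} (h : Y.D i) : ∃ g, i ∈ 𝐂((Y.cj g).L) :=
  let ⟨g, _, h1, _, _, h4⟩ := h; ⟨g, h4 ▸ (cj_centralizer Y.L g).le (cj_mem g h1)⟩

theorem In.mul {y y' : G} (h : Y.In y) (h' : Y.In y') : Y.In (y * y') := by
  obtain ⟨l, hl, k, hk, rfl⟩ := h
  obtain ⟨l', hl', k', hk', rfl⟩ := h'
  exact ⟨_, mul_mem hl hl', _, mul_mem hk hk', by rw [mul_assoc l, ← mul_assoc k, ← hk l' hl']; group⟩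
theorem In.of_L {y : G} (h : y ∈ Y.L) : Y.In y := ⟨y, h, 1, one_mem _, by simp⟩
theorem In.of_K {y : G} (h : y ∈ 𝐂(Y.L)) : Y.In y := ⟨1, one_mem _, y, h, by simp⟩
theorem In.pow {y : G} (h : Y.In y) (n : ℕ) : Y.In (y ^ n) := by
  induction n with
  | zero => exact pow_zero y ▸ .of_L (one_mem _)
  | succ n ih => exact pow_succ y n ▸ ih.mul h
theorem In.mem {y : G} (h : Y.In y) : y ∈ 𝐍(Y.L) := by
  obtain ⟨l, hl, k, hk, rfl⟩ := h; exact mul_mem (Y.LN hl) (Y.KN hk)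
theorem In.conj {y g : G} (h : Y.In y) (hg : g ∈ 𝐍(Y.L)) : Y.In (g * y * g⁻¹) := by
  obtain ⟨l, hl, k, hk, rfl⟩ := h
  exact ⟨_, Y.cL hg hl, _, Y.cK hg hk, by group⟩
theorem In.ty {y : G} (h : Y.In y) : Y.Ty y false false := ⟨h.mem, by
  obtain ⟨l, hl, k, hk, rfl⟩ := h
  exact ⟨l⁻¹, inv_mem hl, 1, 1, by simpa using Y.act_K hk⟩⟩
theorem Ty.of_act {y : G} {s f : Bool} {a b : F4} (hy : y ∈ 𝐍(Y.L)) (h : Y.Act y s f a b) : Y.Ty y s f :=
  ⟨hy, 1, one_mem _, a, b, by rwa [one_mul]⟩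
theorem Ty.mul {y y' : G} {s f s' f' : Bool} (h : Y.Ty y s f) (h' : Y.Ty y' s' f') :
    Y.Ty (y * y') (s ^^ s') (f ^^ f') := by
  obtain ⟨hy, l, hl, a, b, h⟩ := h
  obtain ⟨hy', l', hl', a', b', h'⟩ := h'
  exact ⟨mul_mem hy hy', l * (y * l' * y⁻¹), mul_mem hl (Y.cL hy hl'), _, _, by
    convert h.mul h' using 1; group⟩

variable [Finite G]

theorem ti {k g : G} (hk : k ∈ 𝐂(Y.L)) (t : T2 k) (k1 : k ≠ 1) (h : g * k * g⁻¹ ∈ 𝐂(Y.L)) : g ∈ 𝐍(Y.L) := by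
  by_contra c
  have o := Y.hL.2.1.2 g fun hn => c (Y.hL.2.2.2 ▸ hn)
  refine k1 (conj_eq_one_iff.1 ((t.conj g).eq_one (K := 𝐂(Y.L) ⊓ 𝐂(Y.L) ^ᶜ g) ⟨h, cj_mem g hk⟩
    fun u hu u2 => by_contra fun u1 => ?_))
  have := orderOf_dvd_natCard (⟨u, hu⟩ : ↥(𝐂(Y.L) ⊓ 𝐂(Y.L) ^ᶜ g))
  rw [← orderOf_coe, orderOf_eq_prime ((pow_two u).trans u2) u1] at this
  exact (Nat.not_even_iff_odd.2 o) (even_iff_two_dvd.2 this)

theorem cN {k g : G} (hk : k ∈ 𝐂(Y.L)) (t : T2 k) (k1 : k ≠ 1) (h : g * k = k * g) : g ∈ 𝐍(Y.L) :=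
  ti hk t k1 (by rwa [h, mul_inv_cancel_right])

theorem ti2 {k g g' : G} (hk : k ∈ 𝐂((Y.cj g).L)) (hk' : k ∈ 𝐂((Y.cj g').L)) (t : T2 k) (k1 : k ≠ 1) :
    (Y.cj g).L = (Y.cj g').L := by
  have := ti (g := g * g'⁻¹) hk' t k1
  have h1 : g⁻¹ * k * g ∈ 𝐂(Y.L) := mem_cj.1 (by rwa [cj_centralizer])
  have h2 : g'⁻¹ * k * g' ∈ 𝐂(Y.L) := mem_cj.1 (by rwa [cj_centralizer])
  have := cj_eq_self_iff.2 (ti (g := g'⁻¹ * g) h1 (by simpa using t.conj g⁻¹)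
    (fun e => k1 (by simpa using conj_eq_one_iff.1 (show g⁻¹ * k * g⁻¹⁻¹ = 1 by simpa using e)))
    (by convert h2 using 1; group))
  show Y.L ^ᶜ g = Y.L ^ᶜ g'
  nth_rewrite 2 [← this]
  rw [cj_cj]; congr 2; group

theorem nT {y : G} (hy : y ∈ 𝐍(Y.L)) {e e' : F4} (he : e' ≠ 0) (c : y * Y.p 0 0 e * y⁻¹ = Y.p 0 0 e') :
    y ∈ 𝐍(Y.T) := mem_normalizer_of_cj_le fun _ hg => by
  obtain ⟨_, ⟨x, a, b, rfl⟩, rfl⟩ := mem_cj'.1 hg
  exact Y.cen' (Y.cL hy (Y.p_L ..)) he (by rw [← c, conj_mul, conj_mul, Y.z_comm])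

theorem act_L {l : G} (hl : l ∈ Y.L) {s f : Bool} {a b : F4} (h : Y.Act l s f a b) :
    ∃ j : ℕ, (Y.h ^ j)⁻¹ * l ∈ Y.T := by
  obtain ⟨j, k⟩ := Y.hz (e := a * b * th f 1) (by have := h.l0; have := h.m0; cases f <;> simp [th, *])
  exact ⟨j, Y.cen _ (mul_mem (inv_mem (pow_mem Y.h_L j)) hl) (by
    rw [← h.z] at k
    rw [← mul_inv_eq_iff_eq_mul, ← cji (Y.h ^ j), k]; group)⟩

theorem act_L' {l : G} (hl : l ∈ Y.L) {s f : Bool} {a b : F4} (h : Y.Act l s f a b) :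
    s = false ∧ f = false ∧ a = b := by
  obtain ⟨j, k⟩ := act_L hl h
  have := (Y.act_h.pow j).mul (.of_T k)
  rw [mul_inv_cancel_left] at this
  obtain ⟨h1, h2, h3, h4⟩ := h.uniq this
  exact ⟨h1, h2, h3.trans h4.symm⟩

theorem syl (Y : St G) : IsSylowIn 2 Y.T Y.L := by
  haveI := Fact.mk Nat.prime_two
  refine isSylowIn_of_normalizer Y.T_L ⟨le_inf Y.T_L le_normalizer, Y.isP_T, fun R h1 h2 h3 =>
    le_antisymm (fun y hy => ?_) h1⟩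
  obtain ⟨s, f, a, b, h⟩ := Pm.act_of_norm (h2 hy).2
  obtain ⟨rfl, rfl, -⟩ := act_L' (h2 hy).1 h
  obtain ⟨rfl, rfl⟩ := h.two (.of_mem h3 hy)
  exact Y.cen y (h2 hy).1 (mul_inv_eq_iff_eq_mul.1 (h.triv.2 1))

theorem Ty.ex {y : G} (hy : y ∈ 𝐍(Y.L)) : ∃ s f, Y.Ty y s f := by
  haveI := Fact.mk Nat.prime_two
  obtain ⟨l, hl, a, ha, rfl⟩ := Y.syl.frattini hy
  obtain ⟨s, f, b, c, h⟩ := Pm.act_of_norm ha
  exact ⟨s, f, hy, l⁻¹, inv_mem hl, b, c, by rwa [inv_mul_cancel_left]⟩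

theorem Ty.uniq {y : G} {s f s' f' : Bool} (h : Y.Ty y s f) (h' : Y.Ty y s' f') : s = s' ∧ f = f' := by
  obtain ⟨-, l, hl, a, b, h⟩ := h
  obtain ⟨-, l', hl', a', b', h'⟩ := h'
  obtain ⟨s1, f1, a1, b1, k⟩ := Pm.act_of_norm (mul_mem h.norm (inv_mem h'.norm))
  have := k.mul h'
  rw [inv_mul_cancel_right] at this
  obtain ⟨rfl, rfl, -⟩ := act_L' (l := l * y * (l' * y)⁻¹) (by simpa [mul_assoc] using mul_mem hl (inv_mem hl')) k
  simpa using (⟨(h.uniq this).1, (h.uniq this).2.1⟩ : _ ∧ _)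

theorem Ty.inv {y : G} {s f : Bool} (h : Y.Ty y s f) : Y.Ty y⁻¹ s f := by
  obtain ⟨s', f', k⟩ := Ty.ex (inv_mem h.1)
  obtain ⟨h1, h2⟩ := (h.mul k).uniq (In.of_L (by simpa using one_mem _)).ty
  convert k <;> revert h1 h2 <;> cases s <;> cases s' <;> cases f <;> cases f' <;> simp

theorem Ty.two {y : G} (h : Y.Ty y false false) (t : T2 y) : Y.In y := by
  obtain ⟨hy, l, hl, a, b, h⟩ := h
  obtain ⟨u, hu, k⟩ := Y.aut _ (pow_mem (mul_mem (Y.LN hl) hy) 3) h.cube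
  have : Y.In (y ^ 3) := ⟨(y * y * l⁻¹ * (y * y)⁻¹) * (y * l⁻¹ * y⁻¹) * l⁻¹ * u, mul_mem (mul_mem (mul_mem
    (Y.cL (mul_mem hy hy) (inv_mem hl)) (Y.cL hy (inv_mem hl))) (inv_mem hl)) (Y.T_L hu), _, k, by
      simp only [pow_three]; group⟩
  obtain ⟨n, e⟩ := t
  obtain ⟨j, hj⟩ := exists_pow_eq_self_of_coprime (x := y) (n := 3) (Nat.Coprime.coprime_dvd_right
    (orderOf_dvd_of_pow_eq_one e) (Nat.Coprime.pow_right n (by decide)))
  exact hj ▸ this.pow j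

theorem In.sq {y : G} (hy : y ∈ 𝐍(Y.L)) (t : T2 y) : Y.In (y * y) := by
  obtain ⟨s, f, h⟩ := Ty.ex hy
  exact Ty.two (by simpa using h.mul h) (t.mul t rfl)

theorem In.cm {y y' : G} (hy : y ∈ 𝐍(Y.L)) (hy' : y' ∈ 𝐍(Y.L)) (t : T2 (y * y' * y⁻¹ * y'⁻¹)) :
    Y.In (y * y' * y⁻¹ * y'⁻¹) := by
  obtain ⟨s, f, h⟩ := Ty.ex hy
  obtain ⟨s', f', h'⟩ := Ty.ex hy'
  exact Ty.two (by convert ((h.mul h').mul h.inv).mul h'.inv <;> cases s <;> cases s' <;> cases f <;>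
    cases f' <;> rfl) t

theorem tk_of_act {y : G} (hy : y ∈ 𝐍(Y.L)) (h : Y.Act y false false 1 1) :
    ∃ x a e, ∃ k ∈ 𝐂(Y.L), y = Y.p x a e * k := by
  obtain ⟨_, ⟨x, a, e, rfl⟩, k⟩ := Y.aut y hy h
  exact ⟨x, a, e, _, k, by group⟩

theorem In.tk {y : G} (h : Y.In y) (t : T2 y) (hT : y ∈ 𝐍(Y.T)) :
    ∃ x a e, ∃ k ∈ 𝐂(Y.L), y = Y.p x a e * k := by
  obtain ⟨s, f, a, b, q⟩ := Pm.act_of_norm hT
  obtain ⟨rfl, rfl⟩ := (Ty.of_act h.mem q).uniq h.ty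
  obtain ⟨rfl, rfl⟩ := q.two t
  exact tk_of_act h.mem q

theorem norm2 {Q : Subgroup G} (hQ : IsPGroup 2 Q) (h : Q ≤ 𝐍(Y.L)) : ∃ l ∈ Y.L, Q ^ᶜ l ≤ 𝐍(Y.T) := by
  haveI := Fact.mk Nat.prime_two
  obtain ⟨S, hS, hQS⟩ := exists_isSylowIn_le hQ h
  obtain ⟨l, hl, e⟩ := (hS.inf_normal le_normalizer le_rfl).conj Y.syl
  exact ⟨l, hl, by rw [← e, ← cj_normalizer]; exact cj_mono l (hQS.trans (le_normalizer_inf le_normalizer hS.le))⟩

/-- an element centralising `V` -/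
theorem cV {y : G} (hy : y ∈ 𝐍(Y.L)) (h : ∀ x e, y * Y.p x 0 e * y⁻¹ = Y.p x 0 e) :
    ∃ x e, ∃ k ∈ 𝐂(Y.L), y = Y.p x 0 e * k := by
  obtain ⟨s, f, a, b, q⟩ := Pm.act_of_norm (nT hy one_ne_zero (h 0 1))
  obtain ⟨_, h1⟩ := q.t 1 0 0
  obtain ⟨_, h2⟩ := q.t ω 0 0
  obtain ⟨a1, a2, -⟩ := Y.p_inj ((h _ _).symm.trans h1)
  obtain ⟨a3, -, -⟩ := Y.p_inj ((h _ _).symm.trans h2)
  obtain ⟨-, -, a4⟩ := Y.p_inj ((h _ _).symm.trans (q.z 1))
  obtain ⟨rfl, rfl, rfl, rfl⟩ : s = false ∧ f = false ∧ a = 1 ∧ b = 1 := by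
    clear * - a1 a2 a3 a4; decide +revert
  obtain ⟨x, a, e, k, hk, rfl⟩ := tk_of_act hy q
  have := h 1 0
  rw [mul_assoc _ k, ← Y.pk hk, mul_inv_rev, ← mul_assoc, ← mul_assoc, mul_inv_cancel_right, Y.p_conj] at this
  obtain rfl : a = 0 := by simpa using (Y.p_inj this).2.2
  exact ⟨x, e, k, hk, rfl⟩

/-- an element centralising `T` -/
theorem cT {y : G} (hy : y ∈ 𝐍(Y.L)) (h : ∀ x a e, y * Y.p x a e * y⁻¹ = Y.p x a e) :
    ∃ e, ∃ k ∈ 𝐂(Y.L), y = Y.p 0 0 e * k := by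
  obtain ⟨x, e, k, hk, rfl⟩ := cV hy fun _ _ => h ..
  have := h 0 1 0
  rw [mul_assoc _ k, ← Y.pk hk, mul_inv_rev, ← mul_assoc, ← mul_assoc, mul_inv_cancel_right, Y.p_conj] at this
  obtain rfl : x = 0 := by simpa using (Y.p_inj this).2.2
  exact ⟨e, k, hk, rfl⟩

theorem rank {A : Type*} [AddCommGroup A] [Fintype A] (φ : A → G) (add : ∀ u v, φ (u + v) = φ u * φ v)
    (sq : ∀ u, φ u * φ u = 1) (hN : ∀ u, φ u ∈ 𝐍(Y.L)) (hT : ∀ u, φ u ∈ 𝐍(Y.T))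
    (inj : ∀ u, φ u ∈ 𝐂(Y.L) → u = 0) : Fintype.card A ≤ 8 ∨
      (∀ u, ∃ x e, ∃ k ∈ 𝐂(Y.L), φ u = Y.p x 0 e * k) ∨ ∀ u, ∃ a e, ∃ k ∈ 𝐂(Y.L), φ u = Y.p 0 a e * k := by
  classical
  choose s f l m q using fun u => Pm.act_of_norm (hT u)
  have sub : ∀ u v, φ (u - v) = φ u * φ v := fun u v => by
    have := add (u - v) v
    rw [sub_add_cancel] at this
    rw [this, mul_assoc, sq, mul_one]
  have cm : ∀ u v, φ u * φ v * (φ u)⁻¹ = φ v := fun u v => by rw [← add, add_comm, add]; group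
  let P : A → Prop := fun u => s u = false ∧ f u = false
  have h1 : ∀ u v, (s u, f u) = (s v, f v) → P (u - v) := fun u v e => by
    obtain ⟨e1, e2⟩ := Prod.ext_iff.1 e
    have := (q (u - v)).uniq (sub u v ▸ (q u).mul (q v))
    exact ⟨this.1.trans (by simp_all), this.2.1.trans (by simp_all)⟩
  have ex : ∀ u, ∃ c : F4 × F4 × F4, P u → ∃ k ∈ 𝐂(Y.L), φ u = Y.p c.1 c.2.1 c.2.2 * k := fun u => by
    by_cases h : P u
    · have := q u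
      rw [h.1, h.2] at this
      obtain ⟨e1, e2⟩ := this.two (.of_sq (sq u))
      rw [e1, e2] at this
      obtain ⟨x, a, e, k⟩ := tk_of_act (hN u) this
      exact ⟨(x, a, e), fun _ => k⟩
    · exact ⟨0, fun k => absurd k h⟩
  choose c hc using ex
  have fx : ∀ u v, P u → φ v * Y.p (c u).1 (c u).2.1 (c u).2.2 * (φ v)⁻¹ = Y.p (c u).1 (c u).2.1 (c u).2.2 :=
    fun u v h => by
      obtain ⟨k, hk, e⟩ := hc u h
      exact (Y.fix (hN v) (Y.p_L ..) hk (e ▸ cm v u)).1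
  have i1 : ∀ u, P u → (c u).2.1 * (c u).1 = 0 := fun u h => by
    obtain ⟨k, hk, e⟩ := hc u h
    exact (Y.inj _ _ _ (Y.p_sq .. ▸ (Y.sq_dec (Y.p_L ..) hk (e ▸ sq u)).1)).2.2
  have i2 : ∀ u v, P u → P v → (c u).2.1 * (c v).1 = (c v).2.1 * (c u).1 := fun u v h h' => by
    obtain ⟨k, hk, e⟩ := hc u h
    have := fx v u h'
    rw [e, mul_assoc _ k, ← Y.pk hk, mul_inv_rev, ← mul_assoc, ← mul_assoc, mul_inv_cancel_right] at this
    exact Y.p_comm.1 (mul_inv_eq_iff_eq_mul.1 this)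
  have h2 : ∀ u v, P u → P v → c u = c v → u = v := fun u v h h' e => by
    obtain ⟨k, hk, e1⟩ := hc u h
    obtain ⟨k', hk', e2⟩ := hc v h'
    refine sub_eq_zero.1 (inj _ ?_)
    rw [sub, ← inv_eq_of_mul_eq_one_right (sq u), e1, e2, e]
    simpa [mul_assoc] using mul_mem (inv_mem hk) hk'
  have ft : ∀ u v, P u → c1 (s v) (f v) (l v) (m v) (c u).1 (c u).2.1 = (c u).1 ∧
      c2 (s v) (f v) (l v) (m v) (c u).1 (c u).2.1 = (c u).2.1 := fun u v h => by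
    obtain ⟨_, k⟩ := (q v).t (c u).1 (c u).2.1 (c u).2.2
    have := Y.p_inj (k.symm.trans (fx u v h))
    exact ⟨this.1, this.2.1⟩
  have fz : ∀ v e, f v = true → φ v * Y.p 0 0 e * (φ v)⁻¹ = Y.p 0 0 e → e = 0 ∨ e = (l v * m v)⁻¹ :=
    fun v e h k => by
      have := (Y.p_inj (((q v).z e).symm.trans k)).2.2
      rw [h] at this
      generalize l v * m v = u at this ⊢
      clear * - this; decide +revert
  by_cases a1 : ∃ v, s v = true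
  · obtain ⟨v, hv⟩ := a1
    have z : ∀ u, P u → (c u).1 = 0 ∧ (c u).2.1 = 0 := fun u h => by
      have b := ft u v h
      have a := i1 u h
      have b1 := (q v).l0
      have b2 := (q v).m0
      rw [hv] at b
      generalize (c u).1 = x, (c u).2.1 = y, l v = l, m v = m, f v = f at *
      clear * - b b1 b2 a; decide +revert
    left
    by_cases a2 : ∃ w, f w = true
    · obtain ⟨w, hw⟩ := a2
      refine (pigeon P (fun u => (s u, f u)) c Finset.univ {0, (0, 0, (l w * m w)⁻¹)} h1 h2 (by simp)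
        fun u h => ?_).trans (Nat.mul_le_mul (show _ ≤ 4 by simp) Finset.card_le_two)
      have := fz w (c u).2.2 hw (by simpa [z u h] using fx u w h)
      simpa [Prod.ext_iff, z u h] using this
    · refine (pigeon P (fun u => (s u, f u)) c {(false, false), (true, false)}
        (Finset.univ.image fun e => (0, 0, e)) h1 h2 (fun u => ?_) fun u h => ?_).trans
        (Nat.mul_le_mul Finset.card_le_two (Finset.card_image_le.trans (show _ ≤ 4 by decide)))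
      · have : f u = false := by simpa using fun k => a2 ⟨u, k⟩
        cases s u <;> simp [this]
      · simp [Prod.ext_iff, z u h]
  have a1' : ∀ u, s u = false := fun u => by simpa using fun k => a1 ⟨u, k⟩
  by_cases a2 : ∃ w, f w = true
  · obtain ⟨w, hw⟩ := a2
    obtain ⟨c0, h0⟩ : ∃ c0 : F4 × F4 × F4, ∀ u, P u → c u = 0 ∨ c u = (0, 0, (l w * m w)⁻¹) ∨ c u = c0 ∨
        c u = c0 + (0, 0, (l w * m w)⁻¹) := by
      by_cases a3 : ∃ v, P v ∧ ¬ ((c v).1 = 0 ∧ (c v).2.1 = 0)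
      · obtain ⟨v, hv, a3⟩ := a3
        refine ⟨c v, fun u h => ?_⟩
        have : ((c u).1 = 0 ∧ (c u).2.1 = 0) ∨ ((c u).1 = (c v).1 ∧ (c u).2.1 = (c v).2.1) := by
          have b1 := ft u w h
          have b2 := ft v w hv
          have b3 := i1 u h
          have b4 := i1 v hv
          have b5 := i2 u v h hv
          rw [hw, a1'] at b1 b2
          generalize (c u).1 = x, (c u).2.1 = y, (c v).1 = x', (c v).2.1 = y', l w = l, m w = m at *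
          clear * - b1 b2 b3 b4 b5 a3; decide +revert +kernel
        rcases this with z | z
        · have := fz w (c u).2.2 hw (by simpa [z] using fx u w h)
          rcases this with e | e <;> simp [Prod.ext_iff, z, e]
        · have := fz w ((c v).2.2 + (c u).2.2) hw (by
            have b1 := fx u w h
            rw [z.1, z.2, ← aa' (c v).2.2 (c u).2.2, ← Y.mul_z, ← conj_mul, fx v w hv] at b1
            exact mul_left_cancel b1)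
          rcases this with e | e
          · simp [Prod.ext_iff, z, ae.1 e]
          · simp [Prod.ext_iff, z, ← e, aa']
      · refine ⟨0, fun u h => ?_⟩
        have z : (c u).1 = 0 ∧ (c u).2.1 = 0 := by_contra fun k => a3 ⟨u, h, k⟩
        have := fz w (c u).2.2 hw (by simpa [z] using fx u w h)
        rcases this with e | e <;> simp [Prod.ext_iff, z, e]
    exact .inl ((pigeon P (fun u => (s u, f u)) c {(false, false), (false, true)}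
      {0, (0, 0, (l w * m w)⁻¹), c0, c0 + (0, 0, (l w * m w)⁻¹)} h1 h2 (fun u => by cases f u <;> simp [a1'])
        fun u h => by simpa using h0 u h).trans (Nat.mul_le_mul Finset.card_le_two Finset.card_le_four))
  have hP : ∀ u, P u := fun u => ⟨a1' u, by simpa using fun k => a2 ⟨u, k⟩⟩
  right
  by_cases a3 : ∃ v, (c v).1 ≠ 0
  · obtain ⟨v, hv⟩ := a3
    refine .inl fun u => ⟨(c u).1, (c u).2.2, ?_⟩
    have : (c u).2.1 = 0 := by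
      have b1 := i2 u v (hP u) (hP v)
      rw [(mul_eq_zero.1 (i1 v (hP v))).resolve_right hv, zero_mul] at b1
      exact (mul_eq_zero.1 b1).resolve_right hv
    exact this ▸ hc u (hP u)
  · push Not at a3
    exact .inr fun u => ⟨(c u).2.1, (c u).2.2, a3 u ▸ hc u (hP u)⟩

end St

end H10.Sz
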