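import Cfsg.Agent.Lib.Std.Sz2

/-! Standard subgroups `L₃(4)`, part 3: involutions of `L` are not conjugate into the centraliser. -/

set_option autoImplicit false
set_option maxRecDepth 100000
set_option synthInstance.maxSize 100000
set_option linter.unusedSectionVars false

namespace H10.Sz
open H69 Subgroup Cfsg
open H30 (F4)
open H10.HeS (T2)

variable {G : Type*} [Group G] [Finite G]

omit [Finite G] in
theorem cm_cen {x y u v : G} (h1 : Commute u x) (h2 : Commute u y) (h3 : Commute v x) (h5 : Commute u v) :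
    x * u * (y * v) * (x * u)⁻¹ * (y * v)⁻¹ = x * y * x⁻¹ * y⁻¹ := by
  simp only [mul_inv_rev, mul_assoc, h2.left_comm, h5.left_comm, mul_inv_cancel_left, h3.inv_right.left_comm]

theorem card16 : ¬ Fintype.card (F4 × F4) ≤ 8 := by decide

namespace St

/-- conjugate frames -/
def Cj (Y Y' : St G) : Prop := ∃ g, Y'.L = Y.L ^ᶜ g

variable {Y Y' Y'' : St G}

theorem Cj.refl (Y : St G) : Y.Cj Y := ⟨1, (cj_one _).symm⟩
theorem Cj.symm (h : Y.Cj Y') : Y'.Cj Y := let ⟨g, e⟩ := h; ⟨g⁻¹, by rw [e, cj_cj_inv]⟩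
theorem Cj.cj (h : Y.Cj Y') (g : G) : Y.Cj (Y'.cj g) :=
  let ⟨y, e⟩ := h; ⟨g * y, by rw [← cj_cj, ← e]; rfl⟩
theorem Cj.eq (h : Y.Cj Y') (e : Y''.L = Y'.L) : Y.Cj Y'' := let ⟨g, q⟩ := h; ⟨g, e.trans q⟩
theorem Cj.ti (h : Y.Cj Y') (h' : Y.Cj Y'') {k : G} (hk : k ∈ 𝐂(Y'.L)) (hk' : k ∈ 𝐂(Y''.L)) (t : T2 k)
    (k1 : k ≠ 1) : Y'.L = Y''.L := by
  obtain ⟨g, e⟩ := h
  obtain ⟨g', e'⟩ := h'
  rw [e] at hk; rw [e'] at hk'
  exact e.trans ((ti2 (Y := Y) hk hk' t k1).trans e'.symm)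
theorem Cj.D (h : Y.Cj Y') {i : G} (hi : i ∈ 𝐂(Y'.L)) (h2 : i * i = 1) (h1 : i ≠ 1) : Y.D i := by
  obtain ⟨g, e⟩ := h
  exact D.of_cj (g := g) (e ▸ hi :) h2 h1
theorem mem_cjK {g k : G} (hk : k ∈ 𝐂(Y.L)) : g * k * g⁻¹ ∈ 𝐂((Y.cj g).L) :=
  (cj_centralizer Y.L g).le (cj_mem g hk)
theorem D.ex {i : G} (h : Y.D i) : ∃ Y', Y.Cj Y' ∧ i ∈ 𝐂(Y'.L) := let ⟨g, k⟩ := h.cj; ⟨_, (Cj.refl Y).cj g, k⟩

theorem norm2' {Q : Subgroup G} (hQ : IsPGroup 2 Q) (h : Q ≤ 𝐍(Y.L)) : ∃ Y1 : St G, Y1.L = Y.L ∧ Q ≤ 𝐍(Y1.T) := by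
  obtain ⟨l, hl, k⟩ := norm2 hQ h
  exact ⟨Y.cj l⁻¹, cj_eq_of_mem (inv_mem hl), by
    rw [show (Y.cj l⁻¹).T = Y.T ^ᶜ l⁻¹ from Y.cj_T _, ← cj_normalizer]; exact cj_le_iff.1 k⟩

theorem cm_iff {l k l' k' : G} (hl : l ∈ Y.L) (hk : k ∈ 𝐂(Y.L)) (hl' : l' ∈ Y.L) (hk' : k' ∈ 𝐂(Y.L)) :
    l * k * (l' * k') * (l * k)⁻¹ * (l' * k')⁻¹ = l * l' * l⁻¹ * l'⁻¹ * (k * k' * k⁻¹ * k'⁻¹) := by
  have c : ∀ {a b : G}, a ∈ Y.L → b ∈ 𝐂(Y.L) → ∀ u, b * (a * u) = a * (b * u) := fun ha hb u => by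
    rw [← mul_assoc, ← hb _ ha, mul_assoc]
  simp only [mul_inv_rev, mul_assoc, c hl' hk, c (inv_mem hl) hk, c (inv_mem hl) hk', c (inv_mem hl) (inv_mem hk)]
  rw [← (inv_mem hk' : k'⁻¹ ∈ 𝐂(Y.L)) _ (inv_mem hl')]
  simp only [c (inv_mem hl') hk, c (inv_mem hl') hk', c (inv_mem hl') (inv_mem hk)]

theorem cmK {k k' : G} (hk : k ∈ 𝐂(Y.L)) (hk' : k' ∈ 𝐂(Y.L)) : k * k' * k⁻¹ * k'⁻¹ ∈ 𝐂(Y.L) :=
  mul_mem (mul_mem (mul_mem hk hk') (inv_mem hk)) (inv_mem hk')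

theorem cm_p (X : Pm G) (x a e x' a' e' : F4) :
    X.p x a e * X.p x' a' e' * (X.p x a e)⁻¹ * (X.p x' a' e')⁻¹ = X.p 0 0 (a * x' + a' * x) := by
  rw [X.p_conj, X.p_inv, X.mul, X.p_eq]; clear * -; decide +revert

theorem cm_pk {k k' : G} (hk : k ∈ 𝐂(Y.L)) (hk' : k' ∈ 𝐂(Y.L)) (x a e x' a' e' : F4) :
    Y.p x a e * k * (Y.p x' a' e' * k') * (Y.p x a e * k)⁻¹ * (Y.p x' a' e' * k')⁻¹ ∈ 𝐂(Y.L) ↔
      a * x' + a' * x = 0 := by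
  rw [cm_iff (Y.p_L ..) hk (Y.p_L ..) hk', cm_p, mul_mem_cancel_right (cmK hk hk')]
  exact ⟨fun h => (Y.pK h).2.2, fun h => by rw [h, Y.p_zero]; exact one_mem _⟩

/-- two families of order 16 that do not commute lie on the two sides -/
theorem rank2 (φ ψ : F4 × F4 → G) (add : ∀ u v, φ (u + v) = φ u * φ v) (add' : ∀ u v, ψ (u + v) = ψ u * ψ v)
    (sq : ∀ u, φ u * φ u = 1) (sq' : ∀ u, ψ u * ψ u = 1) {Q : Subgroup G} (hQ : IsPGroup 2 Q) (hN : Q ≤ 𝐍(Y.L))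
    (m : ∀ u, φ u ∈ Q) (m' : ∀ u, ψ u ∈ Q) (inj : ∀ u, φ u ∈ 𝐂(Y.L) → u = 0) (inj' : ∀ u, ψ u ∈ 𝐂(Y.L) → u = 0)
    (nc : ∃ u v, φ u * ψ v * (φ u)⁻¹ * (ψ v)⁻¹ ∉ 𝐂(Y.L)) : ∃ Y1 : St G, Y1.L = Y.L ∧ Q ≤ 𝐍(Y1.T) ∧
      (∀ u, ∃ x e, ∃ k ∈ 𝐂(Y1.L), φ u = Y1.p x 0 e * k) ∧ ∀ u, ∃ a e, ∃ k ∈ 𝐂(Y1.L), ψ u = Y1.p 0 a e * k := by
  obtain ⟨Y1, e, hT⟩ := norm2' hQ hN
  rw [← e] at hN inj inj' nc
  obtain ⟨u, v, nc⟩ := nc
  rcases (rank φ add sq (fun _ => hN (m _)) (fun _ => hT (m _)) inj).resolve_left card16 with h | h <;>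
    rcases (rank ψ add' sq' (fun _ => hN (m' _)) (fun _ => hT (m' _)) inj').resolve_left card16 with h' | h'
  · obtain ⟨_, _, _, hk, e⟩ := h u
    obtain ⟨_, _, _, hk', e'⟩ := h' v
    exact absurd (by rw [e, e', cm_pk hk hk']; simp) nc
  · exact ⟨Y1, e, hT, h, h'⟩
  · exact ⟨Y1.swap, e, Y1.swap_T ▸ hT, by simpa [swap, Pm.swap_p] using h, by simpa [swap, Pm.swap_p] using h'⟩
  · obtain ⟨_, _, _, hk, e⟩ := h u
    obtain ⟨_, _, _, hk', e'⟩ := h' v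
    exact absurd (by rw [e, e', cm_pk hk hk']; simp) nc

theorem even_K (Y : St G) : ∃ k ∈ 𝐂(Y.L), k * k = 1 ∧ k ≠ 1 := by
  haveI := Fact.mk Nat.prime_two
  obtain ⟨t, ht⟩ := exists_prime_orderOf_dvd_card' 2 (even_iff_two_dvd.1 Y.hL.2.1.1)
  refine ⟨t, t.2, congrArg Subtype.val (show t * t = 1 by rw [← sq, ← ht, pow_orderOf_eq_one]), fun e => ?_⟩
  rw [Subtype.ext (a1 := t) (a2 := 1) e, orderOf_one] at ht
  omega

theorem isP_sup {R : Subgroup G} (hR : IsPGroup 2 R) (h : R ≤ 𝐂(Y.L)) : IsPGroup 2 (R ⊔ Y.T : Subgroup G) :=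
  isPGroup_sup_of_le_normalizer_right hR Y.isP_T
    (le_normalizer_of_le_centralizer (h.trans (centralizer_anti Y.T_L)))

theorem notD_a (c : Y.Cj Y') (hz : Y.p 0 0 1 ∈ 𝐂(Y'.L)) (e : F4) : Y.p 0 0 e ∈ 𝐂(Y'.L) := by
  have z1 := Y.z_ne one_ne_zero
  have zw : Y.p 0 0 ω ∈ 𝐂(Y'.L) := by
    by_contra nw
    obtain ⟨t, ht, t2, t1⟩ := Y.even_K
    have nt : t ∉ 𝐂(Y'.L) := fun k => z1 (Y.LK (Y.p_L ..) ((Cj.refl Y).ti c ht k (.of_sq t2) t1 ▸ hz))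
    have hN : zpowers t ⊔ Y.T ≤ 𝐍(Y'.L) := sup_le (zpowers_le.2 (cN hz (Y.t2 ..) z1 (Y.pk ht ..).symm))
      (by rintro _ ⟨x, a, e, rfl⟩; exact cN hz (Y.t2 ..) z1 (Y.z_comm ..).symm)
    have pN : ∀ x a e, Y.p x a e ∈ 𝐍(Y'.L) := fun _ _ _ => hN (mem_sup_right (Y.p_T ..))
    have nz : ∀ e, Y.p 0 0 e ∈ 𝐂(Y'.L) → e = 0 ∨ e = 1 := fun e k => by
      rcases cas e with rfl | rfl | rfl | rfl
      exacts [.inl rfl, .inr rfl, absurd k nw, absurd (by have := mul_mem k hz; rwa [Y.z_mul] at this) nw]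
    have B : ∀ e, t * Y.p 0 0 e ∉ 𝐂(Y'.L) := fun e k => by
      have k' := mul_mem k hz
      rw [mul_assoc, Y.z_mul] at k'
      have : t * Y.p 0 0 ω ∈ 𝐂(Y'.L) ∧ t * Y.p 0 0 ϖ ∈ 𝐂(Y'.L) := by
        rcases cas e with rfl | rfl | rfl | rfl
        exacts [absurd (by simpa [Y.p_zero] using k) nt, absurd (by simpa [aa, Y.p_zero] using k') nt,
          ⟨k, k'⟩, ⟨k', k⟩]
      have h1 := mem_cjK (g := Y.h) this.1
      have h2 := mem_cjK (g := Y.h) hz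
      rw [← conj_mul, Y.kc ht Y.h_L, Y.h_z] at h1
      rw [Y.h_z, mul_one, ← c.ti (c.cj _) this.2 h1 ((T2.of_sq t2).mul (Y.t2 ..) (Y.pk ht ..).symm)
        fun q => nt (by rw [eq_inv_of_mul_eq_one_left q, Y.z_inv] at ht; exact absurd (Y.pK ht).2.2 (by decide))] at h2
      exact nw h2
    have fm : ∀ c, ∃ e, fam t (Y.p 0 0 ω) c = Y.p 0 0 e ∧ (e = 0 → c = 0) ∧ e ≠ 1 ∨
        fam t (Y.p 0 0 ω) c = t * Y.p 0 0 e := F4.forall_iff.2 ⟨⟨0, .inl ⟨Y.p_zero.symm, fun _ => rfl, by decide⟩⟩,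
      ⟨0, .inr (by rw [Y.p_zero, mul_one]; rfl)⟩, ⟨ω, .inl ⟨rfl, by decide, by decide⟩⟩, ⟨ω, .inr rfl⟩⟩
    have fa := fam_add t2 (Y.z_sq ω) (Y.pk ht ..).symm
    have fc : ∀ c x a e, fam t (Y.p 0 0 ω) c * Y.p x a e = Y.p x a e * fam t (Y.p 0 0 ω) c := fun c x a e => by
      obtain ⟨_, ⟨k, -⟩ | k⟩ := fm c <;> rw [k]
      · exact Y.z_comm ..
      · rw [mul_assoc, Y.z_comm, ← mul_assoc, ← Y.pk ht, mul_assoc]
    have f0 : ∀ c, fam t (Y.p 0 0 ω) c ∈ 𝐂(Y'.L) → c = 0 := fun c k => by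
      obtain ⟨e, ⟨q, q1, q2⟩ | q⟩ := fm c <;> rw [q] at k
      exacts [q1 ((nz e k).resolve_right q2), absurd k (B e)]
    have fQ : ∀ c, fam t (Y.p 0 0 ω) c ∈ zpowers t ⊔ Y.T := fun c => by
      obtain ⟨e, ⟨q, -⟩ | q⟩ := fm c <;> rw [q]
      exacts [mem_sup_right (Y.p_T ..), mul_mem (mem_sup_left (mem_zpowers t)) (mem_sup_right (Y.p_T ..))]
    have cm : ∀ x a c x' a' c', Y.p x a 0 * fam t (Y.p 0 0 ω) c * (Y.p x' a' 0 * fam t (Y.p 0 0 ω) c') *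
        (Y.p x a 0 * fam t (Y.p 0 0 ω) c)⁻¹ * (Y.p x' a' 0 * fam t (Y.p 0 0 ω) c')⁻¹ =
          Y.p 0 0 (a * x' + a' * x) := fun x a c x' a' c' => by
      rw [← cm_p _ x a 0 x' a' 0]
      exact cm_cen (fc ..) (fc ..) (fc ..) (show _ = _ by rw [← fa, add_comm, fa])
    have ker : ∀ x a c, Y.p x a 0 * fam t (Y.p 0 0 ω) c ∈ 𝐂(Y'.L) → x = 0 ∧ a = 0 := fun x a c k => by
      have : ∀ x' a', a' * x + a * x' = 0 ∨ a' * x + a * x' = 1 := fun x' a' => nz _ (by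
        rw [← cm x' a' 0 x a c]
        exact mul_mem (Y'.cK (hN (mul_mem (mem_sup_right (Y.p_T ..)) (fQ 0))) k) (inv_mem k))
      clear * - this; decide +revert
    have ad : ∀ x a c x' a' c', a * x' = 0 → Y.p (x + x') (a + a') 0 * fam t (Y.p 0 0 ω) (c + c') =
        Y.p x a 0 * fam t (Y.p 0 0 ω) c * (Y.p x' a' 0 * fam t (Y.p 0 0 ω) c') := fun x a c x' a' c' k => by
      rw [mul_assoc, ← mul_assoc (fam _ _ c), fc, fa, mul_assoc, ← mul_assoc (Y.p x a 0), Y.mul, k]; simp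
    obtain ⟨Y1, e1, -, hV, hW⟩ := rank2 (Y := Y') (fun u => Y.p u.1 0 0 * fam t (Y.p 0 0 ω) u.2)
      (fun u => Y.p 0 u.1 0 * fam t (Y.p 0 0 ω) u.2) (fun u v => by simpa using ad u.1 0 u.2 v.1 0 v.2 (by simp))
      (fun u v => by simpa using ad 0 u.1 u.2 0 v.1 v.2 (by simp))
      (fun u => by rw [← ad _ _ _ _ _ _ (by simp)]; simp [aa, Y.p_zero, fam])
      (fun u => by rw [← ad _ _ _ _ _ _ (by simp)]; simp [aa, Y.p_zero, fam])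
      (isP_sup (T2.of_sq t2).pg (zpowers_le.2 ht)) hN (fun _ => mul_mem (mem_sup_right (Y.p_T ..)) (fQ _))
      (fun _ => mul_mem (mem_sup_right (Y.p_T ..)) (fQ _))
      (fun u k => by
        have := (ker _ _ _ k).1
        rw [this, Y.p_zero, one_mul] at k
        exact Prod.ext this (f0 _ k))
      (fun u k => by
        have := (ker _ _ _ k).2
        rw [this, Y.p_zero, one_mul] at k
        exact Prod.ext this (f0 _ k)) ⟨(ω, 0), (1, 0), by rw [cm]; simpa using nw⟩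
    rw [← e1] at hz nw
    have key : ∀ x a, Y.p 0 0 (a * x) ∈ 𝐂(Y1.L) ↔ (hW (a, 0)).choose * (hV (x, 0)).choose = 0 := fun x a => by
      obtain ⟨_, _, hk, q⟩ := (hV (x, 0)).choose_spec
      obtain ⟨_, _, hk', q'⟩ := (hW (a, 0)).choose_spec
      have := cm x 0 0 0 a 0
      simp only at q q'
      rw [q, q'] at this
      rw [show a * x = 0 * 0 + a * x by simp, ← this, cm_pk hk hk']; simp
    rcases mul_eq_zero.1 ((key 1 1).1 (by simpa using hz)) with k | k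
    · exact nw (by simpa using (key ω 1).2 (by simp [k]))
    · exact nw (by simpa using (key 1 ω).2 (by simp [k]))
  rcases cas e with rfl | rfl | rfl | rfl
  exacts [Y.p_zero ▸ one_mem _, hz, zw, by have := mul_mem hz zw; rwa [Y.z_mul] at this]

theorem notD_b (c : Y.Cj Y') (hz : Y.p 0 0 1 ∈ 𝐂(Y'.L)) : False := by
  have z1 := Y.z_ne one_ne_zero
  have hZ := notD_a c hz
  have ne : Y.L ≠ Y'.L := fun e => z1 (Y.LK (Y.p_L ..) (e ▸ hz))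
  have pN : ∀ x a e, Y.p x a e ∈ 𝐍(Y'.L) := fun _ _ _ => cN hz (Y.t2 ..) z1 (Y.z_comm ..).symm
  have TN : Y.T ≤ 𝐍(Y'.L) := by rintro _ ⟨x, a, e, rfl⟩; exact pN _ _ _
  have kN : 𝐂(Y.L) ≤ 𝐍(Y'.L) := fun k hk => cN hz (Y.t2 ..) z1 (Y.pk hk ..).symm
  have hN : Y.h ∈ 𝐍(Y'.L) := ti hz (Y.t2 ..) z1 (Y.h_z _ ▸ hZ _)
  have tv : ∀ x a, a * x = 0 → Y'.In (Y.p x a 0) := fun x a k => by
    have : Y.h * Y.p (ϖ * x) (ϖ * a) 0 * Y.h⁻¹ * (Y.p (ϖ * x) (ϖ * a) 0)⁻¹ = Y.p x a 0 := by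
      rw [Y.h_p, Y.p_inv, Y.mul, Y.p_eq]; clear * - k; decide +revert
    exact this ▸ In.cm hN (pN _ _ _) (this ▸ Y.t2 ..)
  have tI : ∀ x a e, Y'.In (Y.p x a e) := fun x a e =>
    Y.dec x a e ▸ ((tv x 0 (by simp)).mul (tv 0 a (by simp))).mul (.of_K (hZ e))
  obtain ⟨x0, a0, q0, n0⟩ : ∃ x a, a * x = 0 ∧ Y.p x a 0 ∉ 𝐂(Y'.L) := by
    by_contra k
    push Not at k
    have TK : ∀ x a e, Y.p x a e ∈ 𝐂(Y'.L) := fun x a e =>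
      Y.dec x a e ▸ mul_mem (mul_mem (k x 0 (by simp)) (k 0 a (by simp))) (hZ e)
    have LN := Y.gen _ TN hN (ti hz (Y.t2 ..) z1 (by rw [Y.n_p]; exact TK _ _ _))
      (ti hz (Y.t2 ..) z1 (by rw [Y.m_p]; exact TK _ _ _))
    rcases Y.simple (Y.L ⊓ 𝐂(Y'.L)) inf_le_left
      (le_normalizer_inf le_normalizer (le_normalizer_centralizer LN)) with e | e
    · exact z1 (mem_bot.1 (e ▸ ⟨Y.p_L .., hz⟩))
    · obtain ⟨g, q⟩ := c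
      exact Y.hL.2.2.1 g (fun k => ne (k.symm.trans q.symm))
        (commutator_eq_bot_of_le_centralizer (q ▸ (e.ge.trans inf_le_right)))
  obtain ⟨g, hg⟩ := id c
  let ρ : F4 → G := fun e => g⁻¹ * Y.p 0 0 e * g
  have ρK : ∀ e, ρ e ∈ 𝐂(Y.L) := fun e => mem_cj.1 (by rw [cj_centralizer, ← hg]; exact hZ e)
  have ρa : ∀ e e', ρ (e + e') = ρ e * ρ e' := fun e e' => by simp only [ρ]; rw [← Y.z_mul]; group
  have ρ0 : ∀ e, ρ e = 1 → e = 0 := fun e k => (Y.inj 0 0 e (by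
    rw [← cji g] at k; simpa [ρ, mul_assoc] using k)).2.2
  have ρ2 : ∀ e, ρ e * ρ e = 1 := fun e => by rw [← ρa, aa]; simp [ρ, Y.p_zero]
  obtain ⟨Y1, e1, hT⟩ := norm2' (Y := Y') (isP_sup (R := Y.Z ^ᶜ g⁻¹) (isPGroup_cj (Y.isP_T.to_le Y.Z_T) _) (by
    rintro _ ⟨_, ⟨e, rfl⟩, rfl⟩; simpa using ρK e)) (sup_le (by
      rintro _ ⟨_, ⟨e, rfl⟩, rfl⟩; simpa using kN (ρK e)) TN)
  replace c := c.eq e1
  unfold In at tI
  rw [← e1] at hz hZ ne pN kN hN tI n0 hg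
  clear e1 tv TN
  have tk := fun x a e => In.tk (Y := Y1) (tI x a e) (Y.t2 ..) (hT (mem_sup_right (Y.p_T ..)))
  choose π1 π2 π3 κ κK hπ using tk
  have ρT : ∀ e, ρ e ∈ 𝐍(Y1.T) := fun e => hT (mem_sup_left (mem_cj.2 (by simpa [ρ, mul_assoc] using Y.z_Z e)))
  have fx : ∀ {k}, k ∈ 𝐂(Y.L) → ∀ x a e, k * Y1.p (π1 x a e) (π2 x a e) (π3 x a e) * k⁻¹ =
      Y1.p (π1 x a e) (π2 x a e) (π3 x a e) := fun hk x a e =>
    (Y1.fix (kN hk) (Y1.p_L ..) (κK x a e) (hπ x a e ▸ conj_eq_of_mem_centralizer hk (Y.p_L ..))).1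
  have pm : ∀ x a x' a', Y1.p (π1 (x + x') (a + a') 0) (π2 (x + x') (a + a') 0) (π3 (x + x') (a + a') 0) =
      Y1.p (π1 x a 0) (π2 x a 0) (π3 x a 0) * Y1.p (π1 x' a' 0) (π2 x' a' 0) (π3 x' a' 0) := fun x a x' a' =>
    (Y1.uq (Y1.p_L ..) (mul_mem (κK _ _ _) (hZ (a * x'))) (mul_mem (Y1.p_L ..) (Y1.p_L ..))
      (mul_mem (κK x a 0) (κK x' a' 0)) (by
        rw [← mul_assoc, ← hπ, Y.mul_z, mul_assoc, ← mul_assoc (Y1.p (π1 x' a' 0) _ _), Y1.pk (κK x a 0), mul_assoc,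
          ← hπ, ← mul_assoc, ← hπ, Y.mul]; simp)).1
  have p0 : ∀ x a, Y1.p (π1 x a 0) (π2 x a 0) (π3 x a 0) = 1 → Y.p x a 0 ∈ 𝐂(Y1.L) := fun x a k => by
    rw [hπ x a, k, one_mul]; exact κK _ _ _
  have p00 : Y1.p (π1 0 0 0) (π2 0 0 0) (π3 0 0 0) = 1 := by simpa using pm 0 0 0 0
  have ph : ∀ x a, Y.h * Y1.p (π1 x a 0) (π2 x a 0) (π3 x a 0) * Y.h⁻¹ =
      Y1.p (π1 (ϖ * x) (ϖ * a) 0) (π2 (ϖ * x) (ϖ * a) 0) (π3 (ϖ * x) (ϖ * a) 0) := fun x a =>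
    (Y1.uq (Y1.cL hN (Y1.p_L ..)) (Y1.cK hN (κK x a 0)) (Y1.p_L ..) (κK _ _ _) (by
      rw [conj_mul, ← hπ, ← hπ, Y.h_p, mul_zero])).1
  have hK : ∀ x a, Y.p x a 0 ∈ 𝐂(Y1.L) → Y.p (ϖ * x) (ϖ * a) 0 ∈ 𝐂(Y1.L) := fun x a k => by
    simpa [Y.h_p] using Y1.cK hN k
  have n1 : ∀ u, u ≠ 0 → Y.p (u * x0) (u * a0) 0 ∉ 𝐂(Y1.L) := fun u hu k => n0 (by
    rcases cas u with rfl | rfl | rfl | rfl
    · exact absurd rfl hu
    · simpa using k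
    · simpa [← mul_assoc, show ϖ * ω = 1 from rfl] using hK _ _ k
    · simpa [← mul_assoc, show ϖ * ϖ * ϖ = 1 from rfl] using hK _ _ (hK _ _ k))
  choose s f l m q using fun e => Pm.act_of_norm (ρT e)
  obtain ⟨e0, he0, t1, t2⟩ : ∃ e, e ≠ 0 ∧ s e = false ∧ f e = false := by
    by_contra k
    push Not at k
    obtain ⟨e, t1, t2⟩ : ∃ e, s e = true ∧ f e = true := by
      have a := (q ϖ).uniq (ρa 1 ω ▸ (q 1).mul (q ω) :)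
      have k1 := k 1 (by decide)
      have k2 := k ω (by decide)
      have k3 := k ϖ (by decide)
      rw [a.1, a.2.1] at k3
      by_contra k'
      push Not at k'
      have k4 := k' 1
      have k5 := k' ω
      have k6 := k' ϖ
      rw [a.1, a.2.1] at k6
      revert k1 k2 k3 k4 k5 k6
      generalize s 1 = a, s ω = b, f 1 = c, f ω = d
      clear * -; decide +revert
    have : ∀ u, u ≠ 0 → Y1.p (π1 (u * x0) (u * a0) 0) (π2 (u * x0) (u * a0) 0) (π3 (u * x0) (u * a0) 0) =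
        Y1.p 0 0 (l e * m e)⁻¹ := fun u hu => by
      have b1 := fx (ρK e) (u * x0) (u * a0) 0
      have b2 := pm (u * x0) (u * a0) (u * x0) (u * a0)
      have b3 := mt (p0 _ _) (n1 u hu)
      rw [aa, aa, p00, Y1.p_sq, eq_comm, Y1.p_one] at b2
      generalize π1 _ _ _ = x, π2 _ _ _ = a, π3 _ _ _ = b at b1 b2 b3 ⊢
      obtain ⟨_, b4⟩ := (q e).t x a b
      obtain ⟨b5, b6, -⟩ := Y1.p_inj (b4.symm.trans b1)
      have b7 := (q e).l0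
      have b8 := (q e).m0
      obtain ⟨rfl, rfl⟩ : x = 0 ∧ a = 0 := by
        rw [t1] at b5 b6
        generalize l e = l, m e = m, f e = f at *
        clear * - b2 b5 b6 b7 b8; decide +revert
      have b9 := (Y1.p_inj (((q e).z b).symm.trans b1)).2.2
      rw [Y1.p_one] at b3
      rw [t2] at b9
      congr 1
      generalize l e * m e = l at *
      clear * - b3 b9; decide +revert
    refine n1 ϖ (by decide) (p0 _ _ ?_)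
    rw [show ϖ = 1 + ω from rfl, add_mul, add_mul, pm, this 1 (by decide), this ω (by decide), Y1.z_sq]
  have q0 := q e0
  rw [t1, t2] at q0
  obtain ⟨x, a, b, k, hk, ek⟩ := In.tk ((Ty.of_act (kN (ρK e0)) q0).two (.of_sq (ρ2 e0))) (.of_sq (ρ2 e0)) (ρT e0)
  have r1 : ρ e0 ≠ 1 := mt (ρ0 _) he0
  have fk : ∀ y ∈ Y.L, y ∈ 𝐍(Y1.L) → y * k * y⁻¹ = k := fun y h1 h2 =>
    (Y1.fix h2 (Y1.p_L ..) hk (ek ▸ Y.kc (ρK e0) h1)).2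
  obtain rfl : k = 1 := by
    by_contra k1
    obtain ⟨e, k', hk', q⟩ := cT (Y := Y) (y := k) (cN (ρK e0) (.of_sq (ρ2 e0)) r1 (by
      rw [ek, ← mul_assoc, Y1.pk hk]))
      fun x a e => by rw [← mul_inv_eq_iff_eq_mul.1 (fk _ (Y.p_L ..) (pN x a e))]; group
    have := (Y.fix (Y.LN Y.h_L) (Y.p_L ..) hk' (q ▸ fk _ Y.h_L hN)).1
    rw [Y.h_z, Y.p_eq] at this
    obtain rfl : e = 0 := by clear * - this; decide +revert
    rw [Y.p_zero, one_mul] at q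
    exact ne ((Cj.refl Y).ti c (q ▸ hk') hk (.of_sq (Y1.sq_dec (Y1.p_L ..) hk (ek ▸ ρ2 e0)).2) k1)
  rw [mul_one] at ek
  obtain ⟨j, hj, ej⟩ := Y.cls (g⁻¹ * ρ e0 * g) (mem_cj.1 (hg ▸ ek ▸ Y1.p_L ..))
    (by rw [← cji g, ← conj_mul]; simpa [mul_assoc] using ρ2 e0) (by rw [Ne, ← cji g]; simpa [mul_assoc] using r1)
  let Y3 := Y.cj (g * j)
  have e3 : Y3.L = Y1.L := by rw [hg]; show _ ^ᶜ (g * j) = _; rw [← cj_cj, cj_eq_of_mem hj]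
  have z3 : Y3.p 0 0 1 = ρ e0 := by rw [← cji g⁻¹, inv_inv, ← ej]; simp only [Y3, cj, Pm.cj]; group
  have hZ3 := notD_a (c.eq e3).symm (z3 ▸ ρK e0)
  have T3 : ∀ y ∈ Y1.L, y * ρ e0 = ρ e0 * y → y ∈ Y3.T := fun y h1 h2 => Y3.cen y (e3 ▸ h1) (z3 ▸ h2)
  choose σ1 σ2 σ3 hσ using fun x a => T3 _ (Y1.p_L ..) (mul_inv_eq_iff_eq_mul.1 (fx (ρK e0) x a 0)).symm
  obtain ⟨s3, f3, l3, m3, q3⟩ := Pm.act_of_norm (nT (Y := Y3) (e3 ▸ hN) one_ne_zero (Y.kc (hZ3 1) Y.h_L))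
  have hz3 : ∀ x a, σ1 x a = 0 → σ2 x a = 0 → Y.p x a 0 ∈ 𝐂(Y1.L) := fun x a h1 h2 => by
    have := (ph x a).symm.trans (Y.kc (by rw [hσ, h1, h2]; exact hZ3 _) Y.h_L)
    have b := p0 (x + ϖ * x) (a + ϖ * a) (by rw [pm, this, ← pm, aa, aa, p00])
    convert hK _ _ b <;> (clear * -; decide +revert)
  have fpf : ∀ x a e, Y3.p x a e ∈ 𝐂(Y.L) → x = 0 ∧ a = 0 := fun x a e k => by
    have b1 := (Y3.p_inj ((q3.z 1).symm.trans (Y.kc (hZ3 1) Y.h_L))).2.2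
    have b2 := (Y3.p_inj ((q3.z ω).symm.trans (Y.kc (hZ3 ω) Y.h_L))).2.2
    have b3 := (((q3.mul q3).mul q3).uniq (show Y3.Act _ false false 1 1 by rw [Y.h3]; exact .one)).1
    obtain ⟨_, b4⟩ := q3.t x a e
    obtain ⟨b5, b6, -⟩ := Y3.p_inj (b4.symm.trans (Y.kc k Y.h_L))
    by_contra b7
    obtain ⟨rfl, rfl, rfl, rfl⟩ : s3 = false ∧ f3 = false ∧ l3 = 1 ∧ m3 = 1 := by
      clear * - b1 b2 b3 b5 b6 b7; decide +revert +kernel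
    obtain ⟨_, b8⟩ := q3.triv.1 (σ1 x0 a0) (σ2 x0 a0) (σ3 x0 a0)
    have b9 := pm x0 a0 (ϖ * x0) (ϖ * a0)
    rw [← ph, hσ, hσ x0, b8, Y3.mul, aa, aa] at b9
    refine n1 ω (by decide) ?_
    convert hz3 _ _ (Y3.p_inj b9).1 (Y3.p_inj b9).2.1 <;> (clear * -; decide +revert)
  have eK : (Y1.cj (g * j)).L = Y.L := (c.cj _).ti (Cj.refl Y) (mem_cjK hz) (hZ3 1) (Y3.t2 ..) (Y3.z_ne one_ne_zero)
  obtain ⟨⟨x, a⟩, k⟩ := Finite.surjective_of_injective (f := fun u : F4 × F4 => (σ1 u.1 u.2, σ2 u.1 u.2))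
    (fun u v k => by
      obtain ⟨k1, k2⟩ := Prod.ext_iff.1 k
      have b := pm u.1 u.2 v.1 v.2
      simp only at k1 k2
      rw [hσ, hσ u.1, hσ v.1, Y3.mul, k1, k2, aa, aa] at b
      have := fpf _ _ _ (eK ▸ mem_cjK (hz3 _ _ (Y3.p_inj b).1 (Y3.p_inj b).2.1))
      exact Prod.ext (ae.1 this.1) (ae.1 this.2)) (1, 1)
  have b := pm x a x a
  obtain ⟨k1, k2⟩ := Prod.ext_iff.1 k
  simp only at k1 k2
  rw [aa, aa, p00, hσ, Y3.p_sq, k1, k2] at b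
  exact Y3.z_ne (by decide) b.symm

theorem notD (Y : St G) (e : F4) : ¬ Y.D (Y.p 0 0 e) := fun h => by
  by_cases he : e = 0
  · exact h.ne (he ▸ Y.p_zero)
  obtain ⟨j, k⟩ := Y.hz he
  obtain ⟨Y', c, h⟩ := (k ▸ h : Y.D (_ * _ * _)).of_conj.ex
  exact notD_b c h

theorem notD_L {l : G} (hl : l ∈ Y.L) : ¬ Y.D l := fun h => by
  obtain ⟨k, -, rfl⟩ := Y.cls l hl h.sq h.ne
  exact Y.notD 1 h.of_conj

end St

end H10.Sz
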