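import Cfsg.Agent.Lib.Std.Sz4

/-! Standard subgroups `L₃(4)`, part 5: the normaliser of `R V`. -/

set_option autoImplicit false
set_option maxRecDepth 100000
set_option synthInstance.maxSize 100000
set_option linter.unusedSectionVars false

namespace H10.Sz
open H69 Subgroup Cfsg
open H30 (F4)
open H10.HeS (T2)

variable {G : Type*} [Group G] [Finite G]

omit [Finite G] in
theorem cjm (x y a : G) : x * y * a * (x * y)⁻¹ = x * (y * a * y⁻¹) * x⁻¹ := by group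
omit [Finite G] in
theorem cjc (g x a : G) : g * x * g⁻¹ * (g * a * g⁻¹) * (g * x * g⁻¹)⁻¹ = g * (x * a * x⁻¹) * g⁻¹ := by group
omit [Finite G] in
theorem cjs (g a b : G) : g * (a * b) * g⁻¹ = g * a * g⁻¹ * (g * b * g⁻¹) := by group
omit [Finite G] in
theorem cjv {x a b : G} (h : x * a * x⁻¹ = b) : x⁻¹ * b * x⁻¹⁻¹ = a := by rw [← h]; group

omit [Finite G] in
theorem ord_cj (g x : G) : orderOf (g * x * g⁻¹) = orderOf x := (MulAut.conj g).orderOf_eq x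

theorem odd_pow (x : G) : ∃ m, Odd m ∧ T2 (x ^ m) := by
  obtain ⟨k, m, hm, e⟩ := Nat.exists_eq_two_pow_mul_odd (orderOf_pos x).ne'
  exact ⟨m, hm, k, by rw [← pow_mul, mul_comm, ← e, pow_orderOf_eq_one]⟩

theorem T2.odd {x : G} (h : T2 x) (o : Odd (orderOf x)) : x = 1 :=
  let ⟨k, e⟩ := h; orderOf_eq_one_iff.1
    (Nat.Coprime.eq_one_of_dvd ((Nat.coprime_two_right.2 o).pow_right k) (orderOf_dvd_of_pow_eq_one e))

theorem T2.inv {x : G} (h : T2 x) : T2 x⁻¹ := let ⟨k, e⟩ := h; ⟨k, by rw [inv_pow, e, inv_one]⟩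
theorem T2.pow {x : G} (h : T2 x) (n : ℕ) : T2 (x ^ n) :=
  let ⟨k, e⟩ := h; ⟨k, by rw [← pow_mul, mul_comm, pow_mul, e, one_pow]⟩

theorem mem_of_sq {x : G} (o : Odd (orderOf x)) {H : Subgroup G} (h : x * x ∈ H) : x ∈ H := by
  obtain ⟨k, e⟩ := o
  have : x = ((x * x) ^ k)⁻¹ := eq_inv_of_mul_eq_one_right (by rw [← sq, ← pow_mul, ← pow_succ, ← e, pow_orderOf_eq_one])
  exact this ▸ inv_mem (pow_mem h k)

theorem dec2 (x : G) : ∃ a ∈ zpowers x, ∃ b ∈ zpowers x, T2 a ∧ Odd (orderOf b) ∧ x = a * b := by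
  obtain ⟨k, m, hm, e⟩ := Nat.exists_eq_two_pow_mul_odd (orderOf_pos x).ne'
  obtain ⟨i, j, q⟩ := Nat.isCoprime_iff_coprime.2 ((Nat.coprime_two_right.2 hm).pow_right k)
  have h1 : (x ^ m) ^ 2 ^ k = 1 := by rw [← pow_mul, mul_comm, ← e, pow_orderOf_eq_one]
  refine ⟨(x ^ m) ^ i, zpow_mem (pow_mem (mem_zpowers x) _) _, (x ^ 2 ^ k) ^ j, zpow_mem (pow_mem (mem_zpowers x) _) _,
    ⟨k, by rw [← zpow_natCast, ← zpow_mul, mul_comm, zpow_mul, zpow_natCast, h1, one_zpow]⟩,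
    hm.of_dvd_nat (orderOf_dvd_of_pow_eq_one ?_), ?_⟩
  · rw [← zpow_natCast, ← zpow_mul, mul_comm, zpow_mul, zpow_natCast, ← pow_mul, ← e, pow_orderOf_eq_one, one_zpow]
  · rw [← zpow_natCast, ← zpow_natCast x, ← zpow_mul, ← zpow_mul, ← zpow_add, mul_comm, mul_comm _ j, q, zpow_one]

theorem t2_mul {Γ : Subgroup G} (h : ∀ x ∈ Γ, ∃ k, ∀ y ∈ Γ, y * x ^ 2 ^ k = x ^ 2 ^ k * y) {x y : G}
    (hx : x ∈ Γ) (hy : y ∈ Γ) (tx : T2 x) (ty : T2 y) : T2 (x * y) := by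
  haveI := Fact.mk Nat.prime_two
  haveI : Group.IsNilpotent Γ := Group.of_quotient_center_nilpotent (IsPGroup.isNilpotent (p := 2) fun q => by
    obtain ⟨a, rfl⟩ := QuotientGroup.mk_surjective q
    obtain ⟨k, e⟩ := h a a.2
    exact ⟨k, (QuotientGroup.eq_one_iff _).2 (mem_center_iff.2 fun b => Subtype.ext (e b b.2))⟩)
  have m : ∀ z (hz : z ∈ Γ), T2 z → (⟨z, hz⟩ : Γ) ∈ (default : Sylow 2 Γ) := fun z hz ⟨k, e⟩ => by
    obtain ⟨P, hP⟩ := (T2.pg (x := (⟨z, hz⟩ : Γ)) ⟨k, Subtype.ext e⟩).exists_le_sylow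
    haveI := Sylow.unique_of_normal P inferInstance
    exact Subsingleton.elim P default ▸ hP (mem_zpowers _)
  obtain ⟨k, e⟩ := T2.of_mem (default : Sylow 2 Γ).isPGroup' (mul_mem (m x hx tx) (m y hy ty))
  exact ⟨k, congrArg Subtype.val e⟩

theorem add_ext {f g : F4 → F4} (hf : ∀ x y, f (x + y) = f x + f y) (hg : ∀ x y, g (x + y) = g x + g y)
    (h1 : f 1 = g 1) (h2 : f ω = g ω) : ∀ x, f x = g x :=
  F4.forall_iff.2 ⟨(by simpa [aa] using hf 0 0 : f 0 = 0).trans (by simpa [aa] using hg 0 0 : g 0 = 0).symm, h1, h2,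
    (hf 1 ω).trans (h1 ▸ h2 ▸ (hg 1 ω).symm)⟩

theorem bi_form (κ : F4 → F4 → F4) (h1 : ∀ b b' x, κ (b + b') x = κ b x + κ b' x)
    (h2 : ∀ b x x', κ b (x + x') = κ b x + κ b x') :
    ∃ A B C D, ∀ b x, κ b x = A * b * x + B * b * (x * x) + C * (b * b) * x + D * (b * b) * (x * x) := by
  obtain ⟨A, B, C, D, k1, k2, k3, k4⟩ := (by decide +kernel : ∀ a b c d : F4, ∃ A B C D : F4, a = A + B + C + D ∧
    b = A * ω + B * ϖ + C * ω + D * ϖ ∧ c = A * ω + B * ω + C * ϖ + D * ϖ ∧ d = A * ϖ + B + C + D * ω)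
    (κ 1 1) (κ 1 ω) (κ ω 1) (κ ω ω)
  refine ⟨A, B, C, D, fun b => add_ext (h2 b) (by clear * -; decide +revert +kernel) ?_ ?_⟩ <;> revert b
  · exact add_ext (fun _ _ => h1 ..) (by clear * -; decide +revert +kernel)
      (k1.trans (by clear * -; decide +revert)) (k3.trans (by clear * -; decide +revert))
  · exact add_ext (fun _ _ => h1 ..) (by clear * -; decide +revert +kernel)
      (k2.trans (by clear * -; decide +revert)) (k4.trans (by clear * -; decide +revert))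

theorem St.h_p' (Y : St G) (x a e : F4) : Y.h⁻¹ * Y.p x a e * Y.h = Y.p (ω * x) (ω * a) (ϖ * e) := by
  rw [← cji Y.h, Y.h_p]
  simp [mul_assoc, ← mul_assoc ϖ, ← mul_assoc ω, show ϖ * ω = 1 from rfl, show ω * ϖ = 1 from rfl]

theorem St.n_inv (Y : St G) : Y.n⁻¹ = Y.n := inv_eq_of_mul_eq_one_left Y.n2

/-- an element of `L` centralising `V` -/
theorem St.cVL {Y : St G} {y : G} (hy : y ∈ Y.L) (h : ∀ x e, y * Y.p x 0 e * y⁻¹ = Y.p x 0 e) :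
    ∃ x e, y = Y.p x 0 e := by
  obtain ⟨x, e, k, hk, rfl⟩ := St.cV (Y.LN hy) h
  exact ⟨x, e, by rw [Y.LK ((mul_mem_cancel_left (Y.p_L ..)).1 hy) hk, mul_one]⟩

namespace Hy
variable (X : Hy G)

/-- the two sides exchanged -/
def swap : Hy G :=
  { X with
    toSt := X.toSt.swap
    g_T := X.swap_T ▸ X.g_T
    g_r := by simpa [St.swap, Pm.swap_p] using X.g_r
    g_r' := by simpa [St.swap, Pm.swap_p] using X.g_r' }

theorem Φ0 : X.Φ 0 := X.hΦ.elim (· 0) fun h => (h 0).2 (.inl rfl)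
theorem Φ1 : X.Φ 1 := X.hΦ.elim (· 1) fun h => (h 1).2 (.inr rfl)
variable {X}
theorem Φa {c c' : F4} (h : X.Φ c) (h' : X.Φ c') : X.Φ (c + c') := X.hΦ.elim (· _) fun k => by
  rw [k] at h h' ⊢; clear * - h h'; decide +revert
theorem rR {c : F4} (h : X.Φ c) : X.r c ∈ X.R := (X.memR _).2 ⟨c, h, rfl⟩
theorem rK {c : F4} (h : X.Φ c) : X.r c ∈ 𝐂(X.L) := X.sylR.le (rR h)
theorem r0 : X.r 0 = 1 := by simpa using X.r_mul 0 0 X.Φ0 X.Φ0
theorem r2 {c : F4} (h : X.Φ c) : X.r c * X.r c = 1 := by rw [X.r_mul c c h h, aa, r0]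
theorem r_inv {c : F4} (h : X.Φ c) : (X.r c)⁻¹ = X.r c := inv_eq_of_mul_eq_one_left (r2 h)
theorem r_ne {c : F4} (h : X.Φ c) (c0 : c ≠ 0) : X.r c ≠ 1 := fun e => c0 (X.r_one c h e)
theorem rp {c : F4} (h : X.Φ c) (x a e : F4) : X.r c * X.p x a e = X.p x a e * X.r c := (X.pk (rK h) ..).symm
theorem pr_mul {c c' : F4} (h : X.Φ c) (h' : X.Φ c') (x a e x' a' e' : F4) : X.p x a e * X.r c * (X.p x' a' e' * X.r c') =
    X.p (x + x') (a + a') (e + e' + a * x') * X.r (c + c') := by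
  rw [mul_assoc, ← mul_assoc (X.r c), rp h, mul_assoc, X.r_mul _ _ h h', ← mul_assoc, X.mul]
theorem pr_sq {c : F4} (h : X.Φ c) (x a e : F4) : X.p x a e * X.r c * (X.p x a e * X.r c) = X.p 0 0 (a * x) := by
  simp [pr_mul h h, aa, r0]
theorem cr {c : F4} (h : X.Φ c) (c0 : c ≠ 0) {y : G} (e : y * X.r c * y⁻¹ = X.r c) : y ∈ 𝐍(X.L) :=
  St.cN (rK h) (.of_sq (r2 h)) (r_ne h c0) (mul_inv_eq_iff_eq_mul.1 e)
theorem pr_inj {x a e c x' a' e' c' : F4} (h : X.Φ c) (h' : X.Φ c') (q : X.p x a e * X.r c = X.p x' a' e' * X.r c') :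
    x = x' ∧ a = a' ∧ e = e' ∧ c = c' := by
  obtain ⟨h1, h2⟩ := X.uq (X.p_L ..) (rK h) (X.p_L ..) (rK h') q
  obtain ⟨a1, a2, a3⟩ := X.p_inj h1
  exact ⟨a1, a2, a3, ae.1 (X.r_one _ (Φa h h') (by rw [← X.r_mul _ _ h h', h2, r2 h']))⟩

theorem Drt {c : F4} (h : X.Φ c) (c0 : c ≠ 0) {u : G} (hu : u ∈ X.L) (u2 : u * u = 1) : X.D (X.r c * u) := by
  by_cases u1 : u = 1
  · exact u1 ▸ (mul_one (X.r c)).symm ▸ St.D.of_K (rK h) (r2 h) (r_ne h c0)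
  obtain ⟨k, hk, rfl⟩ := X.cls u hu u2 u1
  obtain ⟨n, q⟩ := X.hz c0
  obtain ⟨c', h', e⟩ := X.g_r c h
  have := ((St.D.of_K (rK h') (r2 h') fun k => c0 (X.pK (x := 0) (a := 0) (by
    rw [k, mul_one, mul_inv_cancel] at e
    rw [eq_inv_of_mul_eq_one_right e.symm]; exact inv_mem (rK h))).2.2).conj X.g).conj (k * (X.h ^ n)⁻¹)
  rw [e, ← conj_mul, X.kc (rK h) (mul_mem hk (inv_mem (pow_mem X.h_L n))), ← q] at this
  convert this using 2; group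

/-- an involution of `K` is conjugate in `K` into `R` -/
theorem K_inv {k : G} (hk : k ∈ 𝐂(X.L)) (k2 : k * k = 1) (k1 : k ≠ 1) :
    ∃ j ∈ 𝐂(X.L), ∃ c, X.Φ c ∧ c ≠ 0 ∧ k = j * X.r c * j⁻¹ := by
  haveI := Fact.mk Nat.prime_two
  obtain ⟨S, hS, hk'⟩ := exists_isSylowIn_le (T2.of_sq k2).pg (zpowers_le.2 hk)
  obtain ⟨j, hj, rfl⟩ := X.sylR.conj hS
  obtain ⟨_, h, rfl⟩ := mem_cj'.1 (hk' (mem_zpowers k))
  obtain ⟨c, hc, rfl⟩ := (X.memR _).1 h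
  exact ⟨j, hj, c, hc, by rintro rfl; exact k1 (by simp [r0]), rfl⟩

theorem Dlk {l k : G} (hl : l ∈ X.L) (l2 : l * l = 1) (hk : k ∈ 𝐂(X.L)) (k2 : k * k = 1) (k1 : k ≠ 1) :
    X.D (l * k) := by
  obtain ⟨j, hj, c, hc, c0, rfl⟩ := K_inv hk k2 k1
  have := (Drt hc c0 hl l2).conj j
  rwa [← conj_mul, conj_eq_of_mem_centralizer hj hl, ← hk l hl] at this

variable (X) in
/-- odd elements centralising `R T` -/
def Od (o : G) : Prop := Odd (orderOf o) ∧ (∀ x a e, o * X.p x a e * o⁻¹ = X.p x a e) ∧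
  ∀ c, X.Φ c → o * X.r c * o⁻¹ = X.r c

variable (X) in
/-- the centraliser of the odd elements -/
def CO : Subgroup G := centralizer {o | X.Od o}

theorem Od.K {o : G} (h : X.Od o) : o ∈ 𝐂(X.L) := by
  obtain ⟨e, k, hk, q⟩ := St.cT (cr X.Φ1 one_ne_zero (h.2.2 1 X.Φ1)) h.2.1
  exact mem_of_sq h.1 (by
    rw [q, mul_assoc, ← mul_assoc k, ← X.pk hk, ← mul_assoc, ← mul_assoc, X.z_sq, one_mul]; exact mul_mem hk hk)
theorem L_CO {l : G} (h : l ∈ X.L) : l ∈ X.CO := fun _ ho => (ho.K l h).symm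
theorem p_CO (x a e : F4) : X.p x a e ∈ X.CO := L_CO (X.p_L ..)
theorem r_CO {c : F4} (h : X.Φ c) : X.r c ∈ X.CO := fun _ ho => mul_inv_eq_iff_eq_mul.1 (ho.2.2 c h)
theorem swap_Od {o : G} : X.swap.Od o ↔ X.Od o :=
  ⟨fun h => ⟨h.1, fun x a e => conj_eq_of_mem_centralizer h.K (X.p_L ..), h.2.2⟩,
    fun h => ⟨h.1, fun _ _ _ => h.2.1 .., h.2.2⟩⟩
theorem swap_CO : X.swap.CO = X.CO := by simp only [CO, swap_Od]

theorem cR {k : G} (hk : k ∈ 𝐂(X.L)) (h : ∀ c, X.Φ c → k * X.r c * k⁻¹ = X.r c) :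
    ∃ c o, X.Φ c ∧ X.Od o ∧ k = X.r c * o := by
  obtain ⟨a, ha, b, hb, t, o, e⟩ := dec2 k
  have hR : zpowers k ≤ 𝐂(X.R) := zpowers_le.2 fun y hy => by
    obtain ⟨c, hc, rfl⟩ := (X.memR y).1 hy; exact (mul_inv_eq_iff_eq_mul.1 (h c hc)).symm
  have hK := zpowers_le.2 hk
  obtain ⟨c, hc, rfl⟩ := (X.memR a).1 ((X.sylR.max (zpowers a ⊔ X.R) le_sup_right (sup_le (zpowers_le.2 (hK ha))
    X.sylR.le) (isPGroup_sup_of_le_normalizer_right t.pg X.sylR.isP (le_normalizer_of_le_centralizer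
      (zpowers_le.2 (hR ha))))).le (mem_sup_left (mem_zpowers a)))
  exact ⟨c, b, hc, ⟨o, fun _ _ _ => conj_eq_of_mem_centralizer (hK hb) (X.p_L ..),
    fun _ h => conj_eq_of_mem_centralizer (hR hb) (rR h)⟩, e⟩

/-- a 2-element differing from a 2-element of `CO` by an odd element -/
theorem od_one {y o : G} (hy : y ∈ X.CO) (t : T2 y) (ho : X.Od o) (t' : T2 (y * o)) : o = 1 :=
  T2.odd (by simpa using (T2.inv t).mul t' (by rw [← hy o ho, mul_inv_cancel_right, hy o ho]; group)) ho.1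

variable (X) in
/-- elements centralising `V` and normalising `R V` -/
structure B (x : G) (b b' : F4) : Prop where
  v : ∀ u e, x * X.p u 0 e * x⁻¹ = X.p u 0 e
  r : ∀ c, X.Φ c → x * X.r c * x⁻¹ = X.r c * X.p (c * b) 0 (c * b')

namespace B
variable {x y : G} {b b' a a' : F4}

theorem mul (h : X.B x b b') (k : X.B y a a') : X.B (x * y) (b + a) (b' + a') :=
  ⟨fun u e => by rw [cjm, k.v, h.v], fun c hc => by
    rw [cjm, k.r c hc, ← conj_mul, h.r c hc, h.v, mul_assoc, X.v_mul, mul_add, mul_add]⟩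
theorem cm (h : X.B x b b') (u e : F4) : x * X.p u 0 e = X.p u 0 e * x := mul_inv_eq_iff_eq_mul.1 (h.v u e)
theorem inv (h : X.B x b b') : X.B x⁻¹ b b' :=
  ⟨fun u e => cjv (h.v ..), fun c hc => cjv (by rw [← conj_mul, h.r c hc, h.v, mul_assoc, X.v_sq, mul_one])⟩
theorem of_p (u e : F4) : X.B (X.p u 0 e) 0 0 :=
  ⟨fun _ _ => by simp [X.p_conj], fun c hc => by simp [X.p_zero, X.kc (rK hc) (X.p_L ..)]⟩
theorem of_r {c : F4} (hc : X.Φ c) : X.B (X.r c) 0 0 :=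
  ⟨fun _ _ => conj_eq_of_mem_centralizer (rK hc) (X.p_L ..), fun c' h' => by
    simp [X.p_zero, r_inv hc, X.r_mul, Φa, hc, h', add_comm c c', add_assoc, aa]⟩
theorem one : X.B 1 0 0 := X.p_zero ▸ of_p 0 0
theorem uniq (h : X.B x b b') (k : X.B x a a') : b = a ∧ b' = a' := by
  have := X.p_inj (mul_left_cancel ((h.r 1 X.Φ1).symm.trans (k.r 1 X.Φ1)))
  simpa using this
theorem pow (h : X.B x b b') {m : ℕ} (hm : Odd m) : X.B (x ^ m) b b' := by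
  obtain ⟨k, rfl⟩ := hm
  induction k with
  | zero => simpa using h
  | succ k ih =>
    rw [show 2 * (k + 1) + 1 = 2 * k + 1 + 2 by ring, pow_add, sq]
    simpa [aa] using ih.mul (h.mul h)
theorem ker (h : X.B x 0 0) : ∃ u e c o, X.Φ c ∧ X.Od o ∧ x = X.p u 0 e * X.r c * o := by
  have hr : ∀ c, X.Φ c → x * X.r c * x⁻¹ = X.r c := fun c hc => by simpa [X.p_zero] using h.r c hc
  obtain ⟨u, e, k, hk, rfl⟩ := St.cV (cr X.Φ1 one_ne_zero (hr 1 X.Φ1)) h.v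
  obtain ⟨c, o, h1, h2, rfl⟩ := cR hk fun c hc => by
    rw [← cji (X.p u 0 e), X.kc (rK hc) (X.p_L ..), ← cjm, hr c hc]
  exact ⟨u, e, c, o, h1, h2, by rw [mul_assoc]⟩
theorem t2pr {c : F4} (hc : X.Φ c) (u a e : F4) : T2 (X.p u a e * X.r c) :=
  (X.t2 ..).mul (.of_sq (r2 hc)) (rp hc ..).symm
theorem ker2 (h : X.B x 0 0) (t : T2 x) : ∃ u e c, X.Φ c ∧ x = X.p u 0 e * X.r c := by
  obtain ⟨u, e, c, o, h1, h2, rfl⟩ := h.ker
  exact ⟨u, e, c, h1, by rw [od_one (mul_mem (p_CO _ _ _) (r_CO h1)) (t2pr h1 ..) h2 t, mul_one]⟩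
theorem t2 (h : X.B x b b') (k : X.B y a a') (hx : x ∈ X.CO) (hy : y ∈ X.CO) (tx : T2 x) (ty : T2 y) :
    T2 (x * y) := by
  let Γ : Subgroup G := ⟨⟨⟨{x | ∃ b b', X.B x b b'}, fun ⟨_, _, h⟩ ⟨_, _, k⟩ => ⟨_, _, h.mul k⟩⟩, 0, 0, one⟩,
    fun ⟨_, _, h⟩ => ⟨_, _, h.inv⟩⟩
  refine t2_mul (Γ := Γ ⊓ X.CO) ?_ ⟨⟨_, _, h⟩, hx⟩ ⟨⟨_, _, k⟩, hy⟩ tx ty
  rintro z ⟨⟨b, b', h⟩, -⟩
  obtain ⟨u, e, c, o, h1, h2, q⟩ := (by simpa [aa] using h.mul h : X.B (z * z) 0 0).ker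
  refine ⟨2, fun y hy => ?_⟩
  have c1 : Commute o (X.p u 0 e * X.r c) := mul_mem (p_CO u 0 e) (r_CO h1) o h2
  rw [show z ^ 2 ^ 2 = (z * z) ^ 2 by simp [pow_succ, mul_assoc], q, c1.symm.mul_pow, sq (_ * _),
    pr_sq h1, zero_mul, X.p_zero, one_mul]
  exact ((show Commute o y from hy.2 o h2).symm.pow_right 2).eq
theorem sq (h : X.B x b b') (t : T2 x) : ∃ u e, x * x = X.p u 0 e := by
  by_cases q : b = 0 ∧ b' = 0
  · obtain ⟨rfl, rfl⟩ := q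
    obtain ⟨u, e, c, h1, rfl⟩ := h.ker2 t
    exact ⟨0, _, pr_sq h1 ..⟩
  obtain ⟨u, e, c, h1, k⟩ := (by simpa [aa] using h.mul h : X.B (x * x) 0 0).ker2 (t.mul t rfl)
  have : x * (X.p u 0 e * X.r c) * x⁻¹ = X.p u 0 e * X.r c := by rw [← k]; group
  rw [← conj_mul, h.v, h.r c h1, mul_right_inj, mul_eq_left, X.p_one] at this
  obtain rfl : c = 0 := by_contra fun c0 => q ⟨by simpa [c0] using this.1, by simpa [c0] using this.2.2⟩
  exact ⟨u, e, by rw [k, r0, mul_one]⟩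
theorem cj {g : G} (h : X.B x b b') (hg : g ∈ X.L) (h1 : ∀ u e, ∃ u' e', X.p u 0 e = g * X.p u' 0 e' * g⁻¹)
    (h2 : ∀ c, g * X.p (c * b) 0 (c * b') * g⁻¹ = X.p (c * a) 0 (c * a')) : X.B (g * x * g⁻¹) a a' :=
  ⟨fun u e => by obtain ⟨_, _, q⟩ := h1 u e; rw [q, cjc, h.v], fun c hc => by
    rw [← h2, ← X.kc (rK hc) hg, cjc, conj_mul, h.r c hc]⟩
theorem ch (h : X.B x b b') : X.B (X.h * x * X.h⁻¹) (ϖ * b) (ω * b') :=
  h.cj X.h_L (fun u e => ⟨ω * u, ϖ * e, by rw [X.h_p, X.p_eq]; clear * -; decide +revert⟩)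
    fun c => by rw [X.h_p, X.p_eq]; exact ⟨by ring, by ring, by ring⟩
theorem cn (h : X.B x b b') : X.B (X.n * x * X.n⁻¹) b' b :=
  h.cj X.n_L (fun u e => ⟨e, u, (X.n_p ..).symm⟩) fun c => X.n_p ..
theorem cw (h : X.B x b b') (a : F4) : X.B (X.p 0 a 0 * x * (X.p 0 a 0)⁻¹) b (b' + a * b) :=
  h.cj (X.p_L ..) (fun u e => ⟨u, e + a * u, by rw [X.p_conj, X.p_eq]; clear * -; decide +revert⟩)
    fun c => by rw [X.p_conj, X.p_eq]; exact ⟨rfl, rfl, by ring⟩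

end B

variable (X) in
/-- elements centralising `T` and normalising `R Z` -/
structure A (x : G) (b : F4) : Prop where
  co : x ∈ X.CO
  t : ∀ u a e, x * X.p u a e * x⁻¹ = X.p u a e
  r : ∀ c, X.Φ c → x * X.r c * x⁻¹ = X.r c * X.p 0 0 (c * b)

namespace A
variable {x y : G} {b b' : F4}

theorem toB (h : X.A x b) : X.B x 0 b := ⟨fun _ _ => h.t .., by simpa using h.r⟩
theorem of_B (h : X.B x 0 b) (co : x ∈ X.CO) (t : ∀ u a e, x * X.p u a e * x⁻¹ = X.p u a e) : X.A x b :=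
  ⟨co, t, by simpa using h.r⟩
theorem mul (h : X.A x b) (k : X.A y b') : X.A (x * y) (b + b') :=
  of_B (by simpa using h.toB.mul k.toB) (mul_mem h.co k.co) fun _ _ _ => by rw [cjm, k.t, h.t]
theorem cm (h : X.A x b) (u a e : F4) : x * X.p u a e = X.p u a e * x := mul_inv_eq_iff_eq_mul.1 (h.t u a e)
theorem ch (h : X.A x b) : X.A (X.h * x * X.h⁻¹) (ω * b) :=
  of_B (by simpa using h.toB.ch) (mul_mem (mul_mem (L_CO X.h_L) h.co) (inv_mem (L_CO X.h_L))) fun u a e => by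
    rw [cjm, cjm, inv_inv, X.h_p', h.t, ← X.h_p']; group
theorem of_r {c : F4} (hc : X.Φ c) : X.A (X.r c) 0 :=
  of_B (B.of_r hc) (r_CO hc) fun _ _ _ => conj_eq_of_mem_centralizer (rK hc) (X.p_L ..)
theorem one : X.A 1 0 := r0 (X := X) ▸ of_r X.Φ0
theorem swap (h : X.A x b) : X.swap.A x b :=
  ⟨swap_CO (X := X) ▸ h.co, fun _ _ _ => h.t .., by simpa [Hy.swap, St.swap, Pm.swap_p] using h.r⟩
theorem nf (h : X.A x b) {c c' : F4} (hc : X.Φ c) (hc' : X.Φ c') (u a e u' a' e' : F4) (y : G) :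
    X.p u a e * X.r c * x * (X.p u' a' e' * X.r c' * y) =
      X.p (u + u') (a + a') (e + e' + a * u' + c' * b) * X.r (c + c') * (x * y) := by
  have : x * (X.p u' a' e' * X.r c') = X.p u' a' (e' + c' * b) * X.r c' * x := by
    rw [← mul_inv_eq_iff_eq_mul, ← conj_mul, h.t, h.r c' hc', rp hc', ← mul_assoc, X.mul_z]
  rw [mul_assoc _ x, ← mul_assoc x, this, mul_assoc _ x, ← mul_assoc _ (_ * X.r c'), pr_mul hc hc']
  congr 3; ring
theorem z_of (h : X.A x 0) (t : T2 x) : ∃ e c, X.Φ c ∧ x = X.p 0 0 e * X.r c := by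
  obtain ⟨u, e, c, hc, rfl⟩ := h.toB.ker2 t
  have := h.t 0 1 0
  rw [cjm, conj_eq_of_mem_centralizer (rK hc) (X.p_L ..), X.p_conj, X.p_eq] at this
  obtain rfl : u = 0 := by simpa using this.2.2
  exact ⟨e, c, hc, rfl⟩
theorem sq (h : X.A x b) (t : T2 x) : ∃ e, x * x = X.p 0 0 e := by
  obtain ⟨u, e, q⟩ := h.toB.sq t
  have := (h.mul h).t 0 1 0
  rw [q, X.p_conj, X.p_eq] at this
  obtain rfl : u = 0 := by simpa using this.2.2
  exact ⟨e, q⟩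
theorem t2 (h : X.A x b) (k : X.A y b') (tx : T2 x) (ty : T2 y) : T2 (x * y) := h.toB.t2 k.toB h.co k.co tx ty

end A

theorem exA1 {x : G} {b : F4} (co : x ∈ X.CO) (q : X.Act x false false 1 1)
    (hr : ∀ c, X.Φ c → x * X.r c * x⁻¹ = X.r c * X.p 0 0 (c * b)) : ∃ y, X.A y (ϖ * b) := by
  choose φ hφ using q.triv.1
  obtain ⟨α, α', h1⟩ := add_form (fun u => φ u 0 0) fun u v => (X.p_inj ((hφ ..).symm.trans
    (by simpa using Pm.mul_of (hφ u 0 0) (hφ v 0 0)))).2.2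
  obtain ⟨β, β', h2⟩ := add_form (fun u => φ 0 u 0) fun u v => (X.p_inj ((hφ ..).symm.trans
    (by simpa using Pm.mul_of (hφ 0 u 0) (hφ 0 v 0)))).2.2
  have h3 : ∀ u a e, x * X.p u a e * x⁻¹ = X.p u a (e + (α * u + α' * (u * u) + (β * a + β' * (a * a)))) :=
    fun u a e => by
      rw [X.dec u a e, ← conj_mul, ← conj_mul, hφ, hφ, q.triv.2, h1, h2, X.mul, X.mul]; congr 1 <;> ring
  refine ⟨x * (X.h * x * X.h⁻¹) * X.p (ω * β) (ω * α) 0, mul_mem (mul_mem co (mul_mem (mul_mem (L_CO X.h_L) co)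
    (inv_mem (L_CO X.h_L)))) (p_CO _ _ _), fun u a e => ?_, fun c hc => ?_⟩
  · rw [cjm, cjm, cjm, cjm, X.p_conj, inv_inv, X.h_p', h3, X.h_p, h3, X.p_eq]
    clear * -; decide +revert +kernel
  · rw [cjm, X.kc (rK hc) (X.p_L ..), cjm, cjm, cjm, X.kc (rK hc) (inv_mem X.h_L), hr c hc, cjs X.h,
      X.kc (rK hc) X.h_L, X.h_z, cjs, hr c hc, q.triv.2, mul_assoc, X.z_mul]
    congr 2; clear * -; decide +revert

theorem exA2 (X : Hy G) : ∃ y, X.A y 1 ∧ T2 y := by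
  have hT := X.act_h.norm
  obtain ⟨s, f, l, m, q⟩ := Pm.act_of_norm X.g_T
  obtain ⟨s', f', l', m', q'⟩ := Pm.act_of_norm (mul_mem (mul_mem X.g_T hT) (inv_mem X.g_T))
  obtain ⟨rfl, rfl, rfl, hl⟩ : s' = false ∧ f' = false ∧ l' = m' ∧ (l' = ω ∨ l' = ϖ) := by
    obtain ⟨a1, a2, a3, a4⟩ := (q.mul X.act_h).uniq (by simpa using q'.mul q)
    have b1 := q.l0
    have b2 := q.m0
    clear q q'; clear * - a1 a2 a3 a4 b1 b2; decide +revert +kernel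
  have co : X.g * X.h * X.g⁻¹ ∈ X.CO := fun o ho => by
    have : X.Od (X.g⁻¹ * o * X.g⁻¹⁻¹) := ⟨by rw [ord_cj]; exact ho.1, fun x a e => by
      obtain ⟨_, k⟩ := q.t x a e
      rw [← cji X.g, ← cjc, k, inv_inv, mul_assoc X.g⁻¹, mul_inv_cancel_left, mul_inv_cancel_right, ho.2.1], fun c hc => by
      obtain ⟨c', hc', k⟩ := X.g_r' c hc
      rw [← cji X.g, ← cjc, k, inv_inv, mul_assoc X.g⁻¹, mul_inv_cancel_left, mul_inv_cancel_right, ← conj_mul,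
        ho.2.1, ho.2.2 c' hc']⟩
    have := this.K _ X.h_L
    calc _ = X.g * (X.g⁻¹ * o * X.g⁻¹⁻¹ * X.h) * X.g⁻¹ := by group
      _ = _ := by rw [← this]; group
  have hr : ∀ c, X.Φ c → X.g * X.h * X.g⁻¹ * X.r c * (X.g * X.h * X.g⁻¹)⁻¹ = X.r c * X.p 0 0 (c * (1 + l' * l')) :=
    fun c hc => by
      obtain ⟨c', hc', k⟩ := X.g_r c hc
      have := cjc X.g X.h (X.r c')
      rw [X.kc (rK hc') X.h_L, k, ← conj_mul, q'.z, ← eq_mul_inv_iff_mul_eq, X.z_inv, mul_assoc (X.r c), X.z_mul] at this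
      rw [this]; congr 2; simp [th]; ring
  obtain ⟨y, b, h, b0⟩ : ∃ y b, X.A y b ∧ b ≠ 0 := by
    rcases hl with rfl | rfl
    · exact (exA1 (mul_mem co (L_CO X.h_L)) (q'.mul X.act_h) fun c hc => by
        rw [cjm, X.kc (rK hc) X.h_L, hr c hc]).imp fun _ h => ⟨_, h, by decide⟩
    · exact (exA1 (mul_mem co (L_CO (mul_mem X.h_L X.h_L))) (q'.mul (X.act_h.mul X.act_h)) fun c hc => by
        rw [cjm, X.kc (rK hc) (mul_mem X.h_L X.h_L), hr c hc]).imp fun _ h => ⟨_, h, by decide⟩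
  obtain ⟨m, hm, t⟩ := odd_pow y
  have k : X.A (y ^ m) b := .of_B (h.toB.pow hm) (pow_mem h.co m) fun u a e =>
    mul_inv_eq_iff_eq_mul.2 ((show Commute y _ from h.cm u a e).pow_left m)
  rcases cas b with rfl | rfl | rfl | rfl
  exacts [absurd rfl b0, ⟨_, k, t⟩, ⟨_, k.ch.ch, (t.conj _).conj _⟩, ⟨_, k.ch, t.conj _⟩]

end Hy

end H10.Sz
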