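import Cfsg.Agent.Lib.Std.Sz5

/-! Standard subgroups `L₃(4)`, part 6: the groups `D` and `Y`. -/

set_option autoImplicit false
set_option maxRecDepth 100000
set_option synthInstance.maxSize 100000
set_option linter.unusedSectionVars false

namespace H10.Sz
open H69 Subgroup Cfsg
open H30 (F4)
open H10.HeS (T2)

variable {G : Type*} [Group G] [Finite G]

namespace Hy
variable {X : Hy G}

theorem nCO {x : G} (h : x ∈ X.CO) {l : G} (hl : l ∈ X.L) : l * x * l⁻¹ ∈ X.CO :=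
  mul_mem (mul_mem (L_CO hl) h) (inv_mem (L_CO hl))

theorem exA3 (X : Hy G) : ∃ x, X.A x 1 ∧ T2 x ∧ x * (X.h * x * X.h⁻¹) * (X.h * (X.h * x * X.h⁻¹) * X.h⁻¹) = 1 := by
  obtain ⟨y, h, t⟩ := X.exA2
  obtain ⟨e, c, hc, q⟩ := (show X.A _ 0 from (h.mul h.ch).mul h.ch.ch).z_of
    ((h.mul h.ch).t2 h.ch.ch (h.t2 h.ch t (t.conj _)) ((t.conj _).conj _))
  have e1 : ∀ y, X.h * (X.p 0 0 0 * X.r c * y) * X.h⁻¹ = X.p 0 0 0 * X.r c * (X.h * y * X.h⁻¹) := fun y => by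
    rw [cjs, cjs, X.h_z, X.kc (rK hc) X.h_L, mul_zero]
  have hx : X.A (X.p 0 0 0 * X.r c * y) 1 := by simpa [X.p_zero] using (A.of_r hc).mul h
  refine ⟨_, hx, by simpa [X.p_zero] using (A.of_r hc).t2 h (.of_sq (r2 hc)) t, ?_⟩
  obtain ⟨e', k⟩ : ∃ e', X.p 0 0 0 * X.r c * y * (X.h * (X.p 0 0 0 * X.r c * y) * X.h⁻¹) *
      (X.h * (X.h * (X.p 0 0 0 * X.r c * y) * X.h⁻¹) * X.h⁻¹) = X.p 0 0 e' :=
    ⟨_, by rw [e1, e1, h.nf hc hc, (h.mul h.ch).nf (Φa hc hc) hc, q, pr_mul (Φa (Φa hc hc) hc) hc]; simp [aa, r0]; rfl⟩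
  generalize X.p 0 0 0 * X.r c * y = x at *
  have h3 : X.h * (X.h * (X.h * x * X.h⁻¹) * X.h⁻¹) * X.h⁻¹ = x := by rw [← cjm, ← cjm, X.h3]; simp
  have := X.h_z e'
  rw [← k, cjs, cjs, h3, ← cji x, show ∀ a b : G, x * (a * b * x) * x⁻¹ = x * a * b by intros; group,
    k, hx.t, X.p_eq] at this
  rw [k, show e' = 0 by have := this.2.2; clear * - this; decide +revert, X.p_zero]

/-- the commutator with an element of `W` -/
theorem B.wc {y δ : G} {b a : F4} (hy : X.B y b 0) (co : y ∈ X.CO) (t : T2 y) (hδ : X.A δ (a * b)) (tδ : T2 δ) :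
    ∃ u e c, X.Φ c ∧ y * X.p 0 a 0 * y⁻¹ * (X.p 0 a 0)⁻¹ = X.p u 0 e * X.r c * δ ∧
      δ * δ * X.p 0 0 (c * (a * b) + a * u) = 1 := by
  have h1 : X.B (y * (X.p 0 a 0 * y⁻¹ * (X.p 0 a 0)⁻¹)) 0 (a * b) := by simpa [aa] using hy.mul (hy.inv.cw a)
  have c1 := nCO (inv_mem co) (X.p_L 0 a 0)
  have t1 := hy.t2 (hy.inv.cw a) co c1 t ((T2.inv t).conj _)
  obtain ⟨u, e, c, hc, q⟩ := (by simpa [aa] using h1.mul hδ.toB.inv : X.B _ 0 0).ker2
    (h1.t2 hδ.toB.inv (mul_mem co c1) (inv_mem hδ.co) t1 (T2.inv tδ))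
  rw [mul_inv_eq_iff_eq_mul] at q
  refine ⟨u, e, c, hc, by rw [← q]; group, ?_⟩
  have k : y * (X.p 0 a 0 * y⁻¹ * (X.p 0 a 0)⁻¹) * (X.p 0 a 0 * (y * (X.p 0 a 0 * y⁻¹ * (X.p 0 a 0)⁻¹)) *
      (X.p 0 a 0)⁻¹) = 1 := by
    rw [X.w_inv]; simp [mul_assoc, ← mul_assoc (X.p 0 a 0) (X.p 0 a 0), X.w_sq]
  rw [q, cjs, cjs, X.p_conj, X.kc (rK hc) (X.p_L ..), ← hδ.cm, mul_inv_cancel_right, hδ.nf hc hc, aa, aa, aa, r0,
    mul_one] at k
  rw [← k, (by simpa using hδ.mul hδ : X.A (δ * δ) _).cm]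
  congr 2; clear * -; decide +revert +kernel

theorem exD (X : Hy G) : ∃ d : F4 → G, (∀ b b', d b * d b' = d (b + b')) ∧ (∀ b, X.A (d b) b) ∧
    ∀ b, X.h * d b * X.h⁻¹ = d (ω * b) := by
  obtain ⟨x, h, t, q⟩ := X.exA3
  obtain ⟨l, s1⟩ := h.sq t
  have s2 : X.h * x * X.h⁻¹ * (X.h * x * X.h⁻¹) = X.p 0 0 (ω * l) := by rw [conj_mul, s1, X.h_z]
  have s3 : X.h * (X.h * x * X.h⁻¹) * X.h⁻¹ * (X.h * (X.h * x * X.h⁻¹) * X.h⁻¹) = X.p 0 0 (ω * (ω * l)) := by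
    rw [conj_mul, s2, X.h_z]
  have h3 : X.h * (X.h * (X.h * x * X.h⁻¹) * X.h⁻¹) * X.h⁻¹ = x := by rw [← cjm, ← cjm, X.h3]; simp
  have a2 : X.A _ ω := h.ch
  have a3 : X.A _ ϖ := h.ch.ch
  have t2 := t.conj X.h
  have t3 := t2.conj X.h
  generalize e2 : X.h * x * X.h⁻¹ = x2 at *
  generalize e3 : X.h * x2 * X.h⁻¹ = x3 at *
  have q' : x * x2 = X.p 0 0 (ω * (ω * l)) * x3 := by
    rw [← s3, eq_inv_of_mul_eq_one_left q, eq_comm, ← mul_eq_one_iff_eq_inv, mul_assoc (x3 * x3), s3, X.z_sq]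
  obtain rfl : l = 0 := by
    have hy := h.toB.cn
    have co := nCO h.co X.n_L
    have ty := t.conj X.n
    generalize X.n * x * X.n⁻¹ = y at hy co ty
    obtain ⟨u1, b1, c1, k1, m1, n1⟩ := hy.wc (a := 1) co ty h t
    obtain ⟨u2, b2, c2, k2, m2, n2⟩ := hy.wc (a := ω) co ty a2 t2
    obtain ⟨u3, b3, c3, k3, m3, n3⟩ := hy.wc (a := ϖ) co ty a3 t3
    have : y * X.p 0 ϖ 0 * y⁻¹ * (X.p 0 ϖ 0)⁻¹ = y * X.p 0 1 0 * y⁻¹ * (X.p 0 1 0)⁻¹ * (X.p 0 1 0 *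
        (y * X.p 0 ω 0 * y⁻¹ * (X.p 0 ω 0)⁻¹) * (X.p 0 1 0)⁻¹) := by
      rw [show X.p 0 ϖ 0 = X.p 0 1 0 * X.p 0 ω 0 from (X.w_mul 1 0 ω 0).symm]; group
    rw [m1, m2, m3, cjs, cjs, X.p_conj, X.kc (rK k2) (X.p_L ..), ← a2.cm, mul_inv_cancel_right, h.nf k1 k2, q',
      ← mul_assoc, mul_left_inj, mul_assoc, rp (Φa k1 k2), ← mul_assoc, X.mul_z] at this
    obtain ⟨i1, -, -, i2⟩ := pr_inj k3 (Φa k1 k2) this
    rw [s1, X.z_mul, X.p_one] at n1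
    rw [s2, X.z_mul, X.p_one] at n2
    rw [s3, X.z_mul, X.p_one] at n3
    have j1 := n1.2.2
    have j2 := n2.2.2
    have j3 := n3.2.2
    subst i1 i2
    clear * - j1 j2 j3; decide +revert +kernel
  simp only [mul_zero, X.p_zero, one_mul] at s1 s2 s3 q'
  have cm : x * x2 = x2 * x := by
    rw [q', ← inv_eq_of_mul_eq_one_left s3, ← q', mul_inv_rev, inv_eq_of_mul_eq_one_left s1,
      inv_eq_of_mul_eq_one_left s2]
  exact ⟨fam x x2, fun _ _ => (fam_add s1 s2 cm ..).symm, F4.forall_iff.2 ⟨A.one, h, a2, h.mul a2⟩,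
    F4.forall_iff.2 ⟨show X.h * 1 * X.h⁻¹ = 1 by simp, e2, e3.trans q'.symm, (q' ▸ h3 :)⟩⟩

end Hy

/-- the frame with the group `D` -/
structure H1 (G : Type*) [Group G] [Finite G] extends Hy G where
  d : F4 → G
  d_mul : ∀ b b', d b * d b' = d (b + b')
  d_A : ∀ b, toHy.A (d b) b
  h_d : ∀ b, h * d b * h⁻¹ = d (ω * b)

theorem Hy.h1 (X : Hy G) : ∃ X' : H1 G, X'.toHy = X := let ⟨d, h1, h2, h3⟩ := X.exD; ⟨⟨X, d, h1, h2, h3⟩, rfl⟩

namespace H1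
open Hy
variable (X : H1 G)

/-- the two sides exchanged -/
def swap : H1 G := { X with toHy := X.toHy.swap, d_A := fun b => (X.d_A b).swap }

/-- coordinates on `P = T R D` -/
def π (x a c b e : F4) : G := X.p x a e * X.r c * X.d b

theorem d0 : X.d 0 = 1 := by simpa using X.d_mul 0 0
theorem d2 (b : F4) : X.d b * X.d b = 1 := by rw [X.d_mul, aa, d0]
theorem d_inv (b : F4) : (X.d b)⁻¹ = X.d b := inv_eq_of_mul_eq_one_left (X.d2 b)
variable {X}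
theorem π_mul {c c' : F4} (hc : X.Φ c) (hc' : X.Φ c') (x a b e x' a' b' e' : F4) : X.π x a c b e * X.π x' a' c' b' e' =
    X.π (x + x') (a + a') (c + c') (b + b') (e + e' + a * x' + c' * b) := by
  rw [π, π, (X.d_A b).nf hc hc', X.d_mul, π]
theorem π_B {c : F4} (hc : X.Φ c) (x b e : F4) : X.B (X.π x 0 c b e) 0 b := by
  simpa [π] using ((B.of_p x e).mul (B.of_r hc)).mul (X.d_A b).toB
theorem π_CO {c : F4} (hc : X.Φ c) (x a b e : F4) : X.π x a c b e ∈ X.CO :=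
  mul_mem (mul_mem (p_CO _ _ _) (r_CO hc)) (X.d_A b).co
theorem π_p (x a e : F4) : X.π x a 0 0 e = X.p x a e := by simp [π, r0, d0]
theorem π_r (x a c e : F4) : X.π x a c 0 e = X.p x a e * X.r c := by simp [π, d0]
theorem π_d (b : F4) : X.π 0 0 0 b 0 = X.d b := by simp [π, r0, X.p_zero]
theorem π_inj {x a c b e x' a' c' b' e' : F4} (hc : X.Φ c) (hc' : X.Φ c') (h : X.π x a c b e = X.π x' a' c' b' e') :
    x = x' ∧ a = a' ∧ c = c' ∧ b = b' ∧ e = e' := by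
  have k : ∀ x a c b e, X.Φ c → X.π x a c b e * X.r 1 * (X.π x a c b e)⁻¹ = X.r 1 * X.p 0 0 b := fun x a c b e hc => by
    rw [π, cjm, cjm, (X.d_A b).r 1 X.Φ1, cjs (X.r c), (B.of_r hc).r 1 X.Φ1, (B.of_r hc).v, cjs, cjs, X.kc (rK X.Φ1) (X.p_L ..)]
    simp [X.p_conj, X.p_zero]
  obtain rfl : b = b' := (X.p_inj (mul_left_cancel ((k x a c b e hc).symm.trans (h ▸ k _ _ _ _ _ hc')))).2.2
  obtain ⟨h1, h2, h3, h4⟩ := pr_inj hc hc' (mul_right_cancel h)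
  exact ⟨h1, h2, h4, rfl, h3⟩
theorem h_π {c : F4} (hc : X.Φ c) (x a b e : F4) :
    X.h * X.π x a c b e * X.h⁻¹ = X.π (ϖ * x) (ϖ * a) c (ω * b) (ω * e) := by
  rw [π, cjs, cjs, X.h_p, X.kc (rK hc) X.h_L, X.h_d, π]
theorem swap_π (x a c b e : F4) : X.swap.π x a c b e = X.π a x c b (e + a * x) := rfl

variable (X) in
/-- the group `Y` on one side -/
structure Sd (β : F4) (y : F4 → G) : Prop where
  mul : ∀ x x', y x * y x' = y (x + x')
  B : ∀ x, X.B (y x) x 0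
  co : ∀ x, y x ∈ X.CO
  h : ∀ x, X.h * y x * X.h⁻¹ = y (ϖ * x)
  n : ∃ α, ∀ b, X.n * X.d b * X.n⁻¹ = y b * X.p (α * b) 0 0
  Φ : ∀ x a, X.Φ (β * (x * x) * a)
  act : ∀ u x a c b e, X.Φ c → y u * X.π x a c b e * (y u)⁻¹ = X.π (x + c * u + β * (b * (u * u) + a * (u * u * u))) a
    (c + β * (u * u) * a) (b + a * u) (e + β * (u * u * u * (a * a) + a * b * (u * u) + b * b * u))

theorem exSd (X : H1 G) : ∃ β y, X.Sd β y := by
  let y : F4 → G := fun x => X.n * X.d x * X.n⁻¹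
  have ym : ∀ x x', y x * y x' = y (x + x') := fun x x' => by simp only [y]; rw [conj_mul, X.d_mul]
  have y2 : ∀ x, y x * y x = 1 := fun x => by rw [ym, aa]; simp [y, X.d0]
  have yi : ∀ x, (y x)⁻¹ = y x := fun x => inv_eq_of_mul_eq_one_left (y2 x)
  have yB : ∀ x, X.B (y x) x 0 := fun x => (X.d_A x).toB.cn
  have yc : ∀ x, y x ∈ X.CO := fun x => nCO (X.d_A x).co X.n_L
  have ny : ∀ x, X.n * y x * X.n⁻¹ = X.d x := fun x => by simp only [y]; rw [← cjm, X.n2]; simp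
  have yh : ∀ x, X.h * y x * X.h⁻¹ = y (ϖ * x) := fun x => by
    obtain ⟨u, e, q⟩ := St.cVL (y := X.h * (X.n * X.h * X.n⁻¹)) (mul_mem X.h_L (X.cL (X.LN X.n_L) X.h_L)) fun x e => by
      rw [cjm, cjm, cjm, cjv (X.n_p e x), X.h_p, mul_zero, X.n_p, X.h_p, X.p_eq]; clear * -; decide +revert
    have : y x = X.n * X.h * X.n⁻¹ * y (ϖ * x) * (X.n * X.h * X.n⁻¹)⁻¹ := by
      simp only [y]; rw [cjc, X.h_d, ← mul_assoc ω, show ω * ϖ = 1 from rfl, one_mul]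
    rw [this, ← cjm, q, ← (yB _).cm, mul_inv_cancel_right]
  have yd : ∀ b x, ∃ k : F4 × F4, y x * X.d b * (y x)⁻¹ = X.p k.1 0 k.2 * X.d b := fun b x => by
    obtain ⟨u, e, q⟩ := ((yB x).mul (X.d_A b).toB).sq ((yB x).t2 (X.d_A b).toB (yc x) (X.d_A b).co
      (.of_sq (y2 x)) (.of_sq (X.d2 b)))
    exact ⟨(u, e), by rw [← q, yi, mul_assoc (y x * X.d b), mul_assoc (y x) (X.d b) (X.d b), X.d2, mul_one]⟩
  choose κ hκ using yd
  have a1 : ∀ b b' x, κ (b + b') x = κ b x + κ b' x := fun b b' x => by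
    have := hκ (b + b') x
    rw [← X.d_mul, cjs, hκ, hκ, mul_assoc, ← mul_assoc (X.d b), (X.d_A b).cm, mul_assoc, ← mul_assoc, X.v_mul] at this
    obtain ⟨h1, -, h2⟩ := X.p_inj (mul_right_cancel this)
    exact Prod.ext h1.symm h2.symm
  have a2 : ∀ b x x', κ b (x + x') = κ b x + κ b x' := fun b x x' => by
    have := hκ b (x + x')
    rw [← ym, cjm, hκ, cjs, hκ, (yB x).v, ← mul_assoc, X.v_mul] at this
    obtain ⟨h1, -, h2⟩ := X.p_inj (mul_right_cancel this)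
    exact Prod.ext (h1.symm.trans (add_comm ..)) (h2.symm.trans (add_comm ..))
  have a3 : ∀ b x, (κ (ω * b) (ϖ * x)).1 = ϖ * (κ b x).1 := fun b x => by
    have := hκ (ω * b) (ϖ * x)
    rw [← yh, ← X.h_d, cjc, hκ, cjs, X.h_p] at this
    exact (X.p_inj (mul_right_cancel this)).1.symm
  have a4 : ∀ b x, (κ b x).2 = (κ x b).1 := fun b x => by
    have h1 := congrArg (fun g => X.n * g * X.n⁻¹) (hκ b x)
    rw [← cjc, ny, cjs X.n (X.p ..), X.n_p] at h1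
    have h2 := hκ x b
    rw [mul_inv_eq_iff_eq_mul] at h1 h2
    change X.d x * y b = _ * y b * _ at h1
    rw [mul_assoc, h2, mul_assoc, ← mul_assoc (X.p ..), X.v_mul, eq_comm, mul_eq_right, X.p_one] at h1
    exact ae.1 h1.1
  obtain ⟨β, hβ⟩ : ∃ β, ∀ b x, (κ b x).1 = β * (b * (x * x)) := by
    obtain ⟨A, B, C, D, k⟩ := bi_form (fun b x => (κ b x).1) (fun _ _ _ => congrArg Prod.fst (a1 ..))
      fun _ _ _ => congrArg Prod.fst (a2 ..)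
    have k1 := a3 1 1
    have k2 := a3 1 ω
    have k3 := a3 ω 1
    have k4 := a3 ω ω
    simp only [k] at k1 k2 k3 k4
    obtain ⟨rfl, rfl, rfl⟩ : A = 0 ∧ C = 0 ∧ D = 0 := by clear * - k1 k2 k3 k4; decide +revert +kernel
    exact ⟨B, fun b x => (k b x).trans (by ring)⟩
  have yd : ∀ b x, y x * X.d b * (y x)⁻¹ = X.π (β * (b * (x * x))) 0 0 b (β * (x * (b * b))) := fun b x => by
    rw [hκ, a4, hβ, hβ, π, r0, mul_one]
  have yr : ∀ x c, X.Φ c → y x * X.r c * (y x)⁻¹ = X.π (c * x) 0 c 0 0 := fun x c hc => by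
    rw [(yB x).r c hc, π_r, rp hc, mul_zero]
  have yw : ∀ x a, X.Φ (β * (x * x) * a) ∧ ∃ f, y x * X.p 0 a 0 * (y x)⁻¹ =
      X.π (β * (a * (x * x * x))) a (β * (x * x) * a) (a * x) (f + β * (x * x * x * (a * a))) := fun x a => by
    by_cases x0 : x = 0
    · exact ⟨by simpa [x0] using X.Φ0, 0, by simp [x0, y, X.d0, π_p]⟩
    by_cases a0 : a = 0
    · exact ⟨by simpa [a0] using X.Φ0, 0, by simp [a0, π_p, X.p_zero]⟩
    obtain ⟨u, e, c, hc, q, k⟩ := (yB x).wc (a := a) (yc x) (.of_sq (y2 x)) (X.d_A _) (.of_sq (X.d2 _))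
    rw [X.d2, one_mul, X.p_one] at k
    have : y x * X.p 0 a 0 * (y x)⁻¹ * (X.p 0 a 0)⁻¹ * (y x * (y x * X.p 0 a 0 * (y x)⁻¹ * (X.p 0 a 0)⁻¹) *
        (y x)⁻¹) = 1 := by rw [yi, X.w_inv]; simp [mul_assoc, ← mul_assoc (y x) (y x), y2,
          ← mul_assoc (X.p 0 a 0) (X.p 0 a 0), X.w_sq]
    rw [q, cjs, cjs, (yB x).v, yr x c hc, yd, ← π_p u, π_mul X.Φ0 hc, π_mul (Φa X.Φ0 hc) X.Φ0, π_p, ← π,
      π_mul hc (Φa (Φa X.Φ0 hc) X.Φ0), ← X.p_zero, ← π_p] at this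
    have k1 := (π_inj (Φa hc (Φa (Φa X.Φ0 hc) X.Φ0)) X.Φ0 this).1
    have k2 := k.2.2
    obtain ⟨rfl, rfl⟩ : c = β * (x * x) * a ∧ u = β * (a * (x * x * x)) := by
      clear * - k1 k2 x0 a0; decide +revert +kernel
    refine ⟨hc, e + β * (x * x * x * (a * a)), ?_⟩
    rw [mul_inv_eq_iff_eq_mul.1 q, ← π, ← π_p, π_mul hc X.Φ0]
    simp [add_assoc, aa]
  choose yΦ f hf using yw
  have act : ∀ u x a c b e, X.Φ c → y u * X.π x a c b e * (y u)⁻¹ =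
      X.π (x + c * u + β * (b * (u * u) + a * (u * u * u))) a (c + β * (u * u) * a) (b + a * u)
        (e + β * (u * u * u * (a * a) + a * b * (u * u) + b * b * u) + f u a) := fun u x a c b e hc => by
    rw [π, show X.p x a e = X.p x 0 e * X.p 0 a 0 by simp [X.mul], cjs, cjs, cjs, (yB u).v, hf, yr u c hc, yd, ← π_p,
      π_mul X.Φ0 (yΦ ..), π_mul (Φa X.Φ0 (yΦ ..)) hc, π_mul (Φa (Φa X.Φ0 (yΦ ..)) hc) X.Φ0]
    generalize f u a = F
    congr 1 <;> (ring_nf; try simp only [F4.two_eq_zero, mul_zero, add_zero, zero_add])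
  obtain ⟨α, hα⟩ : ∃ α, ∀ x a, f x a = α * (x * a) := by
    obtain ⟨A, B, C, D, k⟩ := bi_form f (fun x x' a => by
      have := act (x + x') 0 a 0 0 0 X.Φ0
      rw [← ym, cjm, act _ _ _ _ _ _ X.Φ0, act _ _ _ _ _ _ (Φa X.Φ0 (yΦ ..))] at this
      have := (π_inj (Φa (Φa X.Φ0 (yΦ ..)) (yΦ ..)) (Φa X.Φ0 (yΦ ..)) this).2.2.2.2
      generalize f (x + x') a = F1, f x a = F2, f x' a = F3 at this ⊢
      clear * - this; decide +revert +kernel) fun x a a' => by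
      have := hf x (a + a')
      rw [show X.p 0 (a + a') 0 = X.p 0 a 0 * X.p 0 a' 0 by simp [X.mul], cjs, hf, hf, π_mul (yΦ ..) (yΦ ..)] at this
      have := (π_inj (Φa (yΦ ..) (yΦ ..)) (yΦ ..) this).2.2.2.2
      generalize f x (a + a') = F1, f x a = F2, f x a' = F3 at this ⊢
      clear * - this; decide +revert +kernel
    have he : ∀ x a, f (ϖ * x) (ϖ * a) = ω * f x a := fun x a => by
      have := hf (ϖ * x) (ϖ * a)
      rw [← yh, show X.p 0 (ϖ * a) 0 = X.h * X.p 0 a 0 * X.h⁻¹ by simp [X.h_p], cjc, hf, h_π (yΦ ..)] at this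
      have := (π_inj (yΦ ..) (yΦ ..) this).2.2.2.2
      generalize f (ϖ * x) (ϖ * a) = F1, f x a = F2 at this ⊢
      clear * - this; decide +revert +kernel
    have k1 := he 1 1
    have k2 := he 1 ω
    have k3 := he ω 1
    have k4 := he ω ω
    simp only [k] at k1 k2 k3 k4
    obtain ⟨rfl, rfl, rfl⟩ : B = 0 ∧ C = 0 ∧ D = 0 := by clear * - k1 k2 k3 k4; decide +revert +kernel
    exact ⟨A, fun b x => (k b x).trans (by ring)⟩
  refine ⟨β, fun x => y x * X.p (α * x) 0 0, fun x x' => ?_, fun x => by simpa using (yB x).mul (B.of_p _ 0),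
    fun x => mul_mem (yc x) (p_CO _ _ _), fun x => ?_, ⟨α, fun b => by rw [mul_assoc (y b), X.v_sq, mul_one]⟩, yΦ,
    fun u x a c b e hc => ?_⟩
  · rw [mul_assoc (y x), ← mul_assoc (X.p ..), ← (yB x').cm, mul_assoc (y x'), X.v_mul, ← mul_assoc (y x), ym, mul_add,
      add_zero]
  · rw [cjs, yh, X.h_p]; congr 2 <;> ring
  · have : X.p (α * u) 0 0 * X.π x a c b e * (X.p (α * u) 0 0)⁻¹ = X.π x a c b (e + α * (u * a)) := by
      rw [X.v_inv, ← π_p, π_mul X.Φ0 hc, π_mul (Φa X.Φ0 hc) X.Φ0]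
      congr 1 <;> (clear * -; decide +revert +kernel)
    rw [cjm, this, act _ _ _ _ _ _ hc, hα]
    congr 1; ring_nf; simp only [F4.two_eq_zero, mul_zero, add_zero, zero_add]

end H1

end H10.Sz
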