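import Cfsg.Agent.Lib.Std.Sz6

/-! Standard subgroups `L₃(4)`, part 7: the two cases. -/

set_option autoImplicit false
set_option maxRecDepth 100000
set_option synthInstance.maxSize 100000
set_option linter.unusedSectionVars false

namespace H10.Sz
open H69 Subgroup Cfsg
open H30 (F4)
open H10.HeS (T2)

/-- the ring `F₄[ξ]`, `ξ² = ξ + ν` -/
abbrev Rn (ν : F4) : Type := QuadraticAlgebra F4 ν 1

instance finRn (ν : F4) : Fintype (Rn ν) := Fintype.ofEquiv _ (QuadraticAlgebra.equivProd ν 1).symm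

instance (priority := high) decAllRn (ν : F4) (P : Rn ν → Prop) [DecidablePred P] : Decidable (∀ x, P x) :=
  decidable_of_iff (∀ a b, P ⟨a, b⟩) ⟨fun h _ => h _ _, fun h _ _ => h _⟩

instance (priority := high) decExRn (ν : F4) (P : Rn ν → Prop) [DecidablePred P] : Decidable (∃ x, P x) :=
  decidable_of_iff (∃ a b, P ⟨a, b⟩) ⟨fun ⟨_, _, h⟩ => ⟨_, h⟩, fun ⟨_, h⟩ => ⟨_, _, h⟩⟩

/-- the case of a centraliser with Sylow 2-subgroup `⟨r 1⟩` of order two -/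
structure Cy (G : Type*) [Group G] [Finite G] extends Hy G where
  hΦ' : ∀ c, Φ c ↔ c = 0 ∨ c = 1
  ν : F4
  u : Rn ν → Rn ν → Rn ν → G
  u_mul : ∀ X A E X' A' E', u X A E * u X' A' E' = u (X + X') (A + A') (E + E' + A * X')
  u_inj : ∀ X A E, u X A E = 1 → X = 0 ∧ A = 0 ∧ E = 0
  u_p : ∀ x a e, u ⟨x, 0⟩ ⟨a, 0⟩ ⟨e, 0⟩ = p x a e
  t_u : ∀ X A E, r 1 * u X A E * (r 1)⁻¹ = u (star X) (star A) (star E)
  h_u : ∀ E, h * u 0 0 E * h⁻¹ = u 0 0 (⟨ω, 0⟩ * E)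
  memV : ∀ x, T2 x → (∀ b e, x * p b 0 e * x⁻¹ = p b 0 e) → (∃ b e, x * r 1 * x⁻¹ = r 1 * p b 0 e) →
    ∃ X E, x = u X 0 E ∨ x = u X 0 E * r 1
  memW : ∀ x, T2 x → (∀ b e, x * p 0 b e * x⁻¹ = p 0 b e) → (∃ b e, x * r 1 * x⁻¹ = r 1 * p 0 b e) →
    ∃ X E, x = u 0 X E ∨ x = u 0 X E * r 1

/-- the case of a centraliser with Sylow 2-subgroup of order four -/
structure Su (G : Type*) [Group G] [Finite G] extends H1 G where
  all : ∀ c, Φ c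
  y : F4 → G
  y' : F4 → G
  sd : toH1.Sd 1 y
  sd' : toH1.swap.Sd 1 y'

variable {G : Type*} [Group G] [Finite G]

theorem St.hj_p (Y : St G) (j : ℕ) (x a e : F4) :
    Y.h ^ j * Y.p x a e * (Y.h ^ j)⁻¹ = Y.p (ϖ ^ j * x) (ϖ ^ j * a) (ϖ ^ j * ϖ ^ j * e) := by
  induction j with
  | zero => simp
  | succ j ih => rw [pow_succ', cjm, ih, Y.h_p, show ω = ϖ * ϖ from rfl]; congr 1 <;> ring

theorem vj (j : ℕ) : ϖ ^ j ≠ 0 := pow_ne_zero j (by decide)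

/-- rescaled coordinates -/
def Pm.sc (X : Pm G) (j : ℕ) : Pm G where
  p x a e := X.p (ϖ ^ j * x) a (ϖ ^ j * e)
  mul x a e x' a' e' := by rw [X.mul]; congr 1 <;> ring
  inj x a e h := by simpa [vj j] using X.inj _ _ _ h

theorem Pm.sc_ex (X : Pm G) (j : ℕ) (x a e : F4) : ∃ x' e', X.p x a e = (X.sc j).p x' a e' :=
  ⟨(ϖ ^ j)⁻¹ * x, (ϖ ^ j)⁻¹ * e, by simp [Pm.sc, vj j]⟩

theorem Pm.sc_T (X : Pm G) (j : ℕ) : (X.sc j).T = X.T := by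
  ext g
  exact ⟨fun ⟨_, _, _, h⟩ => ⟨_, _, _, h⟩, fun ⟨x, a, e, h⟩ => let ⟨_, _, k⟩ := X.sc_ex j x a e; ⟨_, _, _, h.trans k⟩⟩

/-- the rescaled frame -/
def St.sc (Y : St G) (j : ℕ) : St G :=
  { Y with
    toPm := Y.toPm.sc j
    p_L := fun _ _ _ => Y.p_L ..
    h_p := fun x a e => by simp only [Pm.sc, Y.h_p]; congr 1 <;> ring
    n_p := fun x e => Y.n_p ..
    m := Y.h ^ j * Y.m * (Y.h ^ j)⁻¹
    m_L := Y.cL (Y.LN (pow_mem Y.h_L j)) Y.m_L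
    m2 := by rw [conj_mul, Y.m2]; simp
    m_p := fun a e => by
      have h1 := Y.hj_p j 0 (ϖ ^ j * ϖ ^ j * a) (ϖ ^ j * ϖ ^ j * e)
      have h2 := Y.hj_p j 0 (ϖ ^ j * ϖ ^ j * e) (ϖ ^ j * ϖ ^ j * a)
      have h3 : ∀ l u : F4, l ≠ 0 → l * (l * l * u) = u ∧ l * l * (l * l * u) = l * u := by decide
      rw [(h3 _ _ (vj j)).1, (h3 _ _ (vj j)).2] at h1 h2
      simp only [Pm.sc]
      rw [← h1, cjc, Y.m_p, h2]
    cls := fun l hl h2 h1 => by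
      obtain ⟨k, hk, rfl⟩ := Y.cls l hl h2 h1
      obtain ⟨i, q⟩ := Y.hz (vj j)
      exact ⟨k * (Y.h ^ i)⁻¹, mul_mem hk (inv_mem (pow_mem Y.h_L i)), by simp only [Pm.sc, mul_zero, mul_one, ← q]; group⟩
    cen := fun l hl h => Y.sc_T j ▸ Y.cen' hl (vj j) (by simpa [Pm.sc] using h)
    aut := fun y hy a => Y.sc_T j ▸ Y.aut y hy (.of_triv (fun x b e => by
      obtain ⟨x', e', k⟩ := Y.sc_ex j x b e
      obtain ⟨e'', k'⟩ := a.triv.1 x' b e'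
      obtain ⟨rfl, -, rfl⟩ := Y.p_inj k
      exact ⟨_, k'⟩) fun e => by
        have := a.triv.2 ((ϖ ^ j)⁻¹ * e)
        simpa [Pm.sc, vj j] using this)
    gen := fun M h1 h2 h3 h4 => Y.gen M (Y.sc_T j ▸ h1) h2 h3 (by
      simpa [mul_assoc] using mul_mem (mul_mem (inv_mem (pow_mem h2 j)) h4) (pow_mem h2 j)) }

/-- the rescaled frame -/
def Hy.sc (X : Hy G) (h : ∀ c, X.Φ c) (j : ℕ) : Hy G :=
  { X with
    toSt := X.toSt.sc j
    r := fun c => X.r (ϖ ^ j * c)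
    memR := fun x => (X.memR x).trans ⟨fun ⟨c, _, q⟩ => ⟨(ϖ ^ j)⁻¹ * c, h _, by simp [q, vj j]⟩,
      fun ⟨_, _, q⟩ => ⟨_, h _, q⟩⟩
    r_mul := fun c c' _ _ => by rw [X.r_mul _ _ (h _) (h _), mul_add]
    r_one := fun c _ q => by simpa [vj j] using X.r_one _ (h _) q
    g_T := X.sc_T j ▸ X.g_T
    g_r := fun c _ => let ⟨c', _, q⟩ := X.g_r (ϖ ^ j * c) (h _)
      ⟨(ϖ ^ j)⁻¹ * c', h _, by simpa [vj j, St.sc, Pm.sc] using q⟩
    g_r' := fun c _ => let ⟨c', _, q⟩ := X.g_r' (ϖ ^ j * c) (h _)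
      ⟨(ϖ ^ j)⁻¹ * c', h _, by simpa [vj j, St.sc, Pm.sc] using q⟩ }

theorem Hy.sc_CO (X : Hy G) (h : ∀ c, X.Φ c) (j : ℕ) : X.CO ≤ (X.sc h j).CO := fun _ hx o ho =>
  hx o ⟨ho.1, fun _ _ _ => conj_eq_of_mem_centralizer ho.K (X.p_L ..),
    fun c _ => by simpa [Hy.sc, vj j] using ho.2.2 ((ϖ ^ j)⁻¹ * c) (h _)⟩

namespace H1
open Hy
variable {X : H1 G} {β β' : F4} {y y' : F4 → G}

theorem π_sq {c : F4} (hc : X.Φ c) (x a b e : F4) : X.π x a c b e * X.π x a c b e = X.p 0 0 (a * x + c * b) := by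
  simp [π_mul hc hc, aa, π_p]
theorem π_t2 {c : F4} (hc : X.Φ c) (x a b e : F4) : T2 (X.π x a c b e) :=
  ⟨2, by rw [show 2 ^ 2 = 2 * 2 from rfl, pow_mul, sq, sq, π_sq hc, X.z_sq]⟩

theorem nCO' {x l : G} (hl : l ∈ X.CO) (h : x ∈ X.CO) : l * x * l⁻¹ ∈ X.CO := mul_mem (mul_mem hl h) (inv_mem hl)

theorem swap_swap (X : H1 G) : X.swap.swap = X := by
  obtain ⟨⟨⟨P, _⟩, _⟩, _⟩ := X
  simp only [swap, Hy.swap, St.swap, Pm.swap_swap]

/-- the rescaled frame -/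
def sc (X : H1 G) (h : ∀ c, X.Φ c) (j : ℕ) : H1 G :=
  { X with
    toHy := X.toHy.sc h j
    d_A := fun b => ⟨X.sc_CO h j (X.d_A b).co, fun _ _ _ => (X.d_A b).t .., fun c _ =>
      ((X.d_A b).r _ (h _)).trans (by simp [Hy.sc, St.sc, Pm.sc, mul_assoc])⟩ }

theorem Sd.y0 (S : X.Sd β y) : y 0 = 1 := by simpa using S.mul 0 0
theorem Sd.y2 (S : X.Sd β y) (u : F4) : y u * y u = 1 := by rw [S.mul, aa, S.y0]
theorem Sd.inv (S : X.Sd β y) (u : F4) : (y u)⁻¹ = y u := inv_eq_of_mul_eq_one_left (S.y2 u)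

theorem Sd.act' (S : X.swap.Sd β y) (u x a c b e : F4) (hc : X.Φ c) : y u * X.π x a c b e * (y u)⁻¹ =
    X.π x (a + c * u + β * (b * (u * u) + x * (u * u * u))) (c + β * (u * u) * x) (b + x * u)
      (e + x * c * u + β * (b * b * u)) := by
  have := S.act u a x c b (e + x * a) hc
  rw [swap_π, swap_π, add_assoc, aa, add_zero] at this
  rw [this]; congr 1; ring_nf; simp only [F4.two_eq_zero, mul_zero, add_zero, zero_add]

theorem Sd.memY (S : X.Sd β y) {x : G} {b b' : F4} (h : X.B x b b') (t : T2 x) :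
    ∃ u c e, X.Φ c ∧ x = X.π u 0 c b' e * y b := by
  have h1 := (X.d_A b').toB.mul (S.B b)
  have c1 := mul_mem (X.d_A b').co (S.co b)
  obtain ⟨u, e, c, o, hc, ho, q⟩ := (by simpa only [aa, zero_add, add_zero] using h.mul h1.inv : X.B _ 0 0).ker
  rw [mul_inv_eq_iff_eq_mul, mul_assoc _ o, c1 o ho, ← mul_assoc, ← mul_assoc, ← π] at q
  exact ⟨u, c, e, hc, by rw [q, od_one (mul_mem (π_CO hc _ _ _ _) (S.co b)) ((π_B hc ..).t2 (S.B b) (π_CO hc _ _ _ _)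
    (S.co b) (π_t2 hc ..) (.of_sq (S.y2 b))) ho (q ▸ t), mul_one]⟩

theorem πD {x a c e : F4} (hc : X.Φ c) (c0 : c ≠ 0) (h : a * x = 0) : X.D (X.π x a c 0 e) := by
  rw [π_r, ← rp hc]; exact Drt hc c0 (X.p_L ..) (by rw [X.p_sq, h, X.p_zero])

theorem beta (S : X.Sd β y) (S' : X.swap.Sd β' y') (h : β ≠ 0) : β * β' = 1 := by
  by_contra k
  have h1 := S.act 1 0 1 0 0 0 X.Φ0
  have hΦ := Φa X.Φ0 (S.Φ 1 1)
  have h2 := congrArg (fun g => y' (β * β) * g * (y' (β * β))⁻¹) h1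
  rw [S'.act' _ _ _ _ _ _ hΦ, π_p, (by decide : ∀ β : F4, β ≠ 0 →
    (0 : F4) + 1 * 1 + (0 + 0 * 1 + β * (0 * (1 * 1) + 1 * (1 * 1 * 1))) * (β * β) = 0) β h] at h2
  have h3 := congrArg (fun g => g * g) h2
  simp only [conj_mul, X.w_sq] at h3
  rw [π_r, pr_sq (Φa hΦ (S'.Φ ..)), mul_one, mul_inv_cancel, mul_one, mul_inv_cancel, eq_comm, X.p_one] at h3
  exact St.notD_L (X.p_L ..) (h2 ▸ πD (Φa hΦ (S'.Φ ..)) ((by decide : ∀ β β' : F4, β ≠ 0 → ¬β * β' = 1 → 0 + β * (1 * 1) * 1 +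
    β' * (β * β * (β * β)) * (0 + 0 * 1 + β * (0 * (1 * 1) + 1 * (1 * 1 * 1))) ≠ 0) β β' h k) h3.2.2 :
    X.D (_ * (_ * _ * _) * _)).of_conj.of_conj

theorem su (S : X.Sd β y) (S' : X.swap.Sd β' y') (h : β * β' = 1) : ∃ Z : Su G, Z.L = X.L := by
  obtain ⟨j, rfl⟩ : ∃ j : ℕ, β = ϖ ^ j := by
    rcases cas β with rfl | rfl | rfl | rfl
    exacts [absurd h (by simp), ⟨0, rfl⟩, ⟨2, rfl⟩, ⟨1, rfl⟩]
  have l0 := vj j
  have all : ∀ c, X.Φ c := fun c => by simpa [l0] using S.Φ 1 ((ϖ ^ j)⁻¹ * c)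
  have hd : ∀ b, X.h ^ j * X.d b * (X.h ^ j)⁻¹ = X.d (ϖ ^ j * ϖ ^ j * b) := fun b => by
    clear * -
    induction j with
    | zero => simp
    | succ j ih => rw [pow_succ', cjm, ih, X.h_d, show ω = ϖ * ϖ from rfl]; congr 1; ring
  have hy : ∀ b, X.h ^ j * y' b * (X.h ^ j)⁻¹ = y' (ϖ ^ j * b) := fun b => by
    clear * - S'
    induction j with
    | zero => simp
    | succ j ih => rw [pow_succ', cjm, ih, show X.h * _ * X.h⁻¹ = _ from S'.h _]; congr 1; ring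
  have hp := X.hj_p j
  obtain ⟨α, hα⟩ := S.n
  obtain ⟨α', hα'⟩ := S'.n
  have pe : ∀ x a c b e, (X.sc all j).π x a c b e = X.π (ϖ ^ j * x) a (ϖ ^ j * c) b (ϖ ^ j * e) := fun _ _ _ _ _ => rfl
  refine ⟨⟨X.sc all j, all, y, fun a => y' (ϖ ^ j * ϖ ^ j * a), ⟨S.mul, fun x => ⟨fun _ _ => (S.B x).v .., fun c _ =>
    ((S.B x).r _ (all _)).trans (by simp [sc, Hy.sc, St.sc, Pm.sc, mul_assoc])⟩, fun x => X.sc_CO all j (S.co x), S.h,
    ⟨(ϖ ^ j)⁻¹ * α, fun b => (hα b).trans (by simp [sc, Hy.sc, St.sc, Pm.sc, mul_assoc, l0])⟩, fun _ _ => all _,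
    fun u x a c b e _ => ?_⟩, ⟨fun _ _ => by rw [S'.mul, mul_add], fun x => ⟨fun _ _ => ?_, fun c _ => ?_⟩,
    fun x => swap_CO (X := (X.sc all j).toHy) ▸ X.sc_CO all j (swap_CO (X := X.toHy) ▸ S'.co _),
    fun x => (S'.h _).trans (by congr 1; ring), ⟨ϖ ^ j * ϖ ^ j * α', fun b => ?_⟩, fun _ _ => all _,
    fun u x a c b e _ => ?_⟩⟩, rfl⟩
  · rw [pe, pe, S.act _ _ _ _ _ _ (all _)]; congr 1 <;> ring
  · simpa [sc, Hy.sc, St.sc, Pm.sc, swap, Hy.swap, St.swap, Pm.swap_p] using (S'.B _).v _ _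
  · have := (S'.B (ϖ ^ j * ϖ ^ j * x)).r (ϖ ^ j * c) (all _)
    rw [show ϖ ^ j * c * (ϖ ^ j * ϖ ^ j * x) = c * x by generalize ϖ ^ j = l at *; clear * - l0; decide +revert] at this
    simpa [sc, Hy.sc, St.sc, Pm.sc, swap, Hy.swap, St.swap, Pm.swap_p] using this
  · have h1 := hd (ϖ ^ j * b)
    rw [show ϖ ^ j * ϖ ^ j * (ϖ ^ j * b) = b by generalize ϖ ^ j = l at *; clear * - l0; decide +revert] at h1
    show X.h ^ j * X.m * (X.h ^ j)⁻¹ * X.d b * (X.h ^ j * X.m * (X.h ^ j)⁻¹)⁻¹ = _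
    rw [← h1, cjc, show X.m * X.d _ * X.m⁻¹ = _ from hα' _, cjs, hy]
    simp [sc, Hy.sc, St.sc, Pm.sc, swap, Hy.swap, St.swap, Pm.swap_p, hp, mul_assoc, mul_left_comm]
  · rw [swap_π, swap_π, pe, pe, S'.act' _ _ _ _ _ _ (all _)]
    generalize ϖ ^ j = l at *
    obtain rfl : β' = l * l := by clear * - h; decide +revert
    congr 1 <;> (clear * - l0; decide +revert +kernel)

theorem cy (S : X.Sd 0 y) (S' : X.swap.Sd 0 y') : ∃ Z : Cy G, Z.L = X.L := by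
  have a1 : ∀ u x a c b e, X.Φ c → y u * X.π x a c b e * (y u)⁻¹ = X.π (x + c * u) a c (b + a * u) e :=
    fun u x a c b e hc => by simpa using S.act u x a c b e hc
  have a2 : ∀ u x a c b e, X.Φ c → y' u * X.π x a c b e * (y' u)⁻¹ = X.π x (a + c * u) c (b + x * u) (e + x * c * u) :=
    fun u x a c b e hc => by simpa using S'.act' u x a c b e hc
  have co' : ∀ u, y' u ∈ X.CO := fun u => swap_CO (X := X.toHy) ▸ S'.co u
  have ka : ∀ u v x a c b e, X.Φ c → y u * y' v * (y u)⁻¹ * (y' v)⁻¹ * X.π x a c b e * (y u * y' v * (y u)⁻¹ * (y' v)⁻¹)⁻¹ =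
      X.π x a c b (e + c * c * (u * v)) := fun u v x a c b e hc => by
    rw [S.inv u, S'.inv v, cjm, cjm, cjm, a2 _ _ _ _ _ _ hc, a1 _ _ _ _ _ _ hc, a2 _ _ _ _ _ _ hc, a1 _ _ _ _ _ _ hc]
    congr 1 <;> (clear * -; decide +revert +kernel)
  have πr : ∀ c e, X.Φ c → X.π 0 0 c 0 e = X.r c * X.p 0 0 e := fun c e hc => by rw [π_r, rp hc]
  have πr0 : ∀ c, X.π 0 0 c 0 0 = X.r c := fun c => by rw [π_r, X.p_zero, one_mul]
  have hΦ : ∀ c, X.Φ c ↔ c = 0 ∨ c = 1 := X.hΦ.resolve_left fun all => by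
    have k : ∀ c, X.d 1 * (y 1 * y' 1 * (y 1)⁻¹ * (y' 1)⁻¹) * X.r c * (X.d 1 * (y 1 * y' 1 * (y 1)⁻¹ * (y' 1)⁻¹))⁻¹ =
        X.r c * X.p 0 0 (c * 1 + (0 + c * c * (1 * 1))) := fun c => by
      rw [cjm, ← πr0, ka _ _ _ _ _ _ _ (all c), πr _ _ (all c), cjs, (X.d_A 1).r c (all c), (X.d_A 1).t, mul_assoc,
        X.z_mul, πr0]
    have := X.cK (cr X.Φ1 one_ne_zero ((k 1).trans (by simp [aa, X.p_zero]))) (rK (all ω))
    rw [k, mul_mem_cancel_left (rK (all ω))] at this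
    exact absurd (X.pK this).2.2 (by decide)
  have yy : ∀ u v, ∃ e, y u * y' v * (y u)⁻¹ = X.π 0 0 0 (u * v) e * y' v := fun u v => by
    have h : X.A (y u * y' v * (y u)⁻¹ * (y' v)⁻¹) (u * v) := ⟨mul_mem (nCO' (S.co u) (co' v)) (inv_mem (co' v)),
      fun x a e => by simpa [π_p] using ka u v x a 0 0 e X.Φ0, fun c hc => by
        rw [← πr0, ka _ _ _ _ _ _ _ hc, πr _ _ hc, πr0]
        rcases (hΦ c).1 hc with rfl | rfl <;> simp⟩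
    have hi : y u * (y u * y' v * (y u)⁻¹ * (y' v)⁻¹) * (y u)⁻¹ * (y u * y' v * (y u)⁻¹ * (y' v)⁻¹) = 1 := by
      rw [S.inv, S'.inv]; simp [mul_assoc, ← mul_assoc (y u) (y u), S.y2, ← mul_assoc (y' v) (y' v), S'.y2]
    obtain ⟨x, e, c, o, hc, ho, q⟩ := (by simpa only [aa] using h.toB.mul (X.d_A (u * v)).toB.inv : X.B _ 0 0).ker
    rw [mul_inv_eq_iff_eq_mul, mul_assoc _ o, (X.d_A _).co o ho, ← mul_assoc, ← π] at q
    have := h.t 0 1 0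
    rw [q, cjm, ho.2.1, ← π_p, mul_inv_eq_iff_eq_mul, π_mul hc X.Φ0, π_mul X.Φ0 hc] at this
    obtain rfl : x = 0 := by simpa using (π_inj (Φa hc X.Φ0) (Φa X.Φ0 hc) this).2.2.2.2
    rw [q, cjs, a1 _ _ _ _ _ _ hc, ← S.co u o ho, mul_inv_cancel_right, mul_assoc, ← mul_assoc o, π_CO hc _ _ _ _ o ho,
      mul_assoc, ← mul_assoc, π_mul hc hc] at hi
    have o1 : o * o = 1 := od_one (π_CO (Φa hc hc) _ _ _ _) (π_t2 (Φa hc hc) ..)
      ⟨ho.1.of_dvd_nat (by rw [← sq]; exact orderOf_pow_dvd 2), fun _ _ _ => by rw [cjm, ho.2.1, ho.2.1],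
        fun c hc => by rw [cjm, ho.2.2 c hc, ho.2.2 c hc]⟩ (by rw [hi]; exact ⟨0, pow_one _⟩)
    rw [o1, mul_one, ← X.p_zero, ← π_p] at hi
    rw [T2.odd (.of_sq o1) ho.1, mul_one, mul_inv_eq_iff_eq_mul] at q
    rcases mul_eq_zero.1 (by simpa using (π_inj (Φa hc hc) X.Φ0 hi).1 : c * u = 0) with rfl | rfl
    · exact ⟨e, q⟩
    · exact ⟨0, by simp [S.y0, π_p, X.p_zero]⟩
  choose ν hν using yy
  have pi : ∀ {b e b' e' v}, X.π 0 0 0 b e * y' v = X.π 0 0 0 b' e' * y' v → e = e' := fun h =>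
    (π_inj X.Φ0 X.Φ0 (mul_right_cancel h)).2.2.2.2
  have c2 : ∀ v b e, y' v * X.π 0 0 0 b e = X.π 0 0 0 b e * y' v := fun v b e =>
    mul_inv_eq_iff_eq_mul.1 (by simp [a2 _ _ _ _ _ _ X.Φ0])
  have c1 : ∀ v b e, y v * X.π 0 0 0 b e = X.π 0 0 0 b e * y v := fun v b e =>
    mul_inv_eq_iff_eq_mul.1 (by simp [a1 _ _ _ _ _ _ X.Φ0])
  obtain ⟨μ, hμ⟩ : ∃ μ, ∀ u v, ν u v = μ * (u * v) := by
    obtain ⟨A, B, C, D, k⟩ := bi_form ν (fun x x' a => by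
      have := hν (x + x') a
      rw [← S.mul, cjm, hν, cjs, hν, a1 _ _ _ _ _ _ X.Φ0, ← mul_assoc, π_mul X.Φ0 X.Φ0] at this
      simpa [add_comm] using (π_inj (Φa X.Φ0 X.Φ0) X.Φ0 (mul_right_cancel this)).2.2.2.2.symm) fun x a a' => by
      have := hν x (a + a')
      rw [← S'.mul, cjs, hν, hν, mul_assoc, ← mul_assoc (y' a), c2, mul_assoc, ← mul_assoc, π_mul X.Φ0 X.Φ0] at this
      simpa using (π_inj (Φa X.Φ0 X.Φ0) X.Φ0 (mul_right_cancel this)).2.2.2.2.symm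
    have he : ∀ x a, ν (ϖ * x) (ϖ * a) = ω * ν x a := fun x a => by
      have := hν (ϖ * x) (ϖ * a)
      rw [← S.h, ← S'.h, show X.swap.h = X.h from rfl, cjc, hν, cjs, h_π X.Φ0] at this
      exact (π_inj X.Φ0 X.Φ0 (mul_right_cancel this)).2.2.2.2.symm
    have k1 := he 1 1
    have k2 := he 1 ω
    have k3 := he ω 1
    have k4 := he ω ω
    simp only [k] at k1 k2 k3 k4
    obtain ⟨rfl, rfl, rfl⟩ : B = 0 ∧ C = 0 ∧ D = 0 := by clear * - k1 k2 k3 k4; decide +revert +kernel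
    exact ⟨A, fun b x => (k b x).trans (by ring)⟩
  let U : Rn μ → Rn μ → Rn μ → G := fun A B E => X.π A.re B.re 0 (E.im + A.im * B.re) E.re * y A.im * y' B.im
  have m1 : ∀ u x a b e, y u * X.π x a 0 b e = X.π x a 0 (b + a * u) e * y u := fun u x a b e => by
    rw [← mul_inv_eq_iff_eq_mul, a1 _ _ _ _ _ _ X.Φ0]; simp
  have m2 : ∀ u x a b e, y' u * X.π x a 0 b e = X.π x a 0 (b + x * u) e * y' u := fun u x a b e => by
    rw [← mul_inv_eq_iff_eq_mul, a2 _ _ _ _ _ _ X.Φ0]; simp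
  have m3 : ∀ u v, y' v * y u = X.π 0 0 0 (u * v) (μ * (u * v)) * y u * y' v := fun u v => by
    have := hν u v
    rw [S.inv, hμ] at this
    rw [← c1, mul_assoc, ← this, ← mul_assoc, ← mul_assoc, S.y2, one_mul]
  have r1 : ∀ x a b e, X.r 1 * X.π x a 0 b e = X.π x a 0 b (e + b) * X.r 1 := fun x a b e => by
    rw [← πr0, π_mul X.Φ1 X.Φ0, π_mul X.Φ0 X.Φ1]; simp [add_assoc, aa]
  have r2' : ∀ u, X.r 1 * y u = X.π u 0 0 0 0 * y u * X.r 1 := fun u => by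
    have := a1 u 0 0 1 0 0 X.Φ1
    rw [πr0, mul_inv_eq_iff_eq_mul] at this
    rw [mul_assoc, this, ← mul_assoc, π_mul X.Φ0 X.Φ1]; simp [aa, πr0]
  have r3 : ∀ u, X.r 1 * y' u = X.π 0 u 0 0 0 * y' u * X.r 1 := fun u => by
    have := a2 u 0 0 1 0 0 X.Φ1
    rw [πr0, mul_inv_eq_iff_eq_mul] at this
    rw [mul_assoc, this, ← mul_assoc, π_mul X.Φ0 X.Φ1]; simp [aa, πr0]
  have all1 : ∀ {x a : G} {f : F4 → G}, f 0 = 1 → x * X.r 1 * x⁻¹ = X.r 1 * f 1 → ∀ c, X.Φ c →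
      x * X.r c * x⁻¹ = X.r c * f c := fun h0 h1 c hc => by
    rcases (hΦ c).1 hc with rfl | rfl
    exacts [by simp [r0, h0], h1]
  refine ⟨⟨X.toHy, hΦ, μ, U, fun A B E A' B' E' => ?_, fun A B E h => ?_, fun x a e => by simp [U, π_p, S.y0, S'.y0],
    fun A B E => ?_, fun E => ?_, fun x t hv ⟨b, e, hr⟩ => ?_, fun x t hv ⟨b, e, hr⟩ => ?_⟩, rfl⟩
  · simp only [U]
    rw [mul_assoc _ (y' _), ← mul_assoc (y' _), ← mul_assoc (y' _), m2, mul_assoc _ (y' _) (y _), m3]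
    simp only [← mul_assoc]
    rw [mul_assoc _ (y A.im), m1, ← mul_assoc, π_mul X.Φ0 X.Φ0, mul_assoc _ (y A.im), m1, ← mul_assoc,
      π_mul (Φa X.Φ0 X.Φ0) X.Φ0, mul_assoc _ (y A.im), S.mul, mul_assoc _ (y' B.im), S'.mul]
    simp only [QuadraticAlgebra.re_add, QuadraticAlgebra.im_add, QuadraticAlgebra.re_mul, QuadraticAlgebra.im_mul]
    congr 3 <;> (ring_nf; try simp only [F4.two_eq_zero, mul_zero, add_zero, zero_add])
  · have : U A B E * X.π 0 0 1 0 0 * (U A B E)⁻¹ = X.π 0 0 1 0 0 := by simp [h]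
    simp only [U] at h this
    rw [cjm, cjm, a2 _ _ _ _ _ _ X.Φ1, a1 _ _ _ _ _ _ X.Φ1, mul_inv_eq_iff_eq_mul, π_mul X.Φ0 X.Φ1,
      π_mul X.Φ1 X.Φ0] at this
    obtain ⟨h1, h2, -⟩ := π_inj (Φa X.Φ0 X.Φ1) (Φa X.Φ1 X.Φ0) this
    have h1 : A.im = 0 := by simpa using h1
    have h2 : B.im = 0 := by simpa using h2
    rw [h1, h2, S.y0, S'.y0, mul_one, mul_one, ← X.p_zero, ← π_p] at h
    obtain ⟨h3, h4, -, h5, h6⟩ := π_inj X.Φ0 X.Φ0 h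
    exact ⟨QuadraticAlgebra.ext h3 h1, QuadraticAlgebra.ext h4 h2, QuadraticAlgebra.ext h6 (by simpa using h5)⟩
  · simp only [U]
    rw [mul_inv_eq_iff_eq_mul, ← mul_assoc, ← mul_assoc, r1, mul_assoc _ (X.r 1), r2', mul_assoc, mul_assoc _ (X.r 1), r3]
    simp only [← mul_assoc]
    rw [π_mul X.Φ0 X.Φ0, mul_assoc _ (y _), m1, ← mul_assoc, π_mul (Φa X.Φ0 X.Φ0) X.Φ0]
    simp only [QuadraticAlgebra.re_star, QuadraticAlgebra.im_star, CharTwo.neg_eq]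
    congr 4 <;> (ring_nf; try simp only [F4.two_eq_zero, mul_zero, add_zero, zero_add])
  · simp [U, S.y0, S'.y0, h_π X.Φ0]
  · obtain ⟨u, c, e', hc, rfl⟩ := S.memY (b := b) (b' := e) ⟨hv, all1 (a := 1) (f := fun c => X.p (c * b) 0 (c * e))
      (by simp [X.p_zero]) (by simpa using hr)⟩ t
    rcases (hΦ c).1 hc with rfl | rfl
    · exact ⟨⟨u, b⟩, ⟨e', e⟩, .inl (by simp [U, S'.y0])⟩
    · refine ⟨⟨u + b, b⟩, ⟨e' + e, e⟩, .inr ?_⟩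
      simp only [U, S'.y0, QuadraticAlgebra.im_zero, QuadraticAlgebra.re_zero, mul_one, mul_zero, add_zero]
      rw [mul_assoc, ← inv_mul_cancel_right (y b * _) (y b), ← πr0, a1 _ _ _ _ _ _ X.Φ1, ← mul_assoc,
        π_mul X.Φ0 X.Φ1]; simp [add_assoc, aa]
  · obtain ⟨u, c, e', hc, rfl⟩ := S'.memY (b := b) (b' := e) ⟨by simpa [swap, Hy.swap, St.swap, Pm.swap_p] using hv,
      all1 (a := 1) (f := fun c => X.swap.p (c * b) 0 (c * e)) (by simp [X.swap.p_zero])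
        (by simpa [swap, Hy.swap, St.swap, Pm.swap_p] using hr)⟩ t
    rw [swap_π]
    rcases (hΦ c).1 hc with rfl | rfl
    · exact ⟨⟨u, b⟩, ⟨e', e⟩, .inl (by simp [U, S.y0])⟩
    · refine ⟨⟨u + b, b⟩, ⟨e' + e, e⟩, .inr ?_⟩
      simp only [U, S.y0, QuadraticAlgebra.im_zero, QuadraticAlgebra.re_zero, mul_one, zero_mul, add_zero]
      rw [mul_assoc, ← inv_mul_cancel_right (y' b * _) (y' b), ← πr0, a2 _ _ _ _ _ _ X.Φ1, ← mul_assoc,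
        π_mul X.Φ0 X.Φ1]; simp [add_assoc, aa]

end H1

theorem St.cases [IsSimpleGroup G] (Y : St G) : Nonempty (Cy G) ∨ Nonempty (Su G) := by
  obtain ⟨X, -⟩ := Y.hy
  obtain ⟨X, -⟩ := X.h1
  obtain ⟨β, y, S⟩ := X.exSd
  obtain ⟨β', y', S'⟩ := X.swap.exSd
  by_cases h : β = 0
  · by_cases h' : β' = 0
    · subst h h'; exact .inl ⟨(H1.cy S S').choose⟩
    · exact absurd (H1.beta S' (X.swap_swap.symm ▸ S) h') (by simp [h])
  · exact .inr ⟨(H1.su S S' (H1.beta S S' h)).choose⟩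

end H10.Sz
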